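import Cfsg.Agent.Lib.OmegaTwelve.ThreeFour.Line
import Cfsg.Agent.Lib.Coprime.Generation
import Cfsg.Agent.Lib.PGroups.Omega

/-!
An element carrying a half-turn of the first factor into the stabiliser lies there.
-/

set_option autoImplicit false
set_option linter.unusedSectionVars false

namespace Cfsg.Agent.Lib.OmegaTwelve.ThreeFour

open Matrix Kronecker Module
open Cfsg.Agent.Lib.Subspaces.Transvection Cfsg.Agent.Lib.Subspaces.FormVec
  Cfsg.Agent.Lib.TensorMax.Lemmas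
  Cfsg.Agent.Lib.TensorFormMax.Basic Cfsg.Agent.Lib.TensorOrthMax.Side
open Cfsg.Agent.Lib.TensorOrthMax.Setup (eN eN_self eN_mulVec eN_add eN_zero eN_isometry eN_comp slice_one_kron)

variable {F : Type*} [Field F]

local notation "Vec" => Fin 3 × Fin 4 → F
local notation "V1" => Fin 3 → F
local notation "V2" => Fin 4 → F
local notation "Big" => Matrix (Fin 3 × Fin 4) (Fin 3 × Fin 4) F
local notation "A1" => Matrix (Fin 3) (Fin 3) F
local notation "A2" => Matrix (Fin 4) (Fin 4) F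
local notation "G" => GL (Fin 3 × Fin 4) F

/-- The pointwise stabiliser in `M` of `u ⊗ V₂`. -/
def sideStab (M : Subgroup (GL (Fin 3 × Fin 4) F)) (u : Fin 3 → F) : Subgroup (GL (Fin 3 × Fin 4) F) where
  carrier := {g | g ∈ M ∧ ∀ w, (g : Matrix (Fin 3 × Fin 4) (Fin 3 × Fin 4) F) *ᵥ tens u w = tens u w}
  one_mem' := ⟨M.one_mem, fun w => by rw [Units.val_one, one_mulVec]⟩
  mul_mem' := fun ha hb => ⟨M.mul_mem ha.1 hb.1, fun w => by rw [gl_mul_mulVec, hb.2, ha.2]⟩
  inv_mem' := fun {g} hg => ⟨M.inv_mem hg.1, fun w => by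
    conv_lhs => rw [← hg.2 w, gl_inv_mulVec]⟩

variable [Finite F] {f₁ : (Fin 3 → F) → (Fin 3 → F) → F} {f₂ : (Fin 4 → F) → (Fin 4 → F) → F}
  {Q : (Fin 3 × Fin 4 → F) → F} {M : Subgroup (GL (Fin 3 × Fin 4) F)}

namespace Data

variable (D : Data f₁ f₂ Q M)
include D

/-- A vector fixed by a half-turn up to its sign lies on the axis. -/
theorem fix_J {j : G} {u : V1} {s : F} (hJ : JEl f₁ j u s) {z : Vec} (hz : (j : Big) *ᵥ z = s • z) :
    ∃ n : V2, z = tens u n := by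
  have hs0 : s ≠ 0 := by rcases hJ.2.1 with rfl | rfl <;> simp
  refine ⟨fun d => f₁ (ctr (Pi.single d 1) z) u / f₁ u u, funext fun ⟨i, d⟩ => ?_⟩
  have h5 := congrArg (ctr (Pi.single d (1 : F))) hz
  rw [hJ.2.2, ctr_kron_one, ctr_smul] at h5
  have h6 := smul_right_injective _ hs0 h5
  rw [hu_mulVec D.s1 hJ.1, sub_eq_iff_eq_add] at h6
  have h7 := congrFun h6 i
  simp only [Pi.add_apply, Pi.smul_apply, smul_eq_mul] at h7
  have h8 : ctr (Pi.single d 1) z i = z (i, d) := by simp [ctr, Pi.single_apply]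
  rw [h8] at h7
  simp only [tens]
  have := D.s1.two
  have := hJ.1
  field_simp at h7 ⊢
  refine mul_left_cancel₀ D.s1.two ?_
  linear_combination -h7

theorem R_sub_one {R : G} {v z : V2} (hR : (R : Big) = (1 : A1) ⊗ₖ (1 + eN f₂ v z)) :
    (R : Big) - 1 = (1 : A1) ⊗ₖ eN f₂ v z := by
  rw [hR, kronecker_add, one_kronecker_one, add_sub_cancel_left]

theorem eN_sq {v z : V2} (hv : f₂ v v = 0) (hzv : f₂ z v = 0) (y : Vec) :
    ((1 : A1) ⊗ₖ eN f₂ v z) *ᵥ (((1 : A1) ⊗ₖ eN f₂ v z) *ᵥ y) =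
      tens (-(f₂ z z) • ctr (formVec f₂ v) y) v := by
  funext ⟨i, d⟩
  have h1 := congrFun ((slice_one_kron (eN f₂ v z) (((1 : A1) ⊗ₖ eN f₂ v z) *ᵥ y) i).trans
    (congrArg (eN f₂ v z *ᵥ ·) (slice_one_kron (eN f₂ v z) y i))) d
  rw [eN_comp D.s2 hv hzv hzv] at h1
  simp only [tens, slice, Pi.smul_apply, smul_eq_mul, ctr_eq_dot, D.s2.dot] at h1 ⊢
  refine Eq.trans h1 ?_
  ring

theorem ctr_eN {v z : V2} (hv : f₂ v v = 0) (hzv : f₂ z v = 0) (y : Vec) :
    ctr (formVec f₂ v) (((1 : A1) ⊗ₖ eN f₂ v z) *ᵥ y) = 0 := by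
  funext i
  rw [ctr_eq_dot, slice_one_kron, D.s2.dot, eN_mulVec D.s2, D.s2.subL, D.s2.subL, D.s2.smulL, D.s2.smulL,
    D.s2.smulL, hv, hzv]
  simp

theorem R_pow_char {p : ℕ} [Fact p.Prime] [CharP F p] (hp : 3 ≤ p) {R : G} {v z : V2} (hv : f₂ v v = 0)
    (hzv : f₂ z v = 0) (hR : (R : Big) = (1 : A1) ⊗ₖ (1 + eN f₂ v z)) : R ^ p = 1 := by
  refine D.pow_char_eq_one hp (Matrix.mulVec_injective (funext fun y => ?_))
  rw [pow_succ, pow_two, ← mulVec_mulVec, ← mulVec_mulVec, zero_mulVec, D.R_sub_one hR, D.eN_sq hv hzv,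
    D.ctr_eN hv hzv y]
  simp [tens_zero_left]

variable (hNR : NR f₂ M)
include hNR

/-- Commuting with an Eichler element of anisotropic parameter. -/
theorem cent_R {g R : G} (hg : g ∈ M) {v z : V2} (hv : v ≠ 0) (hvv : f₂ v v = 0) (hzv : f₂ z v = 0)
    (hzz : f₂ z z ≠ 0) (hR : (R : Big) = (1 : A1) ⊗ₖ (1 + eN f₂ v z)) (hc : g * R = R * g) :
    g ∈ Cfsg.Geo.kroneckerSubgroup 3 4 F := by
  obtain ⟨v', t, hb⟩ := exists_hb D.s2 D.minus hv hvv
  refine D.line hNR hg hv hvv (v' := v) fun a => ?_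
  set N : Big := (1 : A1) ⊗ₖ eN f₂ v z with hN
  have hgN : (g : Big) * N = N * (g : Big) := by
    rw [hN, ← D.R_sub_one hR, mul_sub, sub_mul, mul_one, one_mul, ← Units.val_mul, ← Units.val_mul, hc]
  set y := tens ((-(f₂ z z))⁻¹ • a) v'
  have hy : N *ᵥ (N *ᵥ y) = tens a v := by
    rw [hN, D.eN_sq hvv hzv, D.ctr_ft, hb.v'v D.s2, one_smul, smul_inv_smul₀ (neg_ne_zero.2 hzz)]
  refine ⟨-(f₂ z z) • ctr (formVec f₂ v) ((g : Big) *ᵥ y), ?_⟩
  rw [← hy, mulVec_mulVec _ (g : Big), hgN, ← mulVec_mulVec, mulVec_mulVec _ (g : Big), hgN, ← mulVec_mulVec,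
    hN, D.eN_sq hvv hzv]

/-- An element of the pointwise stabiliser of `u ⊗ V₂` which is in the stabiliser. -/
theorem side_rot {g : G} {u : V1} (hu0 : f₁ u u ≠ 0) (hg : g ∈ sideStab M u)
    (hk : g ∈ Cfsg.Geo.kroneckerSubgroup 3 4 F) :
    ∃ (a : A1) (μ : F), Rot f₁ f₂ g a (μ • (1 : A2)) ∧ a *ᵥ u = μ • u ∧ (μ = 1 ∨ μ = -1) := by
  obtain ⟨a, b, h⟩ := D.exists_rot_of_mem hg.1 hk
  set μ := f₁ (a *ᵥ u) u / f₁ u u with hμ
  have hun : u ≠ 0 := fun e => hu0 (by rw [e, D.s1.zeroL])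
  obtain ⟨η, hη⟩ := exists_dot_eq_one hun
  set c := η ⬝ᵥ (a *ᵥ u) with hc
  have hb : ∀ w, c • (b *ᵥ w) = w := fun w => by
    have h1 := hg.2 w
    rw [h.eq, kron_apply] at h1
    funext d
    have h2 := congrArg (fun z : Vec => ∑ i, η i * z (i, d)) h1
    simp only [tens, ← mul_assoc, ← Finset.sum_mul] at h2
    rw [show ∑ i, η i * u i = 1 from hη, one_mul] at h2
    exact h2
  obtain ⟨w0, hw0⟩ := D.exists_aniso2
  have hc2 : c * c = 1 := by
    have h1 := h.isob w0 w0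
    have h2 := congrArg (fun w => f₂ w w) (hb w0)
    simp only [D.s2.smulL, D.s2.smulR, h1] at h2
    exact mul_right_cancel₀ hw0 (by linear_combination h2)
  have hc0 : c ≠ 0 := fun e => by rw [e, mul_zero] at hc2; exact zero_ne_one hc2
  have hbc : b = c • 1 := Matrix.mulVec_injective (funext fun w => by
    have h1 := congrArg (c • ·) (hb w)
    simp only [smul_smul, hc2, one_smul] at h1
    rw [smul_mulVec, one_mulVec, h1])
  have hau : a *ᵥ u = c • u := by
    have h1 := hg.2 w0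
    rw [h.eq, kron_apply, hbc, smul_mulVec, one_mulVec, tens_smul_right, ← tens_smul_left] at h1
    have h2 := tens_injective (fun e => hw0 (by rw [e, D.s2.zeroL])) h1
    rw [← one_smul F (a *ᵥ u), ← hc2, ← smul_smul, h2]
  exact ⟨a, c, hbc ▸ h, hau, mul_self_eq_one_iff.1 hc2⟩

/-- The pointwise stabiliser of `u ⊗ V₂` is in the stabiliser. -/
theorem side_le {u : V1} (hu0 : f₁ u u ≠ 0) {v v' : V2} {t : Fin 2 → V2} (hb : HB f₂ v v' t) :
    sideStab M u ≤ Cfsg.Geo.kroneckerSubgroup 3 4 F := by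
  classical
  obtain ⟨p, hp, hch, hp3, hodd⟩ := D.exists_char
  have hv := hb.ne_v D.s2
  obtain ⟨R₀, hR₀M, -, hR₀⟩ := D.exists_R hb (hb.tv 0)
  obtain ⟨R₁, hR₁M, -, hR₁⟩ := D.exists_R hb (hb.tv 1)
  set T := sideStab M u with hT
  have hnorm : ∀ {R : G} {z : V2}, R ∈ M → (R : Big) = (1 : A1) ⊗ₖ (1 + eN f₂ v z) →
      R ∈ Subgroup.normalizer (T : Set G) := by
    intro R z hRM hR
    refine Subgroup.mem_normalizer_fintype fun g hg => ⟨M.mul_mem (M.mul_mem hRM hg.1) (M.inv_mem hRM),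
      fun w => ?_⟩
    obtain ⟨w, rfl⟩ : ∃ w0, (1 + eN f₂ v z) *ᵥ w0 = w := by
      have hinj : Function.Injective ((1 + eN f₂ v z) *ᵥ ·) := fun w1 w2 e => by
        have h1 := gl_mulVec_injective R (show (R : Big) *ᵥ tens u w1 = (R : Big) *ᵥ tens u w2 by
          rw [hR, kron_apply, kron_apply]; exact congrArg _ e)
        obtain ⟨i, hi⟩ := Function.ne_iff.1 (show u ≠ 0 from fun e => hu0 (by rw [e, D.s1.zeroL]))
        exact funext fun d => mul_left_cancel₀ hi (congrFun h1 (i, d))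
      exact (LinearMap.injective_iff_surjective (f := (1 + eN f₂ v z).mulVecLin)).1 hinj w
    have e : tens u ((1 + eN f₂ v z) *ᵥ w) = (R : Big) *ᵥ tens u w := by rw [hR, kron_apply, one_mulVec]
    rw [e, gl_mul_mulVec, gl_mul_mulVec, gl_inv_mulVec, hg.2]
  have hn0 := hnorm hR₀M hR₀
  have hn1 := hnorm hR₁M hR₁
  -- the stabiliser has order prime to the characteristic
  have hpT : ¬ p ∣ Nat.card T := by
    intro hdvd
    obtain ⟨g, hg⟩ := exists_prime_orderOf_dvd_card' p hdvd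
    set K := T ⊔ Subgroup.zpowers R₀ with hK
    have hKn : K ≤ Subgroup.normalizer (T : Set G) :=
      sup_le Subgroup.le_normalizer (Subgroup.zpowers_le.2 hn0)
    have hgK : (g : G) ∈ K := Subgroup.mem_sup_left g.2
    have hRK : R₀ ∈ K := Subgroup.mem_sup_right (Subgroup.mem_zpowers _)
    have hpz : ∀ {x : K}, x ^ p = 1 → IsPGroup p (Subgroup.zpowers x) := fun {x} hx => by
      obtain ⟨k, -, hk⟩ := (Nat.dvd_prime_pow hp.out).1 (show orderOf x ∣ p ^ 1 by
        rw [pow_one]; exact orderOf_dvd_of_pow_eq_one hx)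
      exact IsPGroup.of_card (n := k) (by rw [Nat.card_zpowers, hk])
    obtain ⟨P, hP⟩ := (hpz (x := ⟨R₀, hRK⟩) (Subtype.ext (D.R_pow_char hp3 hb.vv (hb.tv 0) hR₀))).exists_le_sylow
    obtain ⟨P', hP'⟩ := (hpz (x := ⟨(g : G), hgK⟩) (Subtype.ext (by
      rw [SubmonoidClass.coe_pow]
      exact congrArg Subtype.val (orderOf_dvd_iff_pow_eq_one.1 hg.dvd)))).exists_le_sylow
    obtain ⟨k, hk⟩ := MulAction.exists_smul_eq K P' P
    have hTn : (T.subgroupOf K).Normal :=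
      Subgroup.normal_subgroupOf_iff_le_normalizer le_sup_left |>.2 hKn
    set N := (T.subgroupOf K).subgroupOf (P : Subgroup K) with hN
    have hN0 : N ≠ ⊥ := by
      intro e
      set g' : K := k * ⟨(g : G), hgK⟩ * k⁻¹
      have hgP : g' ∈ (P : Subgroup K) := by
        rw [← hk]
        exact ⟨_, hP' (Subgroup.mem_zpowers _), rfl⟩
      have h1 : (⟨g', hgP⟩ : (P : Subgroup K)) ∈ N := Subgroup.mem_subgroupOf.2 (hTn.conj_mem _
        (Subgroup.mem_subgroupOf.2 g.2) k)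
      rw [e, Subgroup.mem_bot] at h1
      have h2 : g' = 1 := congrArg Subtype.val h1
      rw [conj_eq_one_iff] at h2
      have h3 : g = 1 := Subtype.ext (congrArg Subtype.val h2 :)
      rw [h3, orderOf_one] at hg
      exact hp.out.ne_one hg.symm
    have hNn : N.Normal := hTn.subgroupOf _
    have hne := Cfsg.Agent.Lib.PGroups.normal_inf_center_ne_bot P.2 N hN0
    obtain ⟨c, hc, hc1⟩ := ((N ⊓ Subgroup.center (P : Subgroup K)).bot_or_exists_ne_one).resolve_left hne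
    have hcT : ((c : K) : G) ∈ T := Subgroup.mem_subgroupOf.1 (Subgroup.mem_subgroupOf.1 hc.1)
    have hcR : ((c : K) : G) * R₀ = R₀ * ((c : K) : G) := by
      have h1 := Subgroup.mem_center_iff.1 hc.2 ⟨⟨R₀, hRK⟩, hP (Subgroup.mem_zpowers _)⟩
      exact (congrArg (fun z : (P : Subgroup K) => ((z : K) : G)) h1).symm
    have hck := D.cent_R hNR hcT.1 hv hb.vv (hb.tv 0) (hb.tne 0) hR₀ hcR
    obtain ⟨a, μ, hr, hau, hμ⟩ := D.side_rot hNR hu0 hcT hck
    -- its order is a power of the characteristic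
    obtain ⟨n, hn⟩ := P.2 c
    have hn' : ((c : K) : G) ^ p ^ n = 1 := by
      have := congrArg (fun z : (P : Subgroup K) => ((z : K) : G)) hn
      simpa using this
    have hpow : ∀ m : ℕ, Rot f₁ f₂ (((c : K) : G) ^ m) (a ^ m) (μ ^ m • (1 : A2)) := by
      intro m
      induction m with
      | zero => simpa using D.rot_one
      | succ m ih =>
        have := D.rot_mul ih hr
        rwa [← pow_succ, ← pow_succ, smul_mul_smul_comm, one_mul, ← pow_succ] at this
    obtain ⟨ha1, hb1⟩ := D.rot_unique (hpow (p ^ n)) (hn' ▸ D.rot_one)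
    have hμ1 : μ = 1 := by
      rcases hμ with rfl | rfl
      · rfl
      · exfalso
        rw [(hodd.pow).neg_one_pow, neg_one_smul] at hb1
        have h1 := congrFun (congrFun hb1 0) 0
        simp only [Matrix.neg_apply, Matrix.one_apply_eq] at h1
        exact D.neg_one_ne h1
    have hanil : (a - 1) ^ (p ^ n) = 0 := by
      have : CharP A1 p := Matrix.charP p
      rw [sub_pow_char_pow_of_commute p n (Commute.one_right _), ha1, one_pow, sub_self]
    have ha : a = 1 := eq_one_of_fix D.s1 hr.isoa hu0 (by rw [hau, hμ1, one_smul]) hanil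
    refine hc1 (Subtype.ext (Subtype.ext (Units.ext ?_)))
    rw [hr.eq, ha, hμ1, one_smul, one_kronecker_one]
    rfl
  -- generation by centralisers
  have hR01 : Commute R₀ R₁ := Units.ext (by
    rw [Units.val_mul, Units.val_mul, hR₀, hR₁, ← mul_kronecker_mul, ← mul_kronecker_mul,
      eN_add D.s2 hb.vv (hb.tv 0) (hb.tv 1), eN_add D.s2 hb.vv (hb.tv 1) (hb.tv 0), add_comm (t 0)])
  have hp0 := D.R_pow_char hp3 hb.vv (hb.tv 0) hR₀
  have hp1 := D.R_pow_char hp3 hb.vv (hb.tv 1) hR₁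
  set E := Subgroup.closure ({R₀, R₁} : Set G) with hE
  have hEc : IsMulCommutative E := by
    rw [← Subgroup.le_centralizer_iff_isMulCommutative, hE, Subgroup.closure_le]
    intro x hx
    simp only [SetLike.mem_coe]
    rw [Subgroup.centralizer_closure, Subgroup.mem_centralizer_iff]
    intro y hy
    rcases hx with rfl | rfl <;> rcases hy with rfl | rfl
    · rfl
    · exact hR01.eq.symm
    · exact hR01.eq
    · rfl
  have hEp : IsPGroup p E := fun g => ⟨1, by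
    rw [pow_one]
    obtain ⟨g, hg⟩ := g
    refine Subtype.ext ?_
    show g ^ p = 1
    induction hg using Subgroup.closure_induction with
    | mem x hx => rcases hx with rfl | rfl <;> assumption
    | one => exact one_pow p
    | mul x y hx hy hxp hyp =>
      have hxy : Commute x y :=
        congrArg Subtype.val (hEc.is_comm.comm (⟨x, hx⟩ : E) ⟨y, hy⟩)
      rw [hxy.mul_pow, hxp, hyp, one_mul]
    | inv x hx hxp => rw [inv_pow, hxp, inv_one]⟩
  obtain ⟨n, hn⟩ := hEp.exists_card_eq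
  have hcop : p.Coprime (Nat.card T) := hp.out.coprime_iff_not_dvd.2 hpT
  have hgen := Cfsg.Agent.Lib.Coprime.le_lineCentralizers (q := p) hR01 (K := T) hn0 hn1
    (by rw [hp0]; exact one_mem _) (by rw [hp1]; exact one_mem _) (by rw [hn]; exact hcop.pow_left n) hcop
  refine hgen.trans (sup_le (fun g hg => ?_) (iSup_le fun s g hg => ?_))
  · exact D.cent_R hNR hg.1.1 hv hb.vv (hb.tv 1) (hb.tne 1) hR₁
      (Subgroup.mem_centralizer_singleton_iff.1 hg.2)
  · have hz : ∀ m : ℕ, ((R₁ ^ m : G) : Big) = (1 : A1) ⊗ₖ (1 + eN f₂ v ((m : F) • t 1)) := by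
      intro m
      induction m with
      | zero => simp [eN_zero D.s2, one_kronecker_one]
      | succ m ih =>
        rw [pow_succ, Units.val_mul, ih, hR₁, ← mul_kronecker_mul, one_mul,
          eN_add D.s2 hb.vv (by rw [D.s2.smulL, hb.tv, mul_zero]) (hb.tv 1), Nat.cast_succ, add_smul, one_smul]
    set z := t 0 + (s.val : F) • t 1 with hzdef
    have hRz : ((R₀ * R₁ ^ s.val : G) : Big) = (1 : A1) ⊗ₖ (1 + eN f₂ v z) := by
      rw [Units.val_mul, hR₀, hz, ← mul_kronecker_mul, one_mul,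
        eN_add D.s2 hb.vv (hb.tv 0) (by rw [D.s2.smulL, hb.tv, mul_zero])]
    refine D.cent_R hNR hg.1.1 hv hb.vv (z := z) (by simp [hzdef, D.s2.addL, D.s2.smulL, hb.tv]) (fun e => ?_)
      hRz (Subgroup.mem_centralizer_singleton_iff.1 hg.2)
    have h1 := congrFun (hb.aniso ![1, (s.val : F)] (by
      rw [hzdef, D.s2.expand, hb.torth] at e
      simp only [Fin.sum_univ_two, Matrix.cons_val_zero, Matrix.cons_val_one]
      linear_combination e)) 0
    simp at h1

/-- An element carrying a half-turn into the stabiliser lies there. -/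
theorem centJ {x j : G} {u : V1} {s : F} (hJ : JEl f₁ j u s) (hj : j ∈ M) (hx : x ∈ M)
    (hk : x * j * x⁻¹ ∈ Cfsg.Geo.kroneckerSubgroup 3 4 F) : x ∈ Cfsg.Geo.kroneckerSubgroup 3 4 F := by
  obtain ⟨p, hp, hch, hp3, hodd⟩ := D.exists_char
  have hf := D.s2
  obtain ⟨u', hJ'⟩ := D.J_of_conj hJ hx hj hk
  have hu0 := hJ.1
  have hu'0 := hJ'.1
  have hn : ∀ w, ∃ n, (x : Big) *ᵥ tens u w = tens u' n := fun w => by
    refine D.fix_J hJ' ?_
    rw [gl_mul_mulVec, gl_mul_mulVec, gl_inv_mulVec, hJ.2.2, kron_apply, hu_self D.s1 hu0, smul_mulVec,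
      one_mulVec, tens_smul_right, mulVec_smul]
  choose N hN using hn
  set ν := f₁ u u / f₁ u' u' with hν
  have hν0 : ν ≠ 0 := div_ne_zero hu0 hu'0
  have hsim : ∀ w w', f₂ (N w) (N w') = ν * f₂ w w' := fun w w' => by
    have e := D.isoB hx (tens u w) (tens u w')
    rw [hN, hN, D.tensB, D.tensB] at e
    rw [hν, div_mul_eq_mul_div, eq_div_iff hu'0]
    linear_combination e
  obtain ⟨i0, hi0⟩ := Function.ne_iff.1 (show u' ≠ 0 from fun e => hu'0 (by rw [e, D.s1.zeroL]))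
  have hNinj : ∀ {n n' : V2}, tens u' n = tens u' n' → n = n' := fun h =>
    funext fun d => mul_left_cancel₀ hi0 (congrFun h (i0, d))
  have hNadd : ∀ a b, N (a + b) = N a + N b := fun a b => hNinj (by
    rw [← hN, tens_add_right, mulVec_add, hN, hN, tens_add_right])
  have hNsmul : ∀ (c : F) a, N (c • a) = c • N a := fun c a => hNinj (by
    rw [← hN, tens_smul_right, mulVec_smul, hN, tens_smul_right])
  obtain ⟨v, hv, hvv⟩ := hf.exists_iso (by omega)
  obtain ⟨v', t, hb⟩ := exists_hb hf D.minus hv hvv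
  have hNv : f₂ (N v) (N v) = 0 := by rw [hsim, hvv, mul_zero]
  have hNv0 : N v ≠ 0 := fun e => by
    have := hsim v v'
    rw [e, hf.zeroL, hb.vv', mul_one] at this
    exact hν0 this.symm
  obtain ⟨w', t', hb'⟩ := exists_hb hf D.minus hNv0 hNv
  obtain ⟨R, hRM, -, hR⟩ := D.exists_R hb (hb.tv 0)
  set z' := ν⁻¹ • N (t 0) with hz'
  have hz'v : f₂ z' (N v) = 0 := by rw [hf.smulL, hsim, hb.tv, mul_zero, mul_zero]
  have hz'z : f₂ z' z' ≠ 0 := by
    rw [hf.smulL, hf.smulR, hsim, inv_mul_cancel_left₀ hν0]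
    exact mul_ne_zero (inv_ne_zero hν0) (hb.tne 0)
  obtain ⟨R', hR'M, -, hR'⟩ := D.exists_R hb' hz'v
  set y : G := x * R * x⁻¹ with hy
  have hyM : y ∈ M := M.mul_mem (M.mul_mem hx hRM) (M.inv_mem hx)
  have hyx : ∀ w, (y : Big) *ᵥ tens u' (N w) = tens u' ((1 + eN f₂ (N v) z') *ᵥ N w) := fun w => by
    rw [hy, gl_mul_mulVec, gl_mul_mulVec, ← hN, gl_inv_mulVec, hR, kron_apply, one_mulVec, hN]
    congr 1
    rw [add_mulVec, one_mulVec, add_mulVec, one_mulVec, hNadd, eN_mulVec hf, eN_mulVec hf,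
      sub_eq_add_neg, sub_eq_add_neg, hNadd, hNadd, ← neg_smul, ← neg_smul, hNsmul, hNsmul, hNsmul]
    simp only [hz', hf.smulR, hf.smulL, hsim]
    match_scalars <;> field_simp <;> ring
  have hsurj : ∀ n, ∃ w, N w = n := by
    let L : V2 →ₗ[F] V2 := { toFun := N, map_add' := hNadd, map_smul' := hNsmul }
    refine (LinearMap.injective_iff_surjective (f := L)).1 fun a b e => ?_
    refine sub_eq_zero.1 (hf.eq_zero fun w => ?_)
    have h1 : ν * f₂ w a = ν * f₂ w b := by rw [← hsim, ← hsim, show N a = N b from e]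
    rw [hf.subR, mul_left_cancel₀ hν0 h1, sub_self]
  have hside : y * R'⁻¹ ∈ sideStab M u' := by
    refine ⟨M.mul_mem hyM (M.inv_mem hR'M), fun n => ?_⟩
    have hinj : Function.Injective ((1 + eN f₂ (N v) z') *ᵥ ·) := fun a b e => hNinj (gl_mulVec_injective R'
      (show (R' : Big) *ᵥ tens u' a = (R' : Big) *ᵥ tens u' b by
        rw [hR', kron_apply, kron_apply]; exact congrArg _ e))
    obtain ⟨m, rfl⟩ : ∃ m, (1 + eN f₂ (N v) z') *ᵥ m = n :=
      (LinearMap.injective_iff_surjective (f := (1 + eN f₂ (N v) z').mulVecLin)).1 hinj n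
    obtain ⟨w, rfl⟩ := hsurj m
    have e : tens u' ((1 + eN f₂ (N v) z') *ᵥ N w) = (R' : Big) *ᵥ tens u' (N w) := by
      rw [hR', kron_apply, one_mulVec]
    rw [gl_mul_mulVec]
    conv_lhs => rw [e, gl_inv_mulVec, hyx]
  obtain ⟨a, μ, hr, hau, hμ⟩ := D.side_rot hNR hu'0 hside (D.side_le hNR hu'0 hb' hside)
  set B' := 1 + eN f₂ (N v) z' with hB'
  have hB1 : Rot f₁ f₂ R' 1 B' := by
    obtain ⟨a'', b'', h''⟩ := D.exists_rot_of_mem hR'M (mem_kron hR')
    obtain ⟨η, hη⟩ := exists_dot_eq_one (show N v ≠ 0 from hNv0)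
    refine ⟨hR', fun q r => by rw [one_mulVec, one_mulVec], eN_isometry hf hNv hz'v, det_one, ?_⟩
    set z'' := (2 : F)⁻¹ • z' with hz''def
    have hz'' : f₂ z'' (N v) = 0 := by rw [hf.smulL, hz'v, mul_zero]
    have h1 := Iso.det_sq hf (a := 1 + eN f₂ (N v) z'') (eN_isometry hf hNv hz'')
    rw [← det_mul, eN_add hf hNv hz'' hz'', ← two_smul F z'', hz''def, smul_inv_smul₀ hf.two] at h1
    exact h1
  have hry : Rot f₁ f₂ y a (μ • B') := by
    have := D.rot_mul hr hB1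
    rwa [inv_mul_cancel_right, mul_one, Matrix.smul_mul, one_mul] at this
  have hyp : y ^ p = 1 := by
    rw [hy, conj_pow, D.R_pow_char hp3 hb.vv (hb.tv 0) hR, mul_one, mul_inv_cancel]
  have hpow : ∀ (m : ℕ), Rot f₁ f₂ (y ^ m) (a ^ m) (μ ^ m • B' ^ m) := by
    intro m
    induction m with
    | zero => simpa using D.rot_one
    | succ m ih =>
      have := D.rot_mul ih hry
      rwa [← pow_succ, ← pow_succ, smul_mul_smul_comm, ← pow_succ, ← pow_succ] at this
  obtain ⟨ha1, hb1⟩ := D.rot_unique (hpow p) (hyp ▸ D.rot_one)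
  have hBp : B' ^ p = 1 := by
    have hk : ∀ m : ℕ, Rot f₁ f₂ (R' ^ m) 1 (B' ^ m) := by
      intro m
      induction m with
      | zero => simpa using D.rot_one
      | succ m ih => simpa [pow_succ] using D.rot_mul ih hB1
    exact (D.rot_unique (hk p) ((D.R_pow_char hp3 hNv hz'v hR') ▸ D.rot_one)).2
  have hμ1 : μ = 1 := by
    rcases hμ with rfl | rfl
    · rfl
    · exfalso
      rw [hodd.neg_one_pow, neg_one_smul, hBp] at hb1
      have h1 := congrFun (congrFun hb1 0) 0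
      simp only [Matrix.neg_apply, Matrix.one_apply_eq] at h1
      exact D.neg_one_ne h1
  have hanil : (a - 1) ^ p = 0 := by
    have : CharP A1 p := Matrix.charP p
    rw [sub_pow_char_of_commute p (Commute.one_right _), ha1, one_pow, sub_self]
  have ha : a = 1 := eq_one_of_fix D.s1 hr.isoa hu'0 (by rw [hau, hμ1, one_smul]) hanil
  have hye : (y : Big) = (1 : A1) ⊗ₖ (1 + eN f₂ (N v) z') := by rw [hry.eq, ha, hμ1, one_smul]
  refine D.line hNR hx hv hvv (v' := N v) fun c => ?_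
  have hxy : ∀ q, (x : Big) *ᵥ ((((1 : A1) ⊗ₖ eN f₂ v (t 0))) *ᵥ q) =
      ((1 : A1) ⊗ₖ eN f₂ (N v) z') *ᵥ ((x : Big) *ᵥ q) := fun q => by
    rw [← D.R_sub_one hR, ← D.R_sub_one hye, sub_mulVec, sub_mulVec, one_mulVec, one_mulVec, mulVec_sub, hy,
      gl_mul_mulVec, gl_mul_mulVec, gl_inv_mulVec]
  set q := tens ((-(f₂ (t 0) (t 0)))⁻¹ • c) v'
  have hq : ((1 : A1) ⊗ₖ eN f₂ v (t 0)) *ᵥ (((1 : A1) ⊗ₖ eN f₂ v (t 0)) *ᵥ q) = tens c v := by
    rw [D.eN_sq hvv (hb.tv 0), D.ctr_ft, hb.v'v hf, one_smul, smul_inv_smul₀ (neg_ne_zero.2 (hb.tne 0))]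
  exact ⟨_, by rw [← hq, hxy, hxy, D.eN_sq hNv hz'v]⟩

end Data

end Cfsg.Agent.Lib.OmegaTwelve.ThreeFour
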