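import Cfsg.Agent.Lib.OmegaTwelve.ThreeFour.CentJ
import Cfsg.Agent.Lib.Involutions.Basic
import Mathlib.GroupTheory.Transfer
import Mathlib.RingTheory.IntegralDomain

/-!
An element commuting with a product of two reflections of the second factor lies in the stabiliser.
-/

set_option autoImplicit false
set_option linter.unusedSectionVars false

namespace Cfsg.Agent.Lib.OmegaTwelve.ThreeFour

open Matrix Kronecker Module
open Cfsg.Agent.Lib.Subspaces.Transvection Cfsg.Agent.Lib.Subspaces.FormVec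
  Cfsg.Agent.Lib.TensorMax.Lemmas
  Cfsg.Agent.Lib.TensorFormMax.Basic Cfsg.Agent.Lib.TensorOrthMax.Side
  Cfsg.Agent.Lib.TensorOrthMax.InvariantOrth

variable {F : Type*} [Field F]

local notation "Vec" => Fin 3 × Fin 4 → F
local notation "V1" => Fin 3 → F
local notation "V2" => Fin 4 → F
local notation "Big" => Matrix (Fin 3 × Fin 4) (Fin 3 × Fin 4) F
local notation "A1" => Matrix (Fin 3) (Fin 3) F
local notation "A2" => Matrix (Fin 4) (Fin 4) F
local notation "G" => GL (Fin 3 × Fin 4) F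

theorem eq_zero_of_smul_eq {F : Type*} [Field F] {W : Type*} [AddCommGroup W] [Module F W] {a b : F} (h : a ≠ b)
    {z : W} (e : b • z = a • z) : z = 0 := by
  rw [← sub_eq_zero, ← sub_smul, smul_eq_zero] at e
  exact e.resolve_left (sub_ne_zero.2 h.symm)

/-- The pointwise stabiliser in `M` of the tensors with slices in the span of `t`. -/
def outStab (M : Subgroup (GL (Fin 3 × Fin 4) F)) (t : Fin 2 → Fin 4 → F) :
    Subgroup (GL (Fin 3 × Fin 4) F) where
  carrier := {g | g ∈ M ∧ ∀ a l, (g : Matrix (Fin 3 × Fin 4) (Fin 3 × Fin 4) F) *ᵥ tens a (t l) = tens a (t l)}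
  one_mem' := ⟨M.one_mem, fun a l => by rw [Units.val_one, one_mulVec]⟩
  mul_mem' := fun ha hb => ⟨M.mul_mem ha.1 hb.1, fun a l => by rw [gl_mul_mulVec, hb.2, ha.2]⟩
  inv_mem' := fun {g} hg => ⟨M.inv_mem hg.1, fun a l => by
    conv_lhs => rw [← hg.2 a l, gl_inv_mulVec]⟩

variable [Finite F] {f₁ : (Fin 3 → F) → (Fin 3 → F) → F} {f₂ : (Fin 4 → F) → (Fin 4 → F) → F}
  {Q : (Fin 3 × Fin 4 → F) → F} {M : Subgroup (GL (Fin 3 × Fin 4) F)}

namespace Data

variable (D : Data f₁ f₂ Q M)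
include D

/-- An adapted frame from a pair whose plane has an isotropic vector. -/
theorem hb_of_pair {x x' y y' : V2} (hp : Pair f₂ x x') (hq : Pair f₂ y y')
    (hxy : f₂ x y = 0) (hxy' : f₂ x y' = 0) (hx'y : f₂ x' y = 0) (hx'y' : f₂ x' y' = 0)
    {v : V2} (hv : v ∈ Submodule.span F {x, x'}) (hv0 : v ≠ 0) (hvv : f₂ v v = 0) :
    ∃ v', v' ∈ Submodule.span F {x, x'} ∧ HB f₂ v v' ![y, y'] := by
  have hf := D.s2
  obtain ⟨α, β, rfl⟩ := Submodule.mem_span_pair.1 hv
  simp only [hf.addL, hf.addR, hf.smulL, hf.smulR, hp.orth, hf.comm x x'] at hvv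
  have hα : α ≠ 0 := fun e => by
    subst e
    have h1 : β * β * f₂ x' x' = 0 := by linear_combination hvv
    exact hv0 (by
      rw [zero_smul, zero_add, mul_self_eq_zero.1 ((mul_eq_zero.1 h1).resolve_right hp.ne'), zero_smul])
  have hk : 2 * (α * α * f₂ x x) ≠ 0 := mul_ne_zero hf.two (mul_ne_zero (mul_ne_zero hα hα) hp.ne)
  set c := (2 * (α * α * f₂ x x))⁻¹ with hc
  refine ⟨(c * α) • x + (-(c * β)) • x', Submodule.mem_span_pair.2 ⟨_, _, rfl⟩, ?_, ?_, ?_,
    fun l => by fin_cases l <;> [exact hq.ne; exact hq.ne'], hq.orth, fun l => ?_, fun l => ?_, fun e he => ?_⟩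
  · simp only [hf.addL, hf.addR, hf.smulL, hf.smulR, hp.orth, hf.comm x x']
    linear_combination hvv
  · simp only [hf.addL, hf.addR, hf.smulL, hf.smulR, hp.orth, hf.comm x x']
    linear_combination c * c * hvv
  · simp only [hf.addL, hf.addR, hf.smulL, hf.smulR, hp.orth, hf.comm x x']
    have h1 : c * (2 * (α * α * f₂ x x)) = 1 := inv_mul_cancel₀ hk
    linear_combination h1 - c * hvv
  · fin_cases l <;> simp [-neg_smul, hf.addR, hf.smulR, hf.comm x y, hf.comm x' y, hf.comm x y', hf.comm x' y', hxy, hxy',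
      hx'y, hx'y']
  · fin_cases l <;> simp [-neg_smul, hf.addR, hf.smulR, hf.comm x y, hf.comm x' y, hf.comm x y', hf.comm x' y', hxy, hxy',
      hx'y, hx'y']
  · simp only [Fin.sum_univ_two, Matrix.cons_val_zero, Matrix.cons_val_one] at he
    set w := e 0 • y + e 1 • y' with hw
    have hww : f₂ w w = 0 := by
      simp only [hw, hf.addL, hf.addR, hf.smulL, hf.smulR, hq.orth, hf.comm y y']
      linear_combination he
    set v := α • x + β • x'
    have hwv : f₂ w v = 0 := by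
      simp [v, hw, hf.addL, hf.addR, hf.smulL, hf.smulR, hf.comm x y, hf.comm x' y, hf.comm x y', hf.comm x' y',
        hxy, hxy', hx'y, hx'y']
    have hvv' : f₂ v v = 0 := by
      simp only [v, hf.addL, hf.addR, hf.smulL, hf.smulR, hp.orth, hf.comm x x']
      linear_combination hvv
    obtain ⟨a, ha⟩ := Submodule.mem_span_singleton.1 (D.minus v w hv0 hvv' hww hwv)
    have h2 := congrArg (fun z => f₂ z y) ha
    have h3 := congrArg (fun z => f₂ z y') ha
    simp [v, hw, hf.addL, hf.smulL, hxy, hx'y, hf.comm y y', hq.orth, hq.ne] at h2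
    simp [v, hw, hf.addL, hf.smulL, hxy', hx'y', hq.orth, hq.ne'] at h3
    funext l
    fin_cases l <;> simp_all

variable (hNR : NR f₂ M) {v v' : Fin 4 → F} {t : Fin 2 → Fin 4 → F} (h : HB f₂ v v' t)
include hNR h

/-- The elements of the stabiliser fixing the tensors over the anisotropic plane. -/
theorem out_rot {g : G} (hg : g ∈ outStab M t) (hk : g ∈ Cfsg.Geo.kroneckerSubgroup 3 4 F) :
    ∃ (b : A2) (μ : F), Rot f₁ f₂ g 1 b ∧ μ ≠ 0 ∧ b *ᵥ v = μ • v ∧ b *ᵥ v' = μ⁻¹ • v' ∧ ∀ l, b *ᵥ t l = t l := by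
  have hf := D.s2
  obtain ⟨b, hb⟩ := D.rot_fix hg.1 hk (fun e => h.tne 0 (by rw [e, hf.zeroL])) (fun a => hg.2 a 0)
  obtain ⟨u0, hu0⟩ := D.exists_pair1
  have hbt : ∀ l, b *ᵥ t l = t l := fun l => by
    have h1 := hg.2 u0 l
    rw [hb.eq, kron_apply, one_mulVec] at h1
    obtain ⟨i, hi⟩ := Function.ne_iff.1 (show u0 ≠ 0 from fun e => hu0 (by rw [e, D.s1.zeroL]))
    exact funext fun d => mul_left_cancel₀ hi (congrFun h1 (i, d))
  have hperp : ∀ z, (∀ l, f₂ z (t l) = 0) → ∀ l, f₂ (b *ᵥ z) (t l) = 0 := fun z hz l => by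
    rw [← hbt l, hb.isob, hz]
  have hexp : ∀ z, (∀ l, f₂ z (t l) = 0) → z = f₂ z v' • v + f₂ z v • v' := fun z hz => by
    conv_lhs => rw [h.expand hf z]
    simp [hz]
  have e1 := hexp _ (hperp v fun l => (hf.comm _ _).trans (h.tv l))
  have e2 := hexp _ (hperp v' fun l => (hf.comm _ _).trans (h.tv' l))
  set A := f₂ (b *ᵥ v) v'
  set B := f₂ (b *ᵥ v) v
  set C := f₂ (b *ᵥ v') v'
  set E := f₂ (b *ᵥ v') v
  have hAB : 2 * (A * B) = 0 := by
    have h1 := hb.isob v v
    rw [e1, h.vv] at h1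
    simp only [hf.addL, hf.addR, hf.smulL, hf.smulR, h.vv, h.v'v', h.vv', h.v'v hf] at h1
    linear_combination h1
  have hCE : 2 * (C * E) = 0 := by
    have h1 := hb.isob v' v'
    rw [e2, h.v'v'] at h1
    simp only [hf.addL, hf.addR, hf.smulL, hf.smulR, h.vv, h.v'v', h.vv', h.v'v hf] at h1
    linear_combination h1
  have hAE : A * E + B * C = 1 := by
    have h1 := hb.isob v v'
    rw [e1, e2, h.vv'] at h1
    simp only [hf.addL, hf.addR, hf.smulL, hf.smulR, h.vv, h.v'v', h.vv', h.v'v hf] at h1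
    linear_combination h1
  have hA : A ≠ 0 := by
    intro hA
    rw [hA, zero_smul, zero_add] at e1
    have hBC : B * C = 1 := by rw [hA, zero_mul, zero_add] at hAE; exact hAE
    have hC : C ≠ 0 := fun e => by rw [e, mul_zero] at hBC; exact zero_ne_one hBC
    have hE : E = 0 :=
      (mul_eq_zero.1 ((mul_eq_zero.1 hCE).resolve_left hf.two)).resolve_left hC
    rw [hE, zero_smul, add_zero] at e2
    -- a swap has determinant `-1`
    have hp : Pair f₂ (v - B • v') (v + B • v') := by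
      have hB : B ≠ 0 := fun e => by rw [e, zero_mul] at hBC; exact zero_ne_one hBC
      refine ⟨?_, ?_, ?_⟩
      · simp only [hf.subL, hf.subR, hf.smulL, hf.smulR, h.vv, h.v'v', h.vv', h.v'v hf]
        rw [show (0 : F) - B * 1 - (B * 1 - B * (B * 0)) = -(2 * B) by ring]
        exact neg_ne_zero.2 (mul_ne_zero hf.two hB)
      · simp only [hf.addL, hf.addR, hf.smulL, hf.smulR, h.vv, h.v'v', h.vv', h.v'v hf]
        rw [show (0 : F) + B * 1 + (B * 1 + B * (B * 0)) = 2 * B by ring]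
        exact mul_ne_zero hf.two hB
      · simp only [hf.subL, hf.addR, hf.smulL, hf.smulR, h.vv, h.v'v', h.vv', h.v'v hf]
        ring
    set e : Fin 4 → V2 := ![v - B • v', v + B • v', t 0, t 1]
    have hto : ∀ l, f₂ v (t l) = 0 ∧ f₂ v' (t l) = 0 := fun l =>
      ⟨(hf.comm _ _).trans (h.tv l), (hf.comm _ _).trans (h.tv' l)⟩
    have he : Frame f₂ e := by
      constructor
      · intro i j hij
        fin_cases i <;> fin_cases j <;>
          first | exact absurd rfl hij | exact hp.orth | exact (hf.comm _ _).trans hp.orth |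
            exact h.torth | exact h.t10 hf |
            simp [e, hf.subL, hf.subR, hf.addL, hf.addR, hf.smulL, hf.smulR, hto, h.tv, h.tv']
      · intro i
        fin_cases i <;> [exact hp.ne; exact hp.ne'; exact h.tne 0; exact h.tne 1]
    have hbB : b *ᵥ (B • v') = v := by rw [mulVec_smul, e2, smul_smul, hBC, one_smul]
    have hd := (det_eig hf he (b := b) (ε := ![-1, 1, 1, 1]) fun i => by
      fin_cases i
      · simp [e, mulVec_sub, hbB, e1]
      · simp [e, mulVec_add, hbB, e1, add_comm]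
      · simp [e, hbt]
      · simp [e, hbt]).1
    rw [hb.detb, Fin.prod_univ_four] at hd
    simp at hd
    exact hf.two (by linear_combination hd)
  have hB : B = 0 := (mul_eq_zero.1 ((mul_eq_zero.1 hAB).resolve_left hf.two)).resolve_left hA
  rw [hB, zero_smul, add_zero] at e1
  rw [hB, zero_mul, add_zero] at hAE
  have hE : E ≠ 0 := fun e => by rw [e, mul_zero] at hAE; exact zero_ne_one hAE
  have hC : C = 0 := (mul_eq_zero.1 ((mul_eq_zero.1 hCE).resolve_left hf.two)).resolve_right hE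
  rw [hC, zero_smul, zero_add] at e2
  refine ⟨b, A, hb, hA, e1, ?_, hbt⟩
  rw [e2, eq_inv_of_mul_eq_one_right hAE]

/-- That group is cyclic. -/
theorem out_cyclic : IsCyclic (outStab M t ⊓ Cfsg.Geo.kroneckerSubgroup 3 4 F : Subgroup G) := by
  obtain ⟨u0, hu0⟩ := D.exists_pair1
  set φ : (outStab M t ⊓ Cfsg.Geo.kroneckerSubgroup 3 4 F : Subgroup G) → F :=
    fun g => f₁ (ctr (formVec f₂ v') (((g : G) : Big) *ᵥ tens u0 v)) u0 / f₁ u0 u0 with hφ
  have hval : ∀ (g : (outStab M t ⊓ Cfsg.Geo.kroneckerSubgroup 3 4 F : Subgroup G)) (b : A2) (μ : F),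
      Rot f₁ f₂ (g : G) 1 b → b *ᵥ v = μ • v →
      φ g = μ := fun g b μ hr hbv => by
    show f₁ _ _ / _ = μ
    rw [hr.eq, kron_apply, one_mulVec, D.ctr_ft, hbv, D.s2.smulL, h.vv', mul_one, D.s1.smulL,
      mul_div_cancel_right₀ _ hu0]
  refine isCyclic_of_subgroup_isDomain
    ({ toFun := φ
       map_one' := hval 1 1 1 D.rot_one (by rw [one_mulVec, one_smul])
       map_mul' := fun g g' => by
        obtain ⟨b, μ, hr, -, hbv, -, -⟩ := D.out_rot hNR h g.2.1 g.2.2
        obtain ⟨b', μ', hr', -, hbv', -, -⟩ := D.out_rot hNR h g'.2.1 g'.2.2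
        have h1 := D.rot_mul hr hr'
        rw [one_mul] at h1
        rw [hval g b μ hr hbv, hval g' b' μ' hr' hbv', hval (g * g') (b * b') (μ * μ') h1 (by
          rw [← mulVec_mulVec, hbv', mulVec_smul, hbv, smul_smul, mul_comm])] } :
      (outStab M t ⊓ Cfsg.Geo.kroneckerSubgroup 3 4 F : Subgroup G) →* F) fun g g' hgg => ?_
  obtain ⟨b, μ, hr, hμ, hbv, hbv', hbt⟩ := D.out_rot hNR h g.2.1 g.2.2
  obtain ⟨b', μ', hr', hμ', hcv, hcv', hct⟩ := D.out_rot hNR h g'.2.1 g'.2.2
  have hμμ : μ = μ' := (hval g b μ hr hbv).symm.trans (hgg.trans (hval g' b' μ' hr' hcv))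
  have hbb : b = b' := Matrix.mulVec_injective (funext fun z => by
    rw [h.expand D.s2 z]
    simp only [mulVec_add, mulVec_smul, hbv, hbv', hcv, hcv', hbt, hct, hμμ])
  exact Subtype.ext (Units.ext (by rw [hr.eq, hr'.eq, hbb]))

omit h in
/-- The half-turns normalise it. -/
theorem J_normalizes {j : G} {u : V1} {s : F} (hj : j ∈ M) (hJ : JEl f₁ j u s) :
    j ∈ Subgroup.normalizer (outStab M t : Set G) := by
  refine Subgroup.mem_normalizer_fintype fun g hg => ⟨M.mul_mem (M.mul_mem hj hg.1) (M.inv_mem hj),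
    fun a l => ?_⟩
  have hja : ∀ b, (j : Big) *ᵥ tens b (t l) = tens (s • (hu f₁ u *ᵥ b)) (t l) := fun b => by
    rw [hJ.2.2, kron_apply, smul_mulVec, one_mulVec, tens_smul_right, tens_smul_left]
  have hjj : ∀ z, (j : Big) *ᵥ ((j : Big) *ᵥ z) = z := fun z => by
    rw [← gl_mul_mulVec, D.J_mul_self hJ, Units.val_one, one_mulVec]
  rw [show j⁻¹ = j from inv_eq_of_mul_eq_one_right (D.J_mul_self hJ), gl_mul_mulVec, gl_mul_mulVec, hja,
    hg.2, ← hja, hjj]

omit h in
/-- A group with an action of commuting half-turns of coprime order is in the stabiliser. -/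
theorem gen_kron {u0 u1 u2 : V1} {s0 s1 s2 : F} {j0 j1 j2 : G} (hJ0 : JEl f₁ j0 u0 s0) (hJ1 : JEl f₁ j1 u1 s1)
    (hJ2 : JEl f₁ j2 u2 s2) (m0 : j0 ∈ M) (m1 : j1 ∈ M) (h012 : j0 * j1 = j2) (hcomm : Commute j0 j1)
    {O : Subgroup G} (hOM : O ≤ M) (hn0 : j0 ∈ Subgroup.normalizer (O : Set G))
    (hn1 : j1 ∈ Subgroup.normalizer (O : Set G))
    (hcop : (Nat.card (Subgroup.closure ({j0, j1} : Set G))).Coprime (Nat.card O))
    (hodd : Nat.Coprime 2 (Nat.card O)) : O ≤ Cfsg.Geo.kroneckerSubgroup 3 4 F := by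
  haveI : Fact (Nat.Prime 2) := ⟨Nat.prime_two⟩
  have key : ∀ {j : G} {u : V1} {s : F}, JEl f₁ j u s → j ∈ M → ∀ g ∈ O ⊓ Subgroup.centralizer {j},
      g ∈ Cfsg.Geo.kroneckerSubgroup 3 4 F := fun {j u s} hJ hj g hg => by
    refine D.centJ hNR hJ hj (hOM hg.1) ?_
    rw [← Subgroup.mem_centralizer_singleton_iff.1 hg.2 |>.symm]
    rw [mul_inv_cancel_right]
    exact mem_kron hJ.2.2
  refine (Cfsg.Agent.Lib.Coprime.le_lineCentralizers (q := 2) hcomm (K := O) hn0 hn1
    (by rw [pow_two, D.J_mul_self hJ0]; exact one_mem _) (by rw [pow_two, D.J_mul_self hJ1]; exact one_mem _)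
    hcop hodd).trans (sup_le (key hJ1 m1) (iSup_le fun s g hg => ?_))
  rcases (show s.val = 0 ∨ s.val = 1 by have := ZMod.val_lt s; omega) with h01 | h01
  · refine key hJ0 m0 g ?_
    rwa [h01, pow_zero, mul_one] at hg
  · refine key hJ2 (h012 ▸ M.mul_mem m0 m1) g ?_
    rwa [h01, pow_one, h012] at hg

/-- The pointwise stabiliser of the tensors over the anisotropic plane is in the stabiliser. -/
theorem out_le : outStab M t ≤ Cfsg.Geo.kroneckerSubgroup 3 4 F := by
  classical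
  have hf := D.s1
  set T := outStab M t with hT
  set Kr := Cfsg.Geo.kroneckerSubgroup 3 4 F with hKr
  have hcyc := D.out_cyclic hNR h
  obtain ⟨e, he⟩ := exists_frame hf
  obtain ⟨j0, hj0, s0, hJ0⟩ := D.exists_J (he.ne 0)
  obtain ⟨j1, hj1, s1, hJ1⟩ := D.exists_J (he.ne 1)
  obtain ⟨j2, hj2, s2, hJ2⟩ := D.exists_J (he.ne 2)
  have hn0 := D.J_normalizes hNR (t := t) hj0 hJ0
  have hn1 := D.J_normalizes hNR (t := t) hj1 hJ1
  have h012 : j0 * j1 = j2 := by
    have hu2 : hu f₁ (e 0) * hu f₁ (e 1) = hu f₁ (e 2) := he.mat_ext hf fun i => by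
      rw [← mulVec_mulVec]
      fin_cases i
      · simp [hu_self hf (he.ne 0), hu_perp hf (he.ne 1) (he.orth 0 1 (by decide)),
          hu_perp hf (he.ne 2) (he.orth 0 2 (by decide)), mulVec_neg]
      · simp [hu_self hf (he.ne 1), hu_perp hf (he.ne 0) (he.orth 1 0 (by decide)),
          hu_perp hf (he.ne 2) (he.orth 1 2 (by decide))]
      · simp [hu_self hf (he.ne 2), hu_perp hf (he.ne 1) (he.orth 2 1 (by decide)),
          hu_perp hf (he.ne 0) (he.orth 2 0 (by decide)), mulVec_neg]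
    have hv : ((j0 * j1 : G) : Big) = hu f₁ (e 2) ⊗ₖ ((s0 * s1) • (1 : A2)) := by
      rw [Units.val_mul, hJ0.2.2, hJ1.2.2, ← mul_kronecker_mul, hu2, smul_mul_smul_comm, one_mul]
    have hs : s0 * s1 = s2 ∨ s0 * s1 = -s2 := by
      rcases hJ0.2.1 with rfl | rfl <;> rcases hJ1.2.1 with rfl | rfl <;> rcases hJ2.2.1 with rfl | rfl <;> simp
    rcases hs with h1 | h1
    · exact Units.ext (by rw [hv, h1, hJ2.2.2])
    · refine absurd ?_ D.neg_not_mem
      have e1 : j0 * j1 = -j2 := Units.ext (by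
        rw [hv, h1, Units.val_neg, hJ2.2.2, neg_smul, ← neg_one_smul F (s2 • (1 : A2)), kronecker_smul,
          neg_one_smul])
      have : j0 * j1 * j2⁻¹ ∈ M := M.mul_mem (M.mul_mem hj0 hj1) (M.inv_mem hj2)
      rwa [e1, neg_mul, mul_inv_cancel] at this
  -- a two-group containing the half-turns and a Sylow subgroup of `T`
  set E := Subgroup.closure ({j0, j1} : Set G) with hE
  have hEn : E ≤ Subgroup.normalizer (T : Set G) := by
    rw [hE, Subgroup.closure_le]; exact Set.insert_subset hn0 (Set.singleton_subset_iff.2 hn1)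
  have hcomm : Commute j0 j1 := by
    have e1 : j0 * j1 * (j0 * j1) = 1 := by rw [h012, D.J_mul_self hJ2]
    have i0 : j0⁻¹ = j0 := inv_eq_of_mul_eq_one_right (D.J_mul_self hJ0)
    have i1 : j1⁻¹ = j1 := inv_eq_of_mul_eq_one_right (D.J_mul_self hJ1)
    show j0 * j1 = j1 * j0
    rw [eq_inv_of_mul_eq_one_left e1, _root_.mul_inv_rev, i0, i1]
  have hEc : IsMulCommutative E := by
    rw [← Subgroup.le_centralizer_iff_isMulCommutative, hE, Subgroup.closure_le]
    intro x hx
    simp only [SetLike.mem_coe]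
    rw [Subgroup.centralizer_closure, Subgroup.mem_centralizer_iff]
    intro y hy
    rcases hx with rfl | rfl <;> rcases hy with rfl | rfl
    · rfl
    · exact hcomm.eq.symm
    · exact hcomm.eq
    · rfl
  have hE2 : IsPGroup 2 E := fun g => ⟨1, by
    rw [pow_one]
    obtain ⟨g, hg⟩ := g
    refine Subtype.ext ?_
    show g ^ 2 = 1
    induction hg using Subgroup.closure_induction with
    | mem x hx =>
      rcases hx with rfl | rfl
      · rw [pow_two, D.J_mul_self hJ0]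
      · rw [pow_two, D.J_mul_self hJ1]
    | one => exact one_pow 2
    | mul x y hx hy hxp hyp =>
      have hxy : Commute x y := congrArg Subtype.val (hEc.is_comm.comm (⟨x, hx⟩ : E) ⟨y, hy⟩)
      rw [hxy.mul_pow, hxp, hyp, one_mul]
    | inv x hx hxp => rw [inv_pow, hxp, inv_one]⟩
  haveI : Fact (Nat.Prime 2) := ⟨Nat.prime_two⟩
  set W := T ⊔ E with hW
  have hWn : W ≤ Subgroup.normalizer (T : Set G) := sup_le Subgroup.le_normalizer hEn
  obtain ⟨P, hP⟩ := (hE2.of_equiv (Subgroup.subgroupOfEquivOfLe (le_sup_right : E ≤ W)).symm).exists_le_sylow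
  have hTn : (T.subgroupOf W).Normal := (Subgroup.normal_subgroupOf_iff_le_normalizer le_sup_left).2 hWn
  set S : Subgroup (P : Subgroup W) := (T.subgroupOf W).subgroupOf (P : Subgroup W) with hS
  -- its elements are in the stabiliser
  have hSK : ∀ g ∈ S, (((g : W) : G)) ∈ Kr := by
    haveI : Group.IsNilpotent (P : Subgroup W) := P.2.isNilpotent
    obtain ⟨n, hn⟩ := (inferInstance : Group.IsNilpotent (P : Subgroup W)).nilpotent'
    suffices H : ∀ i, ∀ g ∈ S, g ∈ Subgroup.upperCentralSeries (P : Subgroup W) i → ((g : W) : G) ∈ Kr from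
      fun g hg => H n g hg (by rw [hn]; trivial)
    intro i
    induction i with
    | zero =>
      intro g _ hg
      rw [Subgroup.upperCentralSeries_zero, Subgroup.mem_bot] at hg
      rw [hg]
      exact Kr.one_mem
    | succ i ih =>
      intro g hgS hg
      by_contra hgk
      have hgT : ((g : W) : G) ∈ T := Subgroup.mem_subgroupOf.1 (Subgroup.mem_subgroupOf.1 hgS)
      have hkey : ∀ (j : G) (u : V1) (s : F), j ∈ M → JEl f₁ j u s → j ∈ E →
          ∃ c, c ∈ T ⊓ Kr ∧ c * c = 1 ∧ c ≠ 1 ∧ j * ((g : W) : G) * j = ((g : W) : G) * c := by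
        intro j u s hj hJ hjE
        set τ := ((g : W) : G)
        have hjj := D.J_mul_self hJ
        have hjinv : j⁻¹ = j := inv_eq_of_mul_eq_one_right hjj
        set J' : (P : Subgroup W) := ⟨⟨j, Subgroup.mem_sup_right hjE⟩, hP hjE⟩
        have hc := Subgroup.mem_upperCentralSeries_succ_iff.1 ((Subgroup.inv_mem_iff _).2 hg) J'
        rw [commutatorElement_def] at hc
        have hcS : g⁻¹ * J' * g⁻¹⁻¹ * J'⁻¹ ∈ S := by
          have hn : S.Normal := hTn.subgroupOf _
          rw [mul_assoc, mul_assoc g⁻¹]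
          refine S.mul_mem (S.inv_mem hgS) ?_
          rw [inv_inv, ← mul_assoc]
          exact hn.conj_mem _ hgS _
        set c := τ⁻¹ * (j * τ * j) with hcdef
        have hcv : (((g⁻¹ * J' * g⁻¹⁻¹ * J'⁻¹ : (P : Subgroup W)) : W) : G) = c := by
          show τ⁻¹ * j * τ⁻¹⁻¹ * j⁻¹ = c
          rw [hcdef, hjinv, inv_inv]; group
        have hcT : c ∈ T := by
          rw [← hcv]; exact Subgroup.mem_subgroupOf.1 (Subgroup.mem_subgroupOf.1 hcS)
        have hcK : c ∈ Kr := by rw [← hcv]; exact ih _ hcS hc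
        have hjc : Commute j c := by
          obtain ⟨b, μ, hr, -⟩ := D.out_rot hNR h hcT hcK
          exact D.J_comm_rot hJ hr.eq
        have hτc : j * τ * j = τ * c := by rw [hcdef, mul_inv_cancel_left]
        refine ⟨c, ⟨hcT, hcK⟩, ?_, fun e0 => ?_, hτc⟩
        · have h1 : j * (τ * c) * j = τ := by
            rw [← hτc]
            calc j * (j * τ * j) * j = j * j * τ * (j * j) := by group
              _ = τ := by rw [hjj, one_mul, mul_one]
          have h2 : j * (τ * c) * j = τ * c * c := by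
            calc j * (τ * c) * j = j * τ * (c * j) := by group
              _ = j * τ * (j * c) := by rw [hjc.eq]
              _ = j * τ * j * c := by group
              _ = τ * c * c := by rw [hτc]
          rw [h1] at h2
          have h3 : τ * (c * c) = τ * 1 := by rw [mul_one, ← mul_assoc, ← h2]
          exact mul_left_cancel h3
        · refine hgk (D.centJ hNR hJ hj hgT.1 ?_)
          rw [e0, mul_one] at hτc
          have : τ * j * τ⁻¹ = j := by
            rw [mul_inv_eq_iff_eq_mul]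
            calc τ * j = j * τ * j * j := by rw [hτc]
              _ = j * τ := by rw [mul_assoc (j * τ), hjj, mul_one]
          rw [this]
          exact mem_kron hJ.2.2
      have hj0E : j0 ∈ E := Subgroup.subset_closure (Set.mem_insert _ _)
      have hj1E : j1 ∈ E := Subgroup.subset_closure (Set.mem_insert_of_mem _ rfl)
      obtain ⟨c0, hc0, hc02, hc01, hτ0⟩ := hkey j0 _ _ hj0 hJ0 hj0E
      obtain ⟨c1, hc1, hc12, hc11, hτ1⟩ := hkey j1 _ _ hj1 hJ1 hj1E
      obtain ⟨c2, hc2, hc22, hc21, hτ2⟩ := hkey j2 _ _ hj2 hJ2 (h012 ▸ E.mul_mem hj0E hj1E)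
      set τ := ((g : W) : G)
      haveI := hcyc
      obtain ⟨z, hz⟩ := IsCyclic.exists_generator (α := (T ⊓ Kr : Subgroup G))
      have huniq : ∀ c ∈ T ⊓ Kr, c * c = 1 → c ≠ 1 → c = (z : G) ^ (orderOf (z : G) / 2) := by
        intro c hc hcc hc1
        refine (Cfsg.Agent.Lib.Involutions.Basic.invol_unique_zpowers (orderOf_eq_prime (by rw [pow_two, hcc]) hc1)
          ?_).2
        obtain ⟨k, hk⟩ := Subgroup.mem_zpowers_iff.1 (hz ⟨c, hc⟩)
        exact Subgroup.mem_zpowers_iff.2 ⟨k, congrArg Subtype.val hk⟩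
      have e01 : c0 = c1 := (huniq c0 hc0 hc02 hc01).trans (huniq c1 hc1 hc12 hc11).symm
      obtain ⟨b, μ, hr, -⟩ := D.out_rot hNR h hc1.1 hc1.2
      have hc0j : c1 * j0 = j0 * c1 := (D.J_comm_rot hJ0 hr.eq).eq.symm
      have e2 : j2 * τ * j2 = τ := by
        rw [← h012]
        calc j0 * j1 * τ * (j0 * j1) = j0 * j1 * τ * (j1 * j0) := by rw [hcomm.eq]
          _ = j0 * (j1 * τ * j1) * j0 := by group
          _ = j0 * τ * (c1 * j0) := by rw [hτ1]; group
          _ = j0 * τ * j0 * c1 := by rw [hc0j]; group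
          _ = τ * (c1 * c1) := by rw [hτ0, e01]; group
          _ = τ := by rw [hc12, mul_one]
      rw [e2] at hτ2
      exact hc21 (mul_left_cancel (hτ2.symm.trans (mul_one τ).symm))
  -- a Sylow subgroup of `T`
  set S' : Subgroup T := ((S.map (Subgroup.subtype _)).map W.subtype).subgroupOf T with hS'
  obtain ⟨Q₂, hQ₂⟩ : ∃ Q₂ : Sylow 2 T, (Q₂ : Subgroup T) ≤ S' := by
    obtain ⟨Q₀⟩ := (inferInstance : Nonempty (Sylow 2 T))
    have hp0 : IsPGroup 2 (((Q₀ : Subgroup T).map T.subtype).subgroupOf W) :=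
      (Q₀.2.map T.subtype).comap_of_injective W.subtype (Subgroup.subtype_injective W)
    obtain ⟨P₀, hP₀⟩ := hp0.exists_le_sylow
    obtain ⟨k, hk⟩ := MulAction.exists_smul_eq W P₀ P
    have hconj : ∀ a : T, (k : G) * (a : G) * (k : G)⁻¹ ∈ T := fun a =>
      (Subgroup.mem_normalizer_iff.1 (hWn k.2) _).1 a.2
    let φ : T →* T :=
      { toFun := fun a => ⟨_, hconj a⟩
        map_one' := Subtype.ext (by simp)
        map_mul' := fun a b => Subtype.ext (show (k : G) * ((a : G) * (b : G)) * (k : G)⁻¹ =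
          (k : G) * (a : G) * (k : G)⁻¹ * ((k : G) * (b : G) * (k : G)⁻¹) by group) }
    have hφinj : Function.Injective φ := fun a b hab => by
      have := congrArg Subtype.val hab
      exact Subtype.ext (mul_left_cancel (mul_right_cancel this))
    have hsurj : Function.Surjective φ := Finite.surjective_of_injective hφinj
    refine ⟨Q₀.mapSurjective hsurj, ?_⟩
    rintro _ ⟨a, ha, rfl⟩
    have h1 : k * ⟨(a : G), Subgroup.mem_sup_left a.2⟩ * k⁻¹ ∈ (P : Subgroup W) := by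
      rw [← hk]
      exact ⟨⟨(a : G), Subgroup.mem_sup_left a.2⟩, hP₀ ⟨a, ha, rfl⟩, rfl⟩
    exact ⟨_, ⟨⟨_, h1⟩, Subgroup.mem_subgroupOf.2 (Subgroup.mem_subgroupOf.2 (hconj a)), rfl⟩, rfl⟩
  have hQK : ∀ q ∈ (Q₂ : Subgroup T), (q : G) ∈ Kr := fun q hq => by
    obtain ⟨w, ⟨g, hg, rfl⟩, hgq⟩ := hQ₂ hq
    have : ((g : W) : G) = (q : G) := hgq
    exact this ▸ hSK g hg
  have hQc : IsCyclic (Q₂ : Subgroup T) := by
    haveI := hcyc
    exact isCyclic_of_injective
      ({ toFun := fun q => ⟨((q : T) : G), (q : T).2, hQK q q.2⟩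
         map_one' := rfl
         map_mul' := fun _ _ => rfl } : (Q₂ : Subgroup T) →* (T ⊓ Kr : Subgroup G))
      fun a b hab => Subtype.ext (Subtype.ext (congrArg (fun z : (T ⊓ Kr : Subgroup G) => (z : G)) hab))
  intro g hg
  rcases Nat.even_or_odd (Nat.card T) with heven | hodd
  swap
  · -- odd order
    have hcop : (Nat.card E).Coprime (Nat.card T) := by
      obtain ⟨n, hn⟩ := hE2.exists_card_eq
      rw [hn]
      exact (Nat.coprime_two_left.2 hodd).pow_left n
    exact D.gen_kron hNR hJ0 hJ1 hJ2 hj0 hj1 h012 hcomm (fun a (ha : a ∈ outStab M t) => ha.1) hn0 hn1 hcop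
      (Nat.coprime_two_left.2 hodd) hg
  -- the normal complement
  have hmin : (Nat.card T).minFac = 2 := Nat.minFac_eq_two_iff _ |>.2 heven.two_dvd
  obtain ⟨O, hOn, hO⟩ : ∃ O : Subgroup T, O.Normal ∧ O.IsComplement' (Q₂ : Subgroup T) :=
    ⟨_, inferInstance, hQc.isComplement' hmin⟩
  have hOidx : O.index = Nat.card (Q₂ : Subgroup T) := hO.symm.index_eq_card
  have hOodd : Nat.Coprime 2 (Nat.card O) := by
    rw [Nat.prime_two.coprime_iff_not_dvd]
    intro h2
    refine Q₂.not_dvd_index ?_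
    rwa [hO.index_eq_card]
  set O' := O.map T.subtype with hO'
  have hO'T : O' ≤ T := Subgroup.map_subtype_le _
  have hcardO : Nat.card O' = Nat.card O :=
    (Nat.card_congr (O.equivMapOfInjective T.subtype (Subgroup.subtype_injective T)).toEquiv).symm
  have hchar : ∀ {j : G}, j ∈ Subgroup.normalizer (T : Set G) → j ∈ Subgroup.normalizer (O' : Set G) := by
    intro j hj
    refine Subgroup.mem_normalizer_fintype ?_
    rintro _ ⟨a, ha, rfl⟩
    have hb : j * (a : G) * j⁻¹ ∈ T := (Subgroup.mem_normalizer_iff.1 hj _).1 a.2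
    refine ⟨⟨_, hb⟩, ?_, rfl⟩
    set b : T := ⟨_, hb⟩
    have hord : orderOf b ∣ Nat.card O := by
      rw [← Subgroup.orderOf_coe b, show (b : G) = MulAut.conj j (a : G) from rfl,
        MulEquiv.orderOf_eq, Subgroup.orderOf_coe, ← Subgroup.orderOf_mk a ha]
      exact orderOf_dvd_natCard _
    show b ∈ O
    rw [← QuotientGroup.eq_one_iff, ← orderOf_eq_one_iff]
    refine Nat.eq_one_of_dvd_coprimes ((hOodd.pow_left (Nat.log 2 (Nat.card (Q₂ : Subgroup T))))) ?_
      ((orderOf_map_dvd (QuotientGroup.mk' O) b).trans hord)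
    obtain ⟨n, hn⟩ := Q₂.2.exists_card_eq
    rw [hn, Nat.log_pow (by omega), ← hn, ← hOidx, Subgroup.index_eq_card]
    exact orderOf_dvd_natCard _
  have hcop : (Nat.card E).Coprime (Nat.card O') := by
    obtain ⟨n, hn⟩ := hE2.exists_card_eq
    rw [hn, hcardO]
    exact hOodd.pow_left n
  have hOK : O' ≤ Kr := D.gen_kron hNR hJ0 hJ1 hJ2 hj0 hj1 h012 hcomm (fun a ha => (show a ∈ outStab M t from hO'T ha).1) (hchar hn0)
    (hchar hn1) hcop (hcardO ▸ hOodd)
  have htop : (⟨g, hg⟩ : T) ∈ O ⊔ (Q₂ : Subgroup T) := by rw [hO.sup_eq_top]; trivial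
  obtain ⟨a, ha, q, hq, haq⟩ := Subgroup.mem_sup_of_normal_left.1 htop
  have : g = (a : G) * (q : G) := (congrArg Subtype.val haq).symm
  rw [this]
  exact Kr.mul_mem (hOK ⟨a, ha, rfl⟩) (hQK q hq)

omit h in
/-- An element commuting with a product of two reflections lies in the stabiliser. -/
theorem centK {x k : G} {y y' : V2} (hK : KEl f₂ k y y') (hkM : k ∈ M) (hxM : x ∈ M) (hc : x * k = k * x) :
    x ∈ Cfsg.Geo.kroneckerSubgroup 3 4 F := by
  have hf := D.s2
  have hf1 := D.s1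
  obtain ⟨q, q', hq, hbq, hiso⟩ := exists_compl hf D.minus hK.1
  have hp := hK.1
  -- the orthogonality of the two planes
  have horth : ∀ a, f₂ a y = 0 → f₂ a y' = 0 → beta f₂ q q' *ᵥ a = -a := fun a h1 h2 => by
    have := congrArg (· *ᵥ a) hbq
    simp only [neg_mulVec, beta_fix hf hp h1 h2] at this
    rw [eq_comm, neg_eq_iff_eq_neg] at this
    exact this
  have hoq : f₂ y q = 0 ∧ f₂ y q' = 0 ∧ f₂ y' q = 0 ∧ f₂ y' q' = 0 := by
    have key : ∀ a b, beta f₂ y y' *ᵥ a = -a → beta f₂ y y' *ᵥ b = b → f₂ a b = 0 := fun a b ha hb => by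
      have h1 := beta_iso hf hp a b
      rw [ha, hb, hf.negL] at h1
      exact (mul_eq_zero.1 (show (2 : F) * f₂ a b = 0 by linear_combination -h1)).resolve_left hf.two
    have hq1 : beta f₂ y y' *ᵥ q = q := by rw [hbq, neg_mulVec, beta_self hf hq, neg_neg]
    have hq2 : beta f₂ y y' *ᵥ q' = q' := by rw [hbq, neg_mulVec, beta_self' hf hq, neg_neg]
    exact ⟨key _ _ (beta_self hf hp) hq1, key _ _ (beta_self hf hp) hq2, key _ _ (beta_self' hf hp) hq1,
      key _ _ (beta_self' hf hp) hq2⟩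
  obtain ⟨o1, o2, o3, o4⟩ := hoq
  -- an adapted frame, with the two eigenspaces
  obtain ⟨v, v', t, ε, hb, hkv, hkt, hε⟩ : ∃ (v v' : V2) (t : Fin 2 → V2) (ε : F), HB f₂ v v' t ∧
      (∀ a, (k : Big) *ᵥ tens a v = ε • tens a v ∧ (k : Big) *ᵥ tens a v' = ε • tens a v') ∧
        (∀ a l, (k : Big) *ᵥ tens a (t l) = -ε • tens a (t l)) ∧ (ε = 1 ∨ ε = -1) := by
    have hspan : ∀ (b : A2) (c : F) {r r' : V2}, b *ᵥ r = c • r → b *ᵥ r' = c • r' →
        ∀ w ∈ Submodule.span F {r, r'}, b *ᵥ w = c • w := by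
      intro b c r r' h1 h2 w hw
      obtain ⟨α, β, rfl⟩ := Submodule.mem_span_pair.1 hw
      rw [mulVec_add, mulVec_smul, mulVec_smul, h1, h2]
      module
    have hkt : ∀ a w, (k : Big) *ᵥ tens a w = tens a (beta f₂ y y' *ᵥ w) := fun a w => by
      rw [hK.2, kron_apply, one_mulVec]
    rcases hiso with ⟨v, hv, hv0, hvv⟩ | ⟨v, hv, hv0, hvv⟩
    · obtain ⟨v', hv', hb⟩ := D.hb_of_pair hp hq o1 o2 o3 o4 hv hv0 hvv
      have hs := hspan (beta f₂ y y') (-1) (by rw [beta_self hf hp, neg_one_smul])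
        (by rw [beta_self' hf hp, neg_one_smul])
      refine ⟨v, v', _, -1, hb, fun a => ⟨?_, ?_⟩, fun a l => ?_, Or.inr rfl⟩
      · rw [hkt, hs v hv, tens_smul_right]
      · rw [hkt, hs v' hv', tens_smul_right]
      · rw [hkt, neg_neg, one_smul]
        congr 1
        fin_cases l
        · exact beta_fix hf hp ((hf.comm _ _).trans o1) ((hf.comm _ _).trans o3)
        · exact beta_fix hf hp ((hf.comm _ _).trans o2) ((hf.comm _ _).trans o4)
    · obtain ⟨v', hv', hb⟩ := D.hb_of_pair hq hp ((hf.comm _ _).trans o1) ((hf.comm _ _).trans o3)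
        ((hf.comm _ _).trans o2) ((hf.comm _ _).trans o4) hv hv0 hvv
      have hs := hspan (beta f₂ y y') 1 (by rw [hbq, neg_mulVec, beta_self hf hq, neg_neg, one_smul])
        (by rw [hbq, neg_mulVec, beta_self' hf hq, neg_neg, one_smul])
      refine ⟨v, v', _, 1, hb, fun a => ⟨?_, ?_⟩, fun a l => ?_, Or.inl rfl⟩
      · rw [hkt, hs v hv, tens_smul_right]
      · rw [hkt, hs v' hv', tens_smul_right]
      · rw [hkt, ← tens_smul_right]
        congr 1
        fin_cases l
        · simp [beta_self hf hp]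
        · simp [beta_self' hf hp]
  have hε0 : ε ≠ 0 := by rcases hε with rfl | rfl <;> simp
  have hεne : ε ≠ -ε := fun e =>
    hε0 ((mul_eq_zero.1 (show (2 : F) * ε = 0 by linear_combination e)).resolve_left hf.two)
  have hv := hb.ne_v hf
  -- the commutant preserves the eigenspaces
  have hsplit : ∀ (g : G), g * k = k * g →
      (∀ a, ∃ p p', (g : Big) *ᵥ tens a v = tens p v + tens p' v') ∧
        ∀ a l, ∃ p p', (g : Big) *ᵥ tens a (t l) = tens p (t 0) + tens p' (t 1) := by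
    intro g hg
    have hgk : ∀ z (c : F), (k : Big) *ᵥ z = c • z → (k : Big) *ᵥ ((g : Big) *ᵥ z) = c • ((g : Big) *ᵥ z) :=
      fun z c hz => by rw [← gl_mul_mulVec, ← hg, gl_mul_mulVec, hz, mulVec_smul]
    have hk2 : ∀ z, (k : Big) *ᵥ z = ε • (tens (ctr (formVec f₂ v') z) v + tens (ctr (formVec f₂ v) z) v') +
        (-ε) • (tens ((f₂ (t 0) (t 0))⁻¹ • ctr (formVec f₂ (t 0)) z) (t 0) +
          tens ((f₂ (t 1) (t 1))⁻¹ • ctr (formVec f₂ (t 1)) z) (t 1)) := fun z => by
      conv_lhs => rw [D.expand hb z]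
      simp only [mulVec_add, (hkv _).1, (hkv _).2, hkt, smul_add]
    refine ⟨fun a => ?_, fun a l => ?_⟩
    · have h1 := hgk _ ε (hkv a).1
      set z := (g : Big) *ᵥ tens a v
      refine ⟨ctr (formVec f₂ v') z, ctr (formVec f₂ v) z, ?_⟩
      rw [hk2] at h1
      conv_rhs at h1 => rw [D.expand hb z, smul_add]
      have h3 := add_left_cancel h1
      have h4 := eq_zero_of_smul_eq hεne h3
      conv_lhs => rw [D.expand hb z, h4, add_zero]
    · have h1 := hgk _ (-ε) (hkt a l)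
      set z := (g : Big) *ᵥ tens a (t l)
      refine ⟨(f₂ (t 0) (t 0))⁻¹ • ctr (formVec f₂ (t 0)) z, (f₂ (t 1) (t 1))⁻¹ • ctr (formVec f₂ (t 1)) z, ?_⟩
      rw [hk2] at h1
      conv_rhs at h1 => rw [D.expand hb z, smul_add]
      have h3 := add_right_cancel h1
      have h4 := eq_zero_of_smul_eq hεne h3.symm
      conv_lhs => rw [D.expand hb z, h4, zero_add]
  have hc' : x⁻¹ * k = k * x⁻¹ := by
    calc x⁻¹ * k = x⁻¹ * (k * x) * x⁻¹ := by group
      _ = x⁻¹ * (x * k) * x⁻¹ := by rw [hc]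
      _ = k * x⁻¹ := by group
  obtain ⟨hxP, hxY⟩ := hsplit x hc
  obtain ⟨-, hxiY⟩ := hsplit x⁻¹ hc'
  -- the torus element
  obtain ⟨l, hl, hll⟩ := exists_sq_ne D.q5 1
  have n1 : f₂ (v - v') (v - v') = -2 := by
    simp only [hf.subL, hf.subR, hb.vv, hb.v'v', hb.vv', hb.v'v hf]; ring
  have n2 : f₂ (v - l • v') (v - l • v') = -(2 * l) := by
    simp only [hf.subL, hf.subR, hf.smulL, hf.smulR, hb.vv, hb.v'v', hb.vv', hb.v'v hf]; ring
  have n1' : f₂ (v - v') (v - v') ≠ 0 := n1 ▸ neg_ne_zero.2 hf.two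
  have n2' : f₂ (v - l • v') (v - l • v') ≠ 0 := n2 ▸ neg_ne_zero.2 (mul_ne_zero hf.two hl)
  set B := refl f₂ (v - v') * refl f₂ (v - l • v') with hB
  have := hf.two
  have hrv : refl f₂ (v - v') *ᵥ v = v' := by
    rw [refl_mulVec hf, n1, show f₂ v (v - v') = -1 by simp only [hf.subR, hb.vv, hb.vv']; ring]
    match_scalars <;> field_simp <;> ring
  have hrv' : refl f₂ (v - v') *ᵥ v' = v := by
    rw [refl_mulVec hf, n1, show f₂ v' (v - v') = 1 by simp only [hf.subR, hb.v'v', hb.v'v hf]; ring]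
    match_scalars <;> field_simp <;> ring
  have hBv : B *ᵥ v = l • v := by
    rw [hB, ← mulVec_mulVec, show refl f₂ (v - l • v') *ᵥ v = l • v' by
      rw [refl_mulVec hf, n2, show f₂ v (v - l • v') = -l by
        simp only [hf.subR, hf.smulR, hb.vv, hb.vv']; ring]
      match_scalars <;> field_simp <;> ring, mulVec_smul, hrv']
  have hBv' : B *ᵥ v' = l⁻¹ • v' := by
    rw [hB, ← mulVec_mulVec, show refl f₂ (v - l • v') *ᵥ v' = l⁻¹ • v by
      rw [refl_mulVec hf, n2, show f₂ v' (v - l • v') = 1 by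
        simp only [hf.subR, hf.smulR, hb.v'v', hb.v'v hf]; ring]
      match_scalars <;> field_simp <;> ring, mulVec_smul, hrv]
  have hBt : ∀ i, B *ᵥ t i = t i := fun i => by
    rw [hB, ← mulVec_mulVec, refl_fix hf (x := v - l • v') (by simp [hf.subR, hf.smulR, hb.tv, hb.tv']),
      refl_fix hf (by simp [hf.subR, hb.tv, hb.tv'])]
  obtain ⟨g0, hg0, σ, hσ, hg0v⟩ : ∃ g0 ∈ M, ∃ σ : F, (σ = 1 ∨ σ = -1) ∧
      ∀ a w, (g0 : Big) *ᵥ tens a w = σ • tens a (B *ᵥ w) := by
    obtain ⟨g0, hg0, h | h⟩ := D.exists_rot (a := (1 : A1)) (fun a b => by rw [one_mulVec, one_mulVec])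
      ((iso_refl hf n1').mul (iso_refl hf n2')) det_one (b := B)
      (by rw [hB, det_mul, det_refl hf n1', det_refl hf n2']; ring)
    · exact ⟨g0, hg0, 1, Or.inl rfl, fun a w => by rw [h.eq, kron_apply, one_mulVec, one_smul]⟩
    · exact ⟨g0, hg0, -1, Or.inr rfl, fun a w => by
        rw [h.eq, kron_apply, one_mulVec, neg_mulVec, ← tens_smul_right, neg_one_smul]⟩
  have hσσ : σ * σ = 1 := by rcases hσ with rfl | rfl <;> ring
  have hσ0 : σ ≠ 0 := fun e => by rw [e, mul_zero] at hσσ; exact zero_ne_one hσσ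
  set w : G := x * g0 * x⁻¹ * g0⁻¹ with hwdef
  have hwM : w ∈ M := M.mul_mem (M.mul_mem (M.mul_mem hxM hg0) (M.inv_mem hxM)) (M.inv_mem hg0)
  have hwT : w ∈ outStab M t := by
    refine ⟨hwM, fun a i => ?_⟩
    have hg0i : ∀ a i, ((g0⁻¹ : G) : Big) *ᵥ tens a (t i) = σ • tens a (t i) := fun a i => by
      refine gl_mulVec_injective g0 (show (g0 : Big) *ᵥ _ = (g0 : Big) *ᵥ _ from ?_)
      rw [gl_mulVec_inv, mulVec_smul, hg0v, hBt, smul_smul, hσσ, one_smul]
    obtain ⟨p, p', hp'⟩ := hxiY a i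
    rw [hwdef, gl_mul_mulVec, gl_mul_mulVec, gl_mul_mulVec, hg0i, mulVec_smul, hp', mulVec_smul, mulVec_add,
      hg0v, hg0v, hBt, hBt, ← smul_add, ← hp', mulVec_smul, mulVec_smul, gl_mulVec_inv, smul_smul, hσσ,
      one_smul]
  obtain ⟨b, μ, hr, hμ, hbv, hbv', -⟩ := D.out_rot hNR hb hwT (D.out_le hNR hb hwT)
  have hwa : ∀ a r, (w : Big) *ᵥ tens a r = tens a (b *ᵥ r) := fun a r => by
    rw [hr.eq, kron_apply, one_mulVec]
  have hxg : ∀ z, (x : Big) *ᵥ ((g0 : Big) *ᵥ z) = (w : Big) *ᵥ ((g0 : Big) *ᵥ ((x : Big) *ᵥ z)) := fun z => by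
    rw [← gl_mul_mulVec, ← gl_mul_mulVec, ← gl_mul_mulVec, hwdef]
    congr 2
    group
  -- eigenvectors
  have hq : ∀ a, ∃ p p', (x : Big) *ᵥ tens a v = tens p v + tens p' v' ∧
      (l * μ - l) • p = 0 ∧ ((l * μ)⁻¹ - l) • p' = 0 := fun a => by
    obtain ⟨p, p', hpp⟩ := hxP a
    refine ⟨p, p', hpp, ?_⟩
    have h1 := hxg (tens a v)
    rw [hg0v, hBv, tens_smul_right, mulVec_smul, mulVec_smul, hpp, mulVec_add, hg0v, hg0v, hBv, hBv',
      mulVec_add, mulVec_smul, mulVec_smul, hwa, hwa, mulVec_smul, mulVec_smul, hbv, hbv'] at h1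
    have h2 := congrArg (ctr (formVec f₂ v')) h1
    have h3 := congrArg (ctr (formVec f₂ v)) h1
    simp only [ctr_add, ctr_smul, ctr_tens, hf.dot, hf.smulL, hb.vv, hb.vv', hb.v'v', hb.v'v hf, mul_zero,
      mul_one, zero_smul, smul_zero, add_zero, zero_add, one_smul, smul_smul] at h2 h3
    constructor
    · rw [← smul_eq_zero_iff_right hσ0, sub_smul, smul_sub, smul_smul, smul_smul, h2, sub_eq_zero]
    · rw [← smul_eq_zero_iff_right hσ0, sub_smul, smul_sub, smul_smul, smul_smul, h3, sub_eq_zero,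
        mul_inv]
  by_cases hμ1 : μ = 1
  · refine D.line hNR hxM hv hb.vv (v' := v) fun a => ?_
    obtain ⟨p, p', hpp, -, hp'⟩ := hq a
    have hne : (l * μ)⁻¹ - l ≠ 0 := fun e => hll (by
      rw [hμ1, mul_one, sub_eq_zero] at e
      field_simp at e
      linear_combination -e)
    exact ⟨p, by rw [hpp, (smul_eq_zero.1 hp').resolve_left hne, tens_zero_left, add_zero]⟩
  · refine D.line hNR hxM hv hb.vv (v' := v') fun a => ?_
    obtain ⟨p, p', hpp, hp0, -⟩ := hq a
    have hne : l * μ - l ≠ 0 := fun e => hμ1 (mul_left_cancel₀ hl (by linear_combination e))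
    exact ⟨p', by rw [hpp, (smul_eq_zero.1 hp0).resolve_left hne, tens_zero_left, zero_add]⟩

end Data

end Cfsg.Agent.Lib.OmegaTwelve.ThreeFour
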