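import Cfsg.Agent.Lib.OmegaTwelve.ThreeFour.Sides
import Cfsg.Agent.Lib.Subspaces.OmegaGL
import Cfsg.Agent.Lib.AschbacherEvenDim.Disc

/-!
An overgroup of the stabiliser of a tensor product of a three-dimensional and a minus-type four-dimensional
symmetric space inside `Ω` of the product: rotations of the factors, involutions and their traces.
-/

set_option autoImplicit false
set_option linter.unusedSectionVars false

namespace Cfsg.Agent.Lib.OmegaTwelve.ThreeFour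

open Matrix Kronecker Module
open Cfsg.Agent.Lib.Subspaces.Transvection Cfsg.Agent.Lib.Subspaces.FormVec
  Cfsg.Agent.Lib.Subspaces.OmegaGL Cfsg.Agent.Lib.TensorMax.Block Cfsg.Agent.Lib.TensorMax.Lemmas
  Cfsg.Agent.Lib.TensorFormMax.Basic Cfsg.Agent.Lib.TensorOrthMax.Side

variable {F : Type*} [Field F]

local notation "Vec" => Fin 3 × Fin 4 → F
local notation "Big" => Matrix (Fin 3 × Fin 4) (Fin 3 × Fin 4) F
local notation "A1" => Matrix (Fin 3) (Fin 3) F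
local notation "A2" => Matrix (Fin 4) (Fin 4) F
local notation "G" => GL (Fin 3 × Fin 4) F

/-- The setting. -/
structure Data (f₁ : (Fin 3 → F) → (Fin 3 → F) → F) (f₂ : (Fin 4 → F) → (Fin 4 → F) → F)
    (Q : (Fin 3 × Fin 4 → F) → F) (M : Subgroup (GL (Fin 3 × Fin 4) F)) : Prop where
  s1 : Sym f₁
  s2 : Sym f₂
  minus : Minus f₂
  q5 : 5 ≤ Nat.card F
  form : Cfsg.Geo.IsNondegenerateQuadraticForm Q
  tensB : ∀ u w u' w', QuadraticMap.polar Q (tens u w) (tens u' w') = f₁ u u' * f₂ w w'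
  below : M ≤ Cfsg.Geo.omegaGL Q
  above : Cfsg.Geo.kroneckerSubgroup 3 4 F ⊓ Cfsg.Geo.omegaGL Q ≤ M
  negMem : (-1 : GL (Fin 3 × Fin 4) F) ∉ Cfsg.Geo.omegaGL Q
  signs : ∀ g : GL (Fin 3 × Fin 4) F,
    (∀ x, Q ((g : Matrix (Fin 3 × Fin 4) (Fin 3 × Fin 4) F) *ᵥ x) = Q x) →
      (g : Matrix (Fin 3 × Fin 4) (Fin 3 × Fin 4) F).det = 1 →
        g ∈ Cfsg.Geo.omegaGL Q ∨ -g ∈ Cfsg.Geo.omegaGL Q

theorem mat_ext_tens {X Y : Big} (h : ∀ u w, X *ᵥ tens u w = Y *ᵥ tens u w) : X = Y := by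
  refine Matrix.mulVec_injective (funext fun z => ?_)
  rw [← sum_tens_slice z, mulVec_sum, mulVec_sum]
  simp only [h]

theorem kron_apply (a : A1) (b : A2) (u : Fin 3 → F) (w : Fin 4 → F) :
    (a ⊗ₖ b) *ᵥ tens u w = tens (a *ᵥ u) (b *ᵥ w) := kron_mulVec_tens a b u w

theorem tens_ne {u : Fin 3 → F} {w : Fin 4 → F} (hu : u ≠ 0) (hw : w ≠ 0) : tens u w ≠ 0 := fun e =>
  hu (tens_injective hw (e.trans (tens_zero_left w).symm))

theorem mem_kron {g : G} {a : A1} {b : A2} (h : (g : Big) = a ⊗ₖ b) : g ∈ Cfsg.Geo.kroneckerSubgroup 3 4 F := by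
  have hd := GeneralLinearGroup.det_ne_zero g
  rw [h, det_kronecker, Fintype.card_fin, Fintype.card_fin] at hd
  refine ⟨GeneralLinearGroup.mkOfDetNeZero a fun e => hd ?_, GeneralLinearGroup.mkOfDetNeZero b fun e => hd ?_, h⟩
  · rw [e, zero_pow (by omega), zero_mul]
  · rw [e, zero_pow (by omega), mul_zero]

/-- `a ⊗ b` with `a`, `b` rotations. -/
structure Rot (f₁ : (Fin 3 → F) → (Fin 3 → F) → F) (f₂ : (Fin 4 → F) → (Fin 4 → F) → F)
    (g : GL (Fin 3 × Fin 4) F) (a : Matrix (Fin 3) (Fin 3) F) (b : Matrix (Fin 4) (Fin 4) F) : Prop where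
  eq : (g : Matrix (Fin 3 × Fin 4) (Fin 3 × Fin 4) F) = a ⊗ₖ b
  isoa : Iso f₁ a
  isob : Iso f₂ b
  deta : a.det = 1
  detb : b.det = 1

/-- A half-turn of the first factor, up to sign. -/
def JEl (f₁ : (Fin 3 → F) → (Fin 3 → F) → F) (j : GL (Fin 3 × Fin 4) F) (u : Fin 3 → F) (s : F) : Prop :=
  f₁ u u ≠ 0 ∧ (s = 1 ∨ s = -1) ∧
    (j : Matrix (Fin 3 × Fin 4) (Fin 3 × Fin 4) F) = hu f₁ u ⊗ₖ (s • (1 : Matrix (Fin 4) (Fin 4) F))

/-- A product of two commuting reflections of the second factor. -/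
def KEl (f₂ : (Fin 4 → F) → (Fin 4 → F) → F) (k : GL (Fin 3 × Fin 4) F) (x x' : Fin 4 → F) : Prop :=
  Pair f₂ x x' ∧
    (k : Matrix (Fin 3 × Fin 4) (Fin 3 × Fin 4) F) = (1 : Matrix (Fin 3) (Fin 3) F) ⊗ₖ beta f₂ x x'

/-- A mixed involution. -/
def MEl (f₁ : (Fin 3 → F) → (Fin 3 → F) → F) (f₂ : (Fin 4 → F) → (Fin 4 → F) → F)
    (i : GL (Fin 3 × Fin 4) F) (u : Fin 3 → F) (x x' : Fin 4 → F) : Prop :=
  f₁ u u ≠ 0 ∧ Pair f₂ x x' ∧
    (i : Matrix (Fin 3 × Fin 4) (Fin 3 × Fin 4) F) = hu f₁ u ⊗ₖ beta f₂ x x'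

variable [Finite F] {f₁ : (Fin 3 → F) → (Fin 3 → F) → F} {f₂ : (Fin 4 → F) → (Fin 4 → F) → F}
  {Q : (Fin 3 × Fin 4 → F) → F} {M : Subgroup (GL (Fin 3 × Fin 4) F)}

theorem card_pos : 5 ≤ Fintype.card (Fin 3 × Fin 4) := by
  rw [Fintype.card_prod, Fintype.card_fin, Fintype.card_fin]; omega

namespace Data

variable (D : Data f₁ f₂ Q M)
include D

theorem two : (2 : F) ≠ 0 := D.s1.two

theorem four : (4 : F) ≠ 0 := by
  rw [show (4 : F) = 2 * 2 by ring]; exact mul_ne_zero D.two D.two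

theorem neg_one_ne : (-1 : F) ≠ 1 := fun e => D.two (by linear_combination -e)

theorem isoQ {g : G} (hg : g ∈ M) (x : Vec) : Q ((g : Big) *ᵥ x) = Q x :=
  omega_isometry D.form (D.below hg) x

theorem isoB {g : G} (hg : g ∈ M) (x y : Vec) :
    QuadraticMap.polar Q ((g : Big) *ᵥ x) ((g : Big) *ᵥ y) = QuadraticMap.polar Q x y :=
  Cfsg.Agent.Lib.Subspaces.OrthForm.B_map (D.isoQ hg) x y

theorem det_M {g : G} (hg : g ∈ M) : (g : Big).det = 1 :=
  Cfsg.Agent.Lib.AschbacherEvenDim.det_omega (D.below hg)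

theorem neg_not_mem : (-1 : G) ∉ M := fun h => D.negMem (D.below h)

theorem exists_pair1 : ∃ a, f₁ a a ≠ 0 := by
  obtain ⟨e, he⟩ := exists_frame D.s1
  exact ⟨e 0, he.ne 0⟩

theorem exists_aniso2 : ∃ w, f₂ w w ≠ 0 := by
  obtain ⟨e, he⟩ := exists_frame D.s2
  exact ⟨e 0, he.ne 0⟩

theorem B_eq_sum (X : Big) (x y : Vec) : QuadraticMap.polar Q (X *ᵥ x) (X *ᵥ y) =
    ∑ i, ∑ j, QuadraticMap.polar Q (X *ᵥ tens (Pi.single i 1) (slice x i))
      (X *ᵥ tens (Pi.single j 1) (slice y j)) := by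
  have hb := D.form.polar_bilinear
  let L : Vec →+ Vec →+ F := AddMonoidHom.mk' (fun a => AddMonoidHom.mk' (fun b => QuadraticMap.polar Q a b)
    (fun b b' => hb.add_right a b b')) fun a a' => AddMonoidHom.ext fun b => hb.add_left a a' b
  conv_lhs => rw [← sum_tens_slice x, ← sum_tens_slice y, mulVec_sum, mulVec_sum]
  show L _ _ = _
  simp only [map_sum, AddMonoidHom.finsetSum_apply]
  rw [Finset.sum_comm]
  rfl

/-- An element is an isometry once it is one on pure tensors. -/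
theorem iso_of_tens {X : Big}
    (h : ∀ u w u' w', QuadraticMap.polar Q (X *ᵥ tens u w) (X *ᵥ tens u' w') = f₁ u u' * f₂ w w')
    (x : Vec) : Q (X *ᵥ x) = Q x := by
  have hh : QuadraticMap.polar Q (X *ᵥ x) (X *ᵥ x) = QuadraticMap.polar Q x x := by
    have h1 := D.B_eq_sum 1 x x
    rw [one_mulVec] at h1
    rw [h1, D.B_eq_sum X x x]
    simp only [h, one_mulVec, D.tensB]
  rw [Cfsg.Agent.Lib.Subspaces.OrthForm.B_self D.form, Cfsg.Agent.Lib.Subspaces.OrthForm.B_self D.form] at hh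
  exact mul_left_cancel₀ D.two hh

/-- Rotations of the factors are in the group up to sign. -/
theorem exists_rot {a : A1} {b : A2} (ha : Iso f₁ a) (hb : Iso f₂ b) (hda : a.det = 1) (hdb : b.det = 1) :
    ∃ g ∈ M, Rot f₁ f₂ g a b ∨ Rot f₁ f₂ g a (-b) := by
  have hd : (a ⊗ₖ b).det ≠ 0 := by
    rw [det_kronecker, hda, hdb, one_pow, one_pow, one_mul]; exact one_ne_zero
  set g : G := GeneralLinearGroup.mkOfDetNeZero _ hd with hg
  have hgv : (g : Big) = a ⊗ₖ b := rfl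
  have hiso : ∀ x, Q ((g : Big) *ᵥ x) = Q x := fun x => D.iso_of_tens (fun u w u' w' => by
    rw [hgv, kron_apply, kron_apply, D.tensB, ha, hb]) x
  have hdet : (g : Big).det = 1 := by rw [hgv, det_kronecker, hda, hdb, one_pow, one_pow, one_mul]
  rcases D.signs g hiso hdet with h | h
  · exact ⟨g, D.above ⟨mem_kron hgv, h⟩, Or.inl ⟨hgv, ha, hb, hda, hdb⟩⟩
  · have hv : ((-g : G) : Big) = a ⊗ₖ (-b) := by
      rw [Units.val_neg, hgv, ← neg_one_smul F b, kronecker_smul, neg_one_smul]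
    exact ⟨-g, D.above ⟨mem_kron hv, h⟩, Or.inr ⟨hv, ha, hb.neg D.s2, hda, by
      rw [det_neg, hdb, Fintype.card_fin]; ring⟩⟩

/-- Every element of the stabiliser is a product of rotations. -/
theorem exists_rot_of_mem {g : G} (hg : g ∈ M) (hk : g ∈ Cfsg.Geo.kroneckerSubgroup 3 4 F) :
    ∃ a b, Rot f₁ f₂ g a b := by
  obtain ⟨A, B, hAB⟩ := hk
  obtain ⟨u0, hu0⟩ := D.exists_pair1
  obtain ⟨w0, hw0⟩ := D.exists_aniso2
  have hiso : ∀ u w u' w', f₁ ((A : A1) *ᵥ u) ((A : A1) *ᵥ u') * f₂ ((B : A2) *ᵥ w) ((B : A2) *ᵥ w') =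
      f₁ u u' * f₂ w w' := fun u w u' w' => by
    rw [← D.tensB, ← D.tensB, ← kron_apply, ← kron_apply, ← hAB, D.isoB hg]
  set μ := f₂ w0 w0 / f₂ ((B : A2) *ᵥ w0) ((B : A2) *ᵥ w0) with hμdef
  have hne : f₂ ((B : A2) *ᵥ w0) ((B : A2) *ᵥ w0) ≠ 0 := fun e => by
    have := hiso u0 w0 u0 w0
    rw [e, mul_zero, eq_comm, mul_eq_zero] at this
    exact this.elim hu0 hw0
  have hμ : μ ≠ 0 := div_ne_zero hw0 hne
  have hA : ∀ u u', f₁ ((A : A1) *ᵥ u) ((A : A1) *ᵥ u') = μ * f₁ u u' := fun u u' => by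
    rw [hμdef, div_mul_eq_mul_div, eq_div_iff hne]
    linear_combination hiso u w0 u' w0
  have hB : ∀ w w', f₂ ((B : A2) *ᵥ w) ((B : A2) *ᵥ w') * μ = f₂ w w' := fun w w' => by
    have := hiso u0 w u0 w'
    rw [hA] at this
    exact mul_left_cancel₀ hu0 (by linear_combination this)
  have hdA := GeneralLinearGroup.det_ne_zero A
  set t := (A : A1).det / μ with htdef
  have ht : t ≠ 0 := div_ne_zero hdA hμ
  have htt : t * t = μ := by
    rw [htdef, div_mul_div_comm, sim_det D.s1 hA, div_eq_iff (mul_ne_zero hμ hμ)]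
    ring
  refine ⟨t⁻¹ • (A : A1), t • (B : A2), ?_⟩
  have heq : (g : Big) = (t⁻¹ • (A : A1)) ⊗ₖ (t • (B : A2)) := by
    rw [hAB, smul_kronecker, kronecker_smul, smul_smul, inv_mul_cancel₀ ht, one_smul]
  have hia : Iso f₁ (t⁻¹ • (A : A1)) := fun x y => by
    rw [smul_mulVec, smul_mulVec, D.s1.smulL, D.s1.smulR, hA, ← htt]
    field_simp
  have hib : Iso f₂ (t • (B : A2)) := fun x y => by
    rw [smul_mulVec, smul_mulVec, D.s2.smulL, D.s2.smulR, ← hB x y, ← htt]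
    ring
  have hda : (t⁻¹ • (A : A1)).det = 1 := by
    rw [det_smul, Fintype.card_fin, inv_pow, inv_mul_eq_one₀ (pow_ne_zero 3 ht)]
    calc t ^ 3 = t * (t * t) := by ring
      _ = (A : A1).det := by rw [htt, htdef, div_mul_cancel₀ _ hμ]
  refine ⟨heq, hia, hib, hda, ?_⟩
  have h := D.det_M hg
  rw [heq, det_kronecker, Fintype.card_fin, Fintype.card_fin, hda, one_pow, one_mul] at h
  have h2 := hib.det_sq D.s2
  linear_combination h - (t • (B : A2)).det * h2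

theorem rot_unique {g : G} {a a' : A1} {b b' : A2} (h : Rot f₁ f₂ g a b) (h' : Rot f₁ f₂ g a' b') :
    a = a' ∧ b = b' := by
  obtain ⟨u0, hu0⟩ := D.exists_pair1
  obtain ⟨w0, hw0⟩ := D.exists_aniso2
  have he : a ⊗ₖ b = a' ⊗ₖ b' := h.eq.symm.trans h'.eq
  have hw0' : b *ᵥ w0 ≠ 0 := fun e => hw0 (by rw [← h.isob, e, D.s2.zeroL])
  obtain ⟨η, hη⟩ := exists_dot_eq_one hw0'
  set c := η ⬝ᵥ (b' *ᵥ w0) with hc
  have ha : a = c • a' := Matrix.mulVec_injective (funext fun u => by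
    have h1 := congrArg (fun X : Big => ctr η (X *ᵥ tens u w0)) he
    simp only [kron_apply, ctr_tens, hη, one_smul] at h1
    rw [h1, smul_mulVec, hc])
  have hc0 : c ≠ 0 := fun e => hu0 (by
    rw [← h.isoa, ha, e, zero_smul, zero_mulVec, D.s1.zeroL])
  have hc2 : c * c = 1 := by
    have h1 := h.isoa u0 u0
    rw [ha, smul_mulVec, D.s1.smulL, D.s1.smulR, h'.isoa, ← mul_assoc] at h1
    exact mul_right_cancel₀ hu0 (by rw [h1, one_mul])
  have hc1 : c = 1 := by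
    have h1 := h.deta
    rw [ha, det_smul, h'.deta, Fintype.card_fin, mul_one] at h1
    linear_combination h1 - c * hc2
  have haa : a = a' := by rw [ha, hc1, one_smul]
  refine ⟨haa, Matrix.mulVec_injective (funext fun w => ?_)⟩
  have hu' : a' *ᵥ u0 ≠ 0 := fun e => hu0 (by rw [← h'.isoa, e, D.s1.zeroL])
  obtain ⟨i, hi⟩ := Function.ne_iff.1 hu'
  have h1 := congrArg (fun X : Big => X *ᵥ tens u0 w) he
  simp only [kron_apply, haa] at h1
  exact funext fun d => mul_left_cancel₀ hi (congrFun h1 (i, d))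

theorem rot_mul {g g' : G} {a a' : A1} {b b' : A2} (h : Rot f₁ f₂ g a b) (h' : Rot f₁ f₂ g' a' b') :
    Rot f₁ f₂ (g * g') (a * a') (b * b') :=
  ⟨by rw [Units.val_mul, h.eq, h'.eq, mul_kronecker_mul], h.isoa.mul h'.isoa, h.isob.mul h'.isob,
    by rw [det_mul, h.deta, h'.deta, one_mul], by rw [det_mul, h.detb, h'.detb, one_mul]⟩

theorem rot_one : Rot f₁ f₂ (1 : G) 1 1 :=
  ⟨by rw [one_kronecker_one, Units.val_one], fun x y => by rw [one_mulVec, one_mulVec],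
    fun x y => by rw [one_mulVec, one_mulVec], det_one, det_one⟩

theorem exists_J {u : Fin 3 → F} (hu0 : f₁ u u ≠ 0) : ∃ j ∈ M, ∃ s, JEl f₁ j u s := by
  obtain ⟨j, hj, h | h⟩ := D.exists_rot (hu_iso D.s1 hu0) (b := (1 : A2))
    (fun x y => by rw [one_mulVec, one_mulVec]) (hu_det D.s1 hu0) det_one
  · exact ⟨j, hj, 1, hu0, Or.inl rfl, by rw [h.eq, one_smul]⟩
  · exact ⟨j, hj, -1, hu0, Or.inr rfl, by rw [h.eq, neg_one_smul]⟩

theorem exists_K {x x' : Fin 4 → F} (hp : Pair f₂ x x') :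
    ∃ k ∈ M, ∃ y y', KEl f₂ k y y' ∧ (beta f₂ y y' = beta f₂ x x' ∨ beta f₂ y y' = -beta f₂ x x') := by
  obtain ⟨k, hk, h | h⟩ := D.exists_rot (a := (1 : A1)) (fun x y => by rw [one_mulVec, one_mulVec])
    (beta_iso D.s2 hp) det_one (beta_det D.s2 hp)
  · exact ⟨k, hk, x, x', ⟨hp, h.eq⟩, Or.inl rfl⟩
  · obtain ⟨y, y', hq, he, -⟩ := exists_compl D.s2 D.minus hp
    exact ⟨k, hk, y, y', ⟨hq, by rw [h.eq, he, neg_neg]⟩, Or.inr (by rw [he, neg_neg])⟩

theorem JEl.rot {j : G} {u : Fin 3 → F} {s : F} (h : JEl f₁ j u s) :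
    Rot f₁ f₂ j (hu f₁ u) (s • (1 : A2)) := by
  refine ⟨h.2.2, hu_iso D.s1 h.1, fun x y => ?_, hu_det D.s1 h.1, ?_⟩
  · rw [smul_mulVec, smul_mulVec, one_mulVec, one_mulVec, D.s2.smulL, D.s2.smulR, ← mul_assoc]
    rcases h.2.1 with rfl | rfl <;> ring
  · rw [det_smul, det_one, Fintype.card_fin]
    rcases h.2.1 with rfl | rfl <;> ring

theorem KEl.rot {k : G} {x x' : Fin 4 → F} (h : KEl f₂ k x x') :
    Rot f₁ f₂ k 1 (beta f₂ x x') :=
  ⟨h.2, fun x y => by rw [one_mulVec, one_mulVec], beta_iso D.s2 h.1, det_one, beta_det D.s2 h.1⟩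

theorem MEl.rot {i : G} {u : Fin 3 → F} {x x' : Fin 4 → F} (h : MEl f₁ f₂ i u x x') :
    Rot f₁ f₂ i (hu f₁ u) (beta f₂ x x') :=
  ⟨h.2.2, hu_iso D.s1 h.1, beta_iso D.s2 h.2.1, hu_det D.s1 h.1, beta_det D.s2 h.2.1⟩

theorem inv_of_rot {g : G} {a : A1} {b : A2} (h : Rot f₁ f₂ g a b) (hg : g * g = 1) :
    a * a = 1 ∧ b * b = 1 :=
  D.rot_unique (D.rot_mul h h) (hg ▸ D.rot_one)

/-- The involutions of the stabiliser. -/
theorem classify {i : G} (hi : i ∈ M) (hk : i ∈ Cfsg.Geo.kroneckerSubgroup 3 4 F) (hii : i * i = 1)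
    (hi1 : i ≠ 1) :
    (∃ u s, JEl f₁ i u s) ∨ (∃ x x', KEl f₂ i x x') ∨ (∃ u x x', MEl f₁ f₂ i u x x') := by
  obtain ⟨a, b, h⟩ := D.exists_rot_of_mem hi hk
  obtain ⟨haa, hbb⟩ := D.inv_of_rot h hii
  rcases eq_hu D.s1 h.isoa haa h.deta with rfl | ⟨u, hu0, rfl⟩
  · rcases eq_beta D.s2 h.isob hbb h.detb with rfl | rfl | ⟨x, x', hp, rfl⟩
    · exact absurd (Units.ext (by rw [h.eq, one_kronecker_one, Units.val_one])) hi1
    · refine absurd hi (?_ : i ∉ M)
      rw [show i = -1 from Units.ext (by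
        rw [h.eq, ← neg_one_smul F (1 : A2), kronecker_smul, one_kronecker_one, Units.val_neg, Units.val_one,
          neg_one_smul])]
      exact D.neg_not_mem
    · exact Or.inr (Or.inl ⟨x, x', hp, h.eq⟩)
  · rcases eq_beta D.s2 h.isob hbb h.detb with rfl | rfl | ⟨x, x', hp, rfl⟩
    · exact Or.inl ⟨u, 1, hu0, Or.inl rfl, by rw [h.eq, one_smul]⟩
    · exact Or.inl ⟨u, -1, hu0, Or.inr rfl, by rw [h.eq, neg_one_smul]⟩
    · exact Or.inr (Or.inr ⟨u, x, x', hu0, hp, h.eq⟩)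

theorem trace_J {j : G} {u : Fin 3 → F} {s : F} (h : JEl f₁ j u s) : (j : Big).trace = -(4 * s) := by
  rw [h.2.2, trace_kronecker, hu_trace D.s1 h.1, trace_smul, trace_one, Fintype.card_fin, smul_eq_mul]
  push_cast
  ring

theorem trace_J_ne {j : G} {u : Fin 3 → F} {s : F} (h : JEl f₁ j u s) : (j : Big).trace ≠ 0 := by
  rw [D.trace_J h]
  rcases h.2.1 with rfl | rfl <;> simpa using D.four

theorem trace_K {k : G} {x x' : Fin 4 → F} (h : KEl f₂ k x x') : (k : Big).trace = 0 := by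
  rw [h.2, trace_kronecker, trace_beta D.s2 h.1, mul_zero]

theorem trace_MEl {i : G} {u : Fin 3 → F} {x x' : Fin 4 → F} (h : MEl f₁ f₂ i u x x') :
    (i : Big).trace = 0 := by
  rw [h.2.2, trace_kronecker, trace_beta D.s2 h.2.1, mul_zero]

theorem trace_conj (y i : G) : ((y * i * y⁻¹ : G) : Big).trace = (i : Big).trace := by
  rw [Units.val_mul, Units.val_mul, trace_mul_cycle, ← Units.val_mul, inv_mul_cancel, Units.val_one, one_mul]

theorem J_mul_self {j : G} {u : Fin 3 → F} {s : F} (h : JEl f₁ j u s) : j * j = 1 := Units.ext (by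
  rw [Units.val_mul, h.2.2, ← mul_kronecker_mul, hu_mul_self D.s1 h.1, smul_mul_smul_comm, mul_one,
    Units.val_one]
  rcases h.2.1 with rfl | rfl <;> simp [one_kronecker_one])

theorem K_mul_self {k : G} {x x' : Fin 4 → F} (h : KEl f₂ k x x') : k * k = 1 := Units.ext (by
  rw [Units.val_mul, h.2, ← mul_kronecker_mul, beta_mul_self D.s2 h.1, one_mul, one_kronecker_one,
    Units.val_one])

theorem J_comm_rot {j : G} {u : Fin 3 → F} {s : F} (h : JEl f₁ j u s) {g : G} {b : A2}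
    (hg : (g : Big) = (1 : A1) ⊗ₖ b) : Commute j g := Units.ext (by
  rw [Units.val_mul, Units.val_mul, h.2.2, hg, ← mul_kronecker_mul, ← mul_kronecker_mul, one_mul, mul_one,
    Matrix.smul_mul, Matrix.mul_smul, one_mul, mul_one])

/-- A conjugate in the stabiliser of a half-turn is one, of the same sign. -/
theorem J_of_conj {x j : G} {u : Fin 3 → F} {s : F} (h : JEl f₁ j u s) (hx : x ∈ M) (hj : j ∈ M)
    (hk : x * j * x⁻¹ ∈ Cfsg.Geo.kroneckerSubgroup 3 4 F) : ∃ u', JEl f₁ (x * j * x⁻¹) u' s := by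
  have htr : ((x * j * x⁻¹ : G) : Big).trace = -(4 * s) := by rw [D.trace_conj, D.trace_J h]
  have hne : -(4 * s) ≠ 0 := by rw [← D.trace_J h]; exact D.trace_J_ne h
  rcases D.classify (M.mul_mem (M.mul_mem hx hj) (M.inv_mem hx)) hk
    (by rw [conj_mul, D.J_mul_self h, mul_one, mul_inv_cancel])
    (fun e => by
      rw [e, Units.val_one, trace_one, Fintype.card_prod, Fintype.card_fin, Fintype.card_fin] at htr
      push_cast at htr
      have h16 : (16 : F) ≠ 0 := by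
        rw [show (16 : F) = 4 * 4 by ring]; exact mul_ne_zero D.four D.four
      have h8 : (8 : F) ≠ 0 := by
        rw [show (8 : F) = 4 * 2 by ring]; exact mul_ne_zero D.four D.two
      rcases h.2.1 with rfl | rfl
      · exact h16 (by linear_combination htr)
      · exact h8 (by linear_combination htr))
    with ⟨u', s', h'⟩ | ⟨y, y', h'⟩ | ⟨u', y, y', h'⟩
  · refine ⟨u', ?_⟩
    rw [D.trace_J h', neg_inj] at htr
    rwa [← mul_left_cancel₀ D.four htr]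
  · exact absurd (htr.symm.trans (D.trace_K h')) hne
  · exact absurd (htr.symm.trans (D.trace_MEl h')) hne

theorem exists_char : ∃ p : ℕ, Fact p.Prime ∧ CharP F p ∧ 3 ≤ p ∧ Odd p := by
  obtain ⟨p, hp⟩ := CharP.exists F
  have hpr : p.Prime := (CharP.char_is_prime_or_zero F p).resolve_right (CharP.char_ne_zero_of_finite F p)
  have h2 : p ≠ 2 := fun e => D.two (by subst e; exact_mod_cast CharP.cast_eq_zero F 2)
  exact ⟨p, ⟨hpr⟩, hp, by have := hpr.two_le; omega, hpr.odd_of_ne_two h2⟩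

/-- A unipotent element has order dividing the characteristic. -/
theorem pow_char_eq_one {p : ℕ} [Fact p.Prime] [CharP F p] (hp : 3 ≤ p) {g : G}
    (h : ((g : Big) - 1) ^ 3 = 0) : g ^ p = 1 := by
  refine Units.ext ?_
  have : CharP Big p := Matrix.charP p
  have h1 : ((g : Big) - 1) ^ p = 0 := by
    obtain ⟨d, rfl⟩ := Nat.exists_eq_add_of_le hp
    rw [pow_add, h, zero_mul]
  rw [sub_pow_char_of_commute p (Commute.one_right _), one_pow, sub_eq_zero] at h1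
  rw [Units.val_pow_eq_pow_val, Units.val_one, h1]

end Data

end Cfsg.Agent.Lib.OmegaTwelve.ThreeFour
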