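import Cfsg.Agent.Lib.OmegaTwelve.ThreeFour.CentK

/-!
An overgroup of the stabiliser meeting no radical outside it is the stabiliser.
-/

set_option autoImplicit false
set_option linter.unusedSectionVars false

namespace Cfsg.Agent.Lib.OmegaTwelve.ThreeFour

open Matrix Kronecker Module
open Cfsg.Agent.Lib.Subspaces.Transvection Cfsg.Agent.Lib.Subspaces.FormVec
  Cfsg.Agent.Lib.TensorMax.Lemmas
  Cfsg.Agent.Lib.TensorFormMax.Basic Cfsg.Agent.Lib.TensorOrthMax.Side
  Cfsg.Agent.Lib.TensorOrthMax.InvariantOrth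
open Cfsg.Agent.Lib.TensorOrthMax.Setup (eN eN_self eN_mulVec eN_add eN_zero eN_isometry eN_fix)

variable {F : Type*} [Field F]

local notation "Vec" => Fin 3 × Fin 4 → F
local notation "V1" => Fin 3 → F
local notation "V2" => Fin 4 → F
local notation "Big" => Matrix (Fin 3 × Fin 4) (Fin 3 × Fin 4) F
local notation "A1" => Matrix (Fin 3) (Fin 3) F
local notation "A2" => Matrix (Fin 4) (Fin 4) F
local notation "G" => GL (Fin 3 × Fin 4) F

/-- The part of the stabiliser that `x` carries into it. -/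
def meet (M : Subgroup (GL (Fin 3 × Fin 4) F)) (x : GL (Fin 3 × Fin 4) F) :
    Subgroup (GL (Fin 3 × Fin 4) F) :=
  M ⊓ Cfsg.Geo.kroneckerSubgroup 3 4 F ⊓ (Cfsg.Geo.kroneckerSubgroup 3 4 F).comap (MulAut.conj x).toMonoidHom

variable [Finite F] {f₁ : (Fin 3 → F) → (Fin 3 → F) → F} {f₂ : (Fin 4 → F) → (Fin 4 → F) → F}
  {Q : (Fin 3 × Fin 4 → F) → F} {M : Subgroup (GL (Fin 3 × Fin 4) F)}

namespace Data

variable (D : Data f₁ f₂ Q M)
include D

theorem hu_ne_one {u : V1} (hu0 : f₁ u u ≠ 0) : hu f₁ u ≠ 1 := fun e => by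
  have h := hu_trace D.s1 hu0
  rw [e, trace_one, Fintype.card_fin] at h
  exact D.four (by push_cast at h; linear_combination h)

theorem invol_J {j : G} {u : V1} {s : F} (h : JEl f₁ j u s) : orderOf j = 2 :=
  Cfsg.Agent.Lib.Involutions.Basic.invol_iff.2 ⟨D.J_mul_self h, fun e => D.hu_ne_one h.1
    (D.rot_unique (Data.JEl.rot D h) (e ▸ D.rot_one)).1⟩

theorem invol_K {k : G} {y y' : V2} (h : KEl f₂ k y y') : orderOf k = 2 :=
  Cfsg.Agent.Lib.Involutions.Basic.invol_iff.2 ⟨D.K_mul_self h, fun e => by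
    have h0 := D.trace_K h
    rw [e, Units.val_one, trace_one, Fintype.card_prod, Fintype.card_fin, Fintype.card_fin] at h0
    have hb := (D.rot_unique (Data.KEl.rot D h) (e ▸ D.rot_one)).2
    have h1 := congrArg (· *ᵥ y) hb
    simp only [one_mulVec, beta_self D.s2 h.1] at h1
    have h2 := congrArg (fun w => f₂ w y) h1
    simp only [D.s2.negL] at h2
    exact h.1.ne ((mul_eq_zero.1 (show (2 : F) * f₂ y y = 0 by linear_combination -h2)).resolve_left D.s2.two)⟩

/-- The inverse of a product of rotations. -/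
theorem rot_inv {g : G} (hg : g ∈ M) {a : A1} {b : A2} (h : Rot f₁ f₂ g a b) :
    ∃ a' b', Rot f₁ f₂ g⁻¹ a' b' ∧ a' * a = 1 ∧ b' * b = 1 := by
  obtain ⟨a', b', h'⟩ := D.exists_rot_of_mem (M.inv_mem hg) (inv_mem (mem_kron h.eq))
  have h1 := D.rot_mul h' h
  rw [inv_mul_cancel] at h1
  obtain ⟨e1, e2⟩ := D.rot_unique h1 D.rot_one
  exact ⟨a', b', h', e1, e2⟩

variable (hNR : NR f₂ M) {x : GL (Fin 3 × Fin 4) F} (hx : x ∈ M) (hxk : x ∉ Cfsg.Geo.kroneckerSubgroup 3 4 F)
include hNR hx hxk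

theorem mem_meet {g : G} : g ∈ meet M x ↔
    g ∈ M ∧ g ∈ Cfsg.Geo.kroneckerSubgroup 3 4 F ∧ x * g * x⁻¹ ∈ Cfsg.Geo.kroneckerSubgroup 3 4 F :=
  ⟨fun h => ⟨h.1.1, h.1.2, h.2⟩, fun h => ⟨⟨h.1, h.2.1⟩, h.2.2⟩⟩

theorem J_not_meet {j : G} {u : V1} {s : F} (hj : j ∈ M) (h : JEl f₁ j u s) :
    x⁻¹ * j * x ∉ Cfsg.Geo.kroneckerSubgroup 3 4 F := fun hk => hxk (by
  have := D.centJ hNR h hj (M.inv_mem hx) (by rwa [inv_inv])
  simpa using inv_mem this)

/-- Every product of two commuting reflections lifts into the meet. -/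
theorem exists_beta {y y' : V2} (hp : Pair f₂ y y') :
    ∃ g ∈ meet M x, ∃ (a : A1) (σ : F), (σ = 1 ∨ σ = -1) ∧ Rot f₁ f₂ g a (σ • beta f₂ y y') := by
  classical
  obtain ⟨k, hk, z, z', hK, hβ⟩ := D.exists_K hp
  obtain ⟨u, hu0⟩ := D.exists_pair1
  obtain ⟨j, hj, s, hJ⟩ := D.exists_J hu0
  set j' := x⁻¹ * j * x with hj'
  have hj'M : j' ∈ M := M.mul_mem (M.mul_mem (M.inv_mem hx) hj) hx
  have hjk : j' ∉ Cfsg.Geo.kroneckerSubgroup 3 4 F := D.J_not_meet hNR hx hxk hj hJ
  have hj'2 : orderOf j' = 2 := by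
    have h1 := Cfsg.Agent.Lib.Involutions.Basic.orderOf_conj_eq x⁻¹ j
    rw [inv_inv] at h1
    rw [hj', h1, D.invol_J hJ]
  have hk2 := D.invol_K hK
  have htr : (j' : Big).trace ≠ 0 := by
    have h1 := D.trace_conj x⁻¹ j
    rw [inv_inv] at h1
    rw [hj', h1]
    exact D.trace_J_ne hJ
  have heven : Even (orderOf (k * j')) := by
    refine Cfsg.Agent.Lib.Involutions.Basic.even_of_not_isConj hk2 hj'2 fun hc => ?_
    obtain ⟨d, hd⟩ := isConj_iff.1 hc
    exact htr (by rw [← hd, D.trace_conj, D.trace_K hK])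
  obtain ⟨hi2, hik, hij⟩ := Cfsg.Agent.Lib.Involutions.Basic.central_invol hk2 hj'2 heven
  set m := orderOf (k * j') / 2
  set i0 := (k * j') ^ m with hi0
  have hi0M : i0 ∈ M := M.pow_mem (M.mul_mem hk hj'M) _
  have hi0k : i0 ∈ Cfsg.Geo.kroneckerSubgroup 3 4 F := D.centK hNR hK hk hi0M hik.eq
  have hii : x * i0 * x⁻¹ ∈ Cfsg.Geo.kroneckerSubgroup 3 4 F := by
    refine D.centJ hNR hJ hj (M.mul_mem (M.mul_mem hx hi0M) (M.inv_mem hx)) ?_
    have e : x * i0 * x⁻¹ * j * (x * i0 * x⁻¹)⁻¹ = j := by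
      calc x * i0 * x⁻¹ * j * (x * i0 * x⁻¹)⁻¹ = x * (i0 * j') * i0⁻¹ * x⁻¹ := by rw [hj']; group
        _ = x * (j' * i0) * i0⁻¹ * x⁻¹ := by rw [hij.eq]
        _ = j := by rw [hj']; group
    rw [e]
    exact mem_kron hJ.2.2
  obtain ⟨hi0s, hi0ne⟩ := Cfsg.Agent.Lib.Involutions.Basic.invol_iff.1 hi2
  rcases D.classify hi0M hi0k hi0s hi0ne with ⟨u', s', hJ'⟩ | ⟨w, w', hK'⟩ | ⟨a0, w, w', hM'⟩
  · refine absurd (D.centJ hNR hJ' hi0M hj'M ?_) hjk
    rw [← hij.eq, mul_inv_cancel_right]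
    exact hi0k
  · exact absurd (D.centK hNR hK' hi0M hj'M hij.eq.symm) hjk
  -- a mixed involution
  have hr0 := Data.MEl.rot D hM'
  have hrk := Data.KEl.rot D hK
  have hprod := D.rot_mul hrk hr0
  rw [one_mul] at hprod
  have hcomm : beta f₂ z z' * beta f₂ w w' = beta f₂ w w' * beta f₂ z z' := by
    have h1 := D.rot_mul hr0 hrk
    rw [hik.eq, mul_one] at h1
    exact (D.rot_unique hprod h1).2
  set β := beta f₂ z z'
  set β0 := beta f₂ w w'
  have hββ : β * β0 * (β * β0) = 1 := by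
    calc β * β0 * (β * β0) = β * (β0 * β) * β0 := by noncomm_ring
      _ = β * (β * β0) * β0 := by rw [hcomm]
      _ = β * β * (β0 * β0) := by noncomm_ring
      _ = 1 := by rw [beta_mul_self D.s2 hK.1, beta_mul_self D.s2 hM'.2.1, mul_one]
  have hlift : ∀ σ : F, σ = 1 ∨ σ = -1 → β * β0 = σ • (1 : A2) → β0 = σ • β := fun σ _ e => by
    calc β0 = β * β * β0 := by rw [beta_mul_self D.s2 hK.1, one_mul]
      _ = σ • β := by rw [mul_assoc, e, mul_smul_comm, mul_one]
  have hfin : ∀ σ : F, σ = 1 ∨ σ = -1 → β0 = σ • β →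
      ∃ g ∈ meet M x, ∃ (a : A1) (σ : F), (σ = 1 ∨ σ = -1) ∧ Rot f₁ f₂ g a (σ • beta f₂ y y') := fun σ hσ e => by
    refine ⟨i0, (D.mem_meet hNR hx hxk).2 ⟨hi0M, hi0k, hii⟩, hu f₁ a0, ?_⟩
    rcases hβ with h1 | h1
    · exact ⟨σ, hσ, by rw [← h1, ← e]; exact hr0⟩
    · exact ⟨-σ, by rcases hσ with rfl | rfl <;> simp, by
        rw [show beta f₂ y y' = -β by rw [h1, neg_neg], neg_smul_neg, ← e]; exact hr0⟩
  rcases eq_beta D.s2 hprod.isob hββ hprod.detb with e | e | ⟨v, v', hpv, e⟩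
  · exact hfin 1 (Or.inl rfl) (hlift 1 (Or.inl rfl) (by rw [e, one_smul]))
  · exact hfin (-1) (Or.inr rfl) (hlift (-1) (Or.inr rfl) (by rw [e, neg_one_smul]))
  exfalso
  have hM2 : MEl f₁ f₂ (k * i0) a0 v v' := ⟨hM'.1, hpv, by rw [hprod.eq, e]⟩
  have hkk := D.K_mul_self hK
  have hj'j' := Cfsg.Agent.Lib.Involutions.Basic.invol_mul_self hj'2
  have hconj : ∃ d ∈ Subgroup.closure ({k, j'} : Set G), d * k * d⁻¹ = k * i0 := by
    rcases Nat.even_or_odd' m with ⟨c, hc | hc⟩
    · exact (Cfsg.Agent.Lib.Involutions.Basic.exists_conj_mem_iff hkk hj'j').2 ⟨c, by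
        rw [hi0, hc, ← zpow_natCast]; push_cast; rfl⟩
    · obtain ⟨d, -, hd⟩ := (Cfsg.Agent.Lib.Involutions.Basic.exists_conj_mem_iff hj'j' hkk).2
        ⟨-(c : ℤ), rfl⟩
      exfalso
      have e1 : k * i0 = d * j' * d⁻¹ := by
        have hinv : j' * k = (k * j')⁻¹ := by
          rw [_root_.mul_inv_rev, inv_eq_of_mul_eq_one_right hkk, inv_eq_of_mul_eq_one_right hj'j']
        rw [hd, hi0, hc, pow_succ', ← mul_assoc, ← mul_assoc, hkk, one_mul, hinv, _root_.inv_zpow', ← zpow_natCast]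
        congr 2
        push_cast
        ring
      refine htr ?_
      rw [← D.trace_conj d j', ← e1, D.trace_MEl hM2]
  obtain ⟨d, hd, hdk⟩ := hconj
  have hdM : d ∈ M := by
    refine (Subgroup.closure_le M).2 ?_ hd
    rintro _ (rfl | rfl) <;> assumption
  obtain ⟨ja, hja, sa, hJa⟩ := D.exists_J hM'.1
  have hcja : ja * (k * i0) = (k * i0) * ja := Units.ext (by
    rw [Units.val_mul (a := ja), Units.val_mul (b := ja), hM2.2.2, hJa.2.2, ← mul_kronecker_mul,
      ← mul_kronecker_mul, smul_one_mul, mul_smul_one])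
  have hck : d⁻¹ * ja * d * k = k * (d⁻¹ * ja * d) := by
    rw [← hdk] at hcja
    calc d⁻¹ * ja * d * k = d⁻¹ * (ja * (d * k * d⁻¹)) * d := by group
      _ = d⁻¹ * (d * k * d⁻¹ * ja) * d := by rw [hcja]
      _ = k * (d⁻¹ * ja * d) := by group
  have hjd := D.centK hNR hK hk (M.mul_mem (M.mul_mem (M.inv_mem hdM) hja) hdM) hck
  have hdkr : d ∈ Cfsg.Geo.kroneckerSubgroup 3 4 F := by
    simpa using inv_mem (D.centJ hNR hJa hja (M.inv_mem hdM) (by rwa [inv_inv]))
  obtain ⟨a, b, hr⟩ := D.exists_rot_of_mem hdM hdkr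
  obtain ⟨a', b', hr', ha', hb'⟩ := D.rot_inv hdM hr
  have h1 := D.rot_mul (D.rot_mul hr hrk) hr'
  rw [hdk, mul_one] at h1
  obtain ⟨e1, -⟩ := D.rot_unique h1 hprod
  have haa : a * a' = 1 := mul_eq_one_comm.1 ha'
  rw [haa] at e1
  exact D.hu_ne_one hM'.1 e1.symm

/-- The meet has no involution trivial on the first factor. -/
theorem no_invol {h : G} (hh : h ∈ meet M x) {b : A2} (hr : Rot f₁ f₂ h 1 b) (hsq : h * h = 1) : h = 1 := by
  by_contra h1
  obtain ⟨hM, hk, hxh⟩ := (D.mem_meet hNR hx hxk).1 hh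
  rcases D.classify hM hk hsq h1 with ⟨u, s, hJ⟩ | ⟨z, z', hK⟩ | ⟨u, z, z', hM'⟩
  · exact D.hu_ne_one hJ.1 (D.rot_unique (Data.JEl.rot D hJ) hr).1
  · -- a half-turn commuting with the conjugate
    set i := x * h * x⁻¹ with hi
    have hiM : i ∈ M := M.mul_mem (M.mul_mem hx hM) (M.inv_mem hx)
    have hii : i * i = 1 := by rw [hi, conj_mul, hsq, mul_one, mul_inv_cancel]
    have hi1 : i ≠ 1 := fun e => h1 (by rwa [hi, conj_eq_one_iff] at e)
    have hJc : ∃ (j : G) (u : V1) (s : F), j ∈ M ∧ JEl f₁ j u s ∧ j * i = i * j := by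
      rcases D.classify hiM hxh hii hi1 with ⟨u, s, hJ⟩ | ⟨w, w', hK'⟩ | ⟨u, w, w', hM'⟩
      · exact absurd (((D.trace_conj x h).trans (D.trace_K hK))) (D.trace_J_ne hJ)
      · obtain ⟨u, hu0⟩ := D.exists_pair1
        obtain ⟨j, hj, s, hJ⟩ := D.exists_J hu0
        exact ⟨j, u, s, hj, hJ, (D.J_comm_rot hJ hK'.2).eq⟩
      · obtain ⟨j, hj, s, hJ⟩ := D.exists_J hM'.1
        exact ⟨j, u, s, hj, hJ, Units.ext (by
          rw [Units.val_mul (a := j), Units.val_mul (b := j), hM'.2.2, hJ.2.2, ← mul_kronecker_mul, ← mul_kronecker_mul,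
            smul_one_mul, mul_smul_one])⟩
    obtain ⟨j, u, s, hj, hJ, hc⟩ := hJc
    refine D.J_not_meet hNR hx hxk hj hJ (D.centK hNR hK hM (M.mul_mem (M.mul_mem (M.inv_mem hx) hj) hx) ?_)
    calc x⁻¹ * j * x * h = x⁻¹ * (j * i) * x := by rw [hi]; group
      _ = x⁻¹ * (i * j) * x := by rw [hc]
      _ = h * (x⁻¹ * j * x) := by rw [hi]; group
  · exact D.hu_ne_one hM'.1 (D.rot_unique (Data.MEl.rot D hM') hr).1

set_option maxHeartbeats 2000000 in
/-- There is no such element. -/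
theorem absurd_of_not_kron : False := by
  classical
  obtain ⟨p, hp, hch, hp3, hodd⟩ := D.exists_char
  have hf := D.s2
  have hf1 := D.s1
  obtain ⟨v, hv, hvv⟩ := hf.exists_iso (by omega)
  obtain ⟨v', t, hb⟩ := exists_hb hf D.minus hv hvv
  -- the vectors of the anisotropic plane and their perpendiculars
  let z : F × F → V2 := fun c => c.1 • t 0 + c.2 • t 1
  have hzv : ∀ c, f₂ (z c) v = 0 := fun c => by simp [z, hf.addL, hf.smulL, hb.tv]
  have hzv' : ∀ c, f₂ (z c) v' = 0 := fun c => by simp [z, hf.addL, hf.smulL, hb.tv']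
  have hzne : ∀ c, c ≠ 0 → f₂ (z c) (z c) ≠ 0 := fun c hc e => hc (by
    have h2 := hb.aniso ![c.1, c.2] (by
      simp only [z, hf.addL, hf.addR, hf.smulL, hf.smulR, hb.torth, hb.t10 hf] at e
      simp only [Fin.sum_univ_two, Matrix.cons_val_zero, Matrix.cons_val_one]
      linear_combination e)
    exact Prod.ext (congrFun h2 0) (congrFun h2 1))
  have hperp : ∀ c, c ≠ 0 → ∃ r, f₂ r v = 0 ∧ f₂ r v' = 0 ∧ f₂ r (z c) = 0 ∧ f₂ r r ≠ 0 := fun c hc => by
    refine ⟨z (-(c.2 * f₂ (t 1) (t 1)), c.1 * f₂ (t 0) (t 0)), hzv _, hzv' _, ?_, ?_⟩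
    · simp only [z, hf.addL, hf.addR, hf.smulL, hf.smulR, hb.torth, hb.t10 hf]; ring
    · have := mul_ne_zero (mul_ne_zero (hb.tne 0) (hb.tne 1)) (hzne c hc)
      simp only [z, hf.addL, hf.addR, hf.smulL, hf.smulR, hb.torth, hb.t10 hf] at this ⊢
      exact fun e => this (by linear_combination e)
  have hzadd : ∀ c d, z (c + d) = z c + z d := fun c d => by simp [z, add_smul]; abel
  -- lifts of the Eichler elements
  have hlift : ∀ c, ∃ g ∈ meet M x, ∃ (a : A1) (σ : F), (σ = 1 ∨ σ = -1) ∧ Rot f₁ f₂ g a (σ • (1 + eN f₂ v (z c))) := by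
    intro c
    by_cases hc : c = 0
    · refine ⟨1, (meet M x).one_mem, 1, 1, Or.inl rfl, ?_⟩
      have h0 : z c = 0 := by simp [z, hc]
      rw [h0, eN_zero hf, add_zero, one_smul]
      exact D.rot_one
    set q := -(2 / f₂ (z c) (z c)) with hq
    set w := q • z c with hwdef
    have hζ : f₂ w w ≠ 0 := by
      rw [hwdef, hf.smulL, hf.smulR]
      exact mul_ne_zero (neg_ne_zero.2 (div_ne_zero hf.two (hzne c hc)))
        (mul_ne_zero (neg_ne_zero.2 (div_ne_zero hf.two (hzne c hc))) (hzne c hc))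
    obtain ⟨r, hrv, -, hrz, hrr⟩ := hperp c hc
    have hrw : f₂ r w = 0 := by rw [hwdef, hf.smulR, hrz, mul_zero]
    have hwv : f₂ w v = 0 := by rw [hwdef, hf.smulL, hzv, mul_zero]
    have hwwv : f₂ (w + v) (w + v) = f₂ w w := by
      rw [hf.addL, hf.addR, hf.addR, hf.comm w v, hwv, hvv]; ring
    have hrwv : f₂ r (w + v) = 0 := by rw [hf.addR, hrw, hrv, add_zero]
    obtain ⟨g1, hg1, a1, σ1, hσ1, hr1⟩ := D.exists_beta hNR hx hxk (y := w) (y' := r) ⟨hζ, hrr, (hf.comm r w).trans hrw⟩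
    obtain ⟨g2, hg2, a2, σ2, hσ2, hr2⟩ := D.exists_beta hNR hx hxk (y := r) (y' := w + v)
      ⟨hrr, hwwv ▸ hζ, hrwv⟩
    refine ⟨g1 * g2, (meet M x).mul_mem hg1 hg2, a1 * a2, σ1 * σ2, ?_, ?_⟩
    · rcases hσ1 with rfl | rfl <;> rcases hσ2 with rfl | rfl <;> simp
    have e : beta f₂ w r * beta f₂ r (w + v) = 1 + eN f₂ v (z c) := by
      have e1 : beta f₂ w r * beta f₂ r (w + v) = refl f₂ w * refl f₂ (w + v) := by
        rw [beta, beta, mul_assoc, ← mul_assoc (refl f₂ r), refl_mul_self hf hrr, one_mul]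
      rw [e1]
      refine Matrix.mulVec_injective (funext fun y => ?_)
      rw [← mulVec_mulVec, refl_mulVec hf (w + v), refl_mulVec hf w, hwwv, add_mulVec, one_mulVec, eN_mulVec hf]
      simp only [hf.subL, hf.smulL, hf.addL, hf.addR, hf.comm w v, hwv, zero_add, add_zero]
      simp only [hwdef, hf.smulL, hf.smulR, hq]
      have := hzne c hc
      have := hf.two
      match_scalars <;> field_simp <;> ring
    have h3 := D.rot_mul hr1 hr2
    rwa [smul_mul_smul_comm, e] at h3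
  -- a Sylow subgroup
  let S : Subgroup G :=
    { carrier := {g | g ∈ meet M x ∧ ∃ (a : A1) (σ : F) (c : F × F), (σ = 1 ∨ σ = -1) ∧ Rot f₁ f₂ g a (σ • (1 + eN f₂ v (z c)))}
      one_mem' := ⟨(meet M x).one_mem, 1, 1, 0, Or.inl rfl, by
        simpa [z, eN_zero hf] using D.rot_one⟩
      mul_mem' := by
        rintro g g' ⟨hg, a, σ, c, hσ, hr⟩ ⟨hg', a', σ', c', hσ', hr'⟩
        refine ⟨(meet M x).mul_mem hg hg', a * a', σ * σ', c + c', ?_, ?_⟩
        · rcases hσ with rfl | rfl <;> rcases hσ' with rfl | rfl <;> simp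
        · have h3 := D.rot_mul hr hr'
          rwa [smul_mul_smul_comm, eN_add hf hvv (hzv c) (hzv c'), ← hzadd] at h3
      inv_mem' := by
        rintro g ⟨hg, a, σ, c, hσ, hr⟩
        obtain ⟨a', b', hr', -, hb'⟩ := D.rot_inv ((D.mem_meet hNR hx hxk).1 hg).1 hr
        refine ⟨(meet M x).inv_mem hg, a', σ, -c, hσ, ?_⟩
        have e : σ • (1 + eN f₂ v (z c)) * (σ • (1 + eN f₂ v (z (-c)))) = 1 := by
          rw [smul_mul_smul_comm, eN_add hf hvv (hzv c) (hzv _), ← hzadd, add_neg_cancel,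
            show σ * σ = 1 by rcases hσ with rfl | rfl <;> ring, one_smul]
          simp [z, eN_zero hf]
        have : b' = σ • (1 + eN f₂ v (z (-c))) := by
          calc b' = b' * (σ • (1 + eN f₂ v (z c)) * (σ • (1 + eN f₂ v (z (-c))))) := by rw [e, mul_one]
            _ = σ • (1 + eN f₂ v (z (-c))) := by rw [← mul_assoc, hb', one_mul]
        rwa [this] at hr' }
  -- coefficients are determined
  have hzinj : ∀ {σ : F} {c c' : F × F},
      σ • (1 + eN f₂ v (z c)) = (1 : F) • (1 + eN f₂ v (z c')) → σ = 1 ∧ c = c' := fun {σ c c'} e => by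
    have ev : ∀ c, (1 + eN f₂ v (z c)) *ᵥ v = v := fun c => by
      rw [add_mulVec, one_mulVec, eN_self hf hvv (hzv c), add_zero]
    have h1 := congrArg (· *ᵥ v) e
    simp only [smul_mulVec, ev] at h1
    obtain ⟨d, hd⟩ := Function.ne_iff.1 hv
    have hσ : σ = 1 := mul_right_cancel₀ hd (congrFun h1 d)
    refine ⟨hσ, ?_⟩
    rw [hσ, one_smul, one_smul] at e
    have h2 := congrArg (fun X : A2 => X *ᵥ v') e
    simp only [add_mulVec, one_mulVec, eN_mulVec hf, hb.v'v hf, hf.comm (z c) v', hf.comm (z c') v', hzv'] at h2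
    have h4 := congrArg (fun r => f₂ r (t 0)) h2
    have h5 := congrArg (fun r => f₂ r (t 1)) h2
    simp [-neg_smul, z, hf.addL, hf.negL, hf.subL, hf.smulL, hf.comm (t 0) v, hf.comm (t 1) v, hb.tv, hb.torth, hb.t10 hf, hb.tne]
      at h4 h5
    exact Prod.ext h4 h5
  obtain ⟨P⟩ := (inferInstance : Nonempty (Sylow p S))
  -- elements of the Sylow subgroup
  have hP : ∀ g : (P : Subgroup S), ∃ (a : A1) (c : F × F),
      Rot f₁ f₂ (((g : S) : G)) a (1 + eN f₂ v (z c)) := by
    intro g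
    obtain ⟨hgm, a, σ, c, hσ, hr⟩ := (g : S).2
    obtain ⟨n, hn⟩ := P.2 g
    have hn' : ((g : S) : G) ^ p ^ n = 1 := by
      have := congrArg (fun q : (P : Subgroup S) => ((q : S) : G)) hn
      simpa using this
    have hpow : ∀ m : ℕ, Rot f₁ f₂ (((g : S) : G) ^ m) (a ^ m) (σ ^ m • (1 + eN f₂ v (z (m • c)))) := by
      intro m
      induction m with
      | zero => simpa [z, eN_zero hf] using D.rot_one
      | succ m ih =>
        have h3 := D.rot_mul ih hr
        rwa [← pow_succ, ← pow_succ, smul_mul_smul_comm, eN_add hf hvv (hzv _) (hzv c), ← hzadd,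
          ← succ_nsmul, ← pow_succ] at h3
    have h2 := (D.rot_unique (hpow (p ^ n)) (hn' ▸ D.rot_one)).2
    have h0 : (1 : A2) = (1 : F) • (1 + eN f₂ v (z 0)) := by simp [z, eN_zero hf]
    obtain ⟨hs, -⟩ := hzinj (h2.trans h0)
    have hσ1 : σ = 1 := by
      rcases hσ with rfl | rfl
      · rfl
      · rw [(hodd.pow).neg_one_pow] at hs; exact absurd hs D.neg_one_ne
    rw [hσ1, one_smul] at hr
    exact ⟨a, c, hr⟩
  choose A C hAC using hP
  -- every coefficient occurs
  have hsurj : ∀ c, ∃ g : (P : Subgroup S), C g = c := by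
    intro c
    set N := Nat.card S with hN
    obtain ⟨k, m', hm', hNk⟩ := Nat.exists_eq_pow_mul_and_not_dvd (Nat.card_pos (α := S)).ne' p hp.out.ne_one
    have hm0 : (m' : F) ≠ 0 := by rwa [Ne, CharP.cast_eq_zero_iff F p]
    obtain ⟨g, hg, a, σ, hσ, hr⟩ := hlift ((m' : F)⁻¹ • c)
    set g' : S := ⟨g, hg, a, σ, _, hσ, hr⟩ with hg'
    have hgp : IsPGroup p (Subgroup.zpowers (g' ^ m')) := by
      obtain ⟨l, -, hl⟩ := (Nat.dvd_prime_pow hp.out).1 (show orderOf (g' ^ m') ∣ p ^ k by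
        refine orderOf_dvd_of_pow_eq_one ?_
        rw [← pow_mul, mul_comm, ← hNk]
        exact pow_card_eq_one')
      exact IsPGroup.of_card (n := l) (by rw [Nat.card_zpowers, hl])
    obtain ⟨P', hP'⟩ := hgp.exists_le_sylow
    obtain ⟨q, hq⟩ := MulAction.exists_smul_eq S P' P
    have hmem : q * g' ^ m' * q⁻¹ ∈ (P : Subgroup S) := by
      rw [← hq]
      exact ⟨_, hP' (Subgroup.mem_zpowers _), rfl⟩
    refine ⟨⟨_, hmem⟩, ?_⟩
    obtain ⟨hqm, aq, σq, cq, hσq, hrq⟩ := q.2
    obtain ⟨hqim, aq', σq', cq', hσq', hrq'⟩ := (q⁻¹).2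
    have hpow : ∀ m : ℕ, Rot f₁ f₂ (g ^ m) (a ^ m) (σ ^ m • (1 + eN f₂ v (z (m • ((m' : F)⁻¹ • c))))) := by
      intro m
      induction m with
      | zero => simpa [z, eN_zero hf] using D.rot_one
      | succ m ih =>
        have h3 := D.rot_mul ih hr
        rwa [← pow_succ, ← pow_succ, smul_mul_smul_comm, eN_add hf hvv (hzv _) (hzv _), ← hzadd,
          ← succ_nsmul, ← pow_succ] at h3
    have h4 := D.rot_mul (D.rot_mul hrq (hpow m')) hrq'
    rw [smul_mul_smul_comm, eN_add hf hvv (hzv _) (hzv _), ← hzadd, smul_mul_smul_comm,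
      eN_add hf hvv (hzv _) (hzv _), ← hzadd] at h4
    have h5 := D.rot_mul hrq hrq'
    rw [smul_mul_smul_comm, eN_add hf hvv (hzv _) (hzv _), ← hzadd] at h5
    have h6 : cq + cq' = 0 := by
      have e : (q : G) * ((q⁻¹ : S) : G) = 1 := mul_inv_cancel (q : G)
      have h7 := (D.rot_unique h5 (e ▸ D.rot_one)).2
      exact (hzinj (h7.trans (show (1 : A2) = (1 : F) • (1 + eN f₂ v (z 0)) by simp [z, eN_zero hf]))).2
    have h8 := hAC ⟨_, hmem⟩
    have e : (((⟨_, hmem⟩ : (P : Subgroup S)) : S) : G) = (q : G) * g ^ m' * ((q⁻¹ : S) : G) := rfl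
    rw [e] at h8
    have h9 := (D.rot_unique h8 h4).2
    rw [← one_smul F (1 + eN f₂ v (z (C ⟨_, hmem⟩)))] at h9
    rw [← (hzinj h9.symm).2, add_right_comm, h6, zero_add, ← Nat.cast_smul_eq_nsmul F, smul_smul,
      mul_inv_cancel₀ hm0, one_smul]
  -- a common fixed vector
  letI : MulAction (P : Subgroup S) V1 :=
    { smul := fun g w => A g *ᵥ w
      one_smul := fun w => by
        show A 1 *ᵥ w = w
        rw [(D.rot_unique (hAC 1) D.rot_one).1, one_mulVec]
      mul_smul := fun g g' w => by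
        show A (g * g') *ᵥ w = A g *ᵥ (A g' *ᵥ w)
        have e : (((g * g' : (P : Subgroup S)) : S) : G) = ((g : S) : G) * ((g' : S) : G) := rfl
        rw [(D.rot_unique (hAC (g * g')) (e.symm ▸ D.rot_mul (hAC g) (hAC g'))).1, mulVec_mulVec] }
  have hdvd : p ∣ Nat.card V1 := by
    have := Fintype.ofFinite F
    rw [Nat.card_fun, Nat.card_fin, Nat.card_eq_fintype_card]
    obtain ⟨n, -, hn⟩ := FiniteField.card F p
    rw [hn, ← pow_mul]
    exact dvd_pow_self p (by positivity)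
  obtain ⟨a0, ha0, ha00⟩ := P.2.exists_fixed_point_of_prime_dvd_card_of_fixed_point (α := V1) hdvd
    (a := 0) fun g => mulVec_zero _
  have hfix : ∀ g, A g *ᵥ a0 = a0 := ha0
  have hnil : ∀ g, ∃ N, (A g - 1) ^ N = 0 := fun g => by
    obtain ⟨n, hn⟩ := P.2 g
    have hpow : ∀ m : ℕ, A (g ^ m) = A g ^ m := by
      intro m
      induction m with
      | zero => rw [pow_zero, pow_zero, (D.rot_unique (hAC 1) D.rot_one).1]
      | succ m ih =>
        have e : (((g ^ (m + 1) : (P : Subgroup S)) : S) : G) = ((g ^ m : (P : Subgroup S)) : S) * ((g : S) : G) := by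
          rw [pow_succ]; rfl
        rw [(D.rot_unique (hAC (g ^ (m + 1))) (e.symm ▸ D.rot_mul (hAC (g ^ m)) (hAC g))).1, ih, pow_succ]
    refine ⟨p ^ n, ?_⟩
    have : CharP A1 p := Matrix.charP p
    rw [sub_pow_char_pow_of_commute p n (Commute.one_right _), one_pow, ← hpow, hn,
      (D.rot_unique (hAC 1) D.rot_one).1, sub_self]
  -- an Eichler element in the kernel
  obtain ⟨h0, hh0, c0, hc0, hr0⟩ : ∃ h ∈ meet M x, ∃ c, c ≠ 0 ∧ Rot f₁ f₂ h 1 (1 + eN f₂ v (z c)) := by
    by_cases haa : f₁ a0 a0 = 0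
    swap
    · obtain ⟨g, hg⟩ := hsurj (1, 0)
      refine ⟨_, (g : S).2.1, C g, by rw [hg]; simp, ?_⟩
      have h1 := hAC g
      rw [hg, eq_one_of_fix hf1 (hAC g).isoa haa (hfix g) (hnil g).choose_spec] at h1
      rw [hg]; exact h1
    obtain ⟨e, hee, hea⟩ := hf1.exists_hyperbolic ha00.symm haa
    obtain ⟨r, hr0', hrs⟩ := hf1.exists_perp (⊥ : Submodule F V1) ![a0, e] (by rw [finrank_bot]; omega)
    have hra : f₁ r a0 = 0 := hrs 0
    have hre : f₁ r e = 0 := hrs 1
    have hexp : ∀ w : V1, f₁ r r ≠ 0 ∧ w = f₁ w e • a0 + f₁ w a0 • e + (f₁ w r / f₁ r r) • r := by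
      have hrr : f₁ r r ≠ 0 := fun h => hr0' (by
        rw [Submodule.mem_bot]
        have hli : LinearIndependent F ![a0, e] := by
          rw [Fintype.linearIndependent_iff]
          intro d hd
          simp only [Fin.sum_univ_two, Matrix.cons_val_zero, Matrix.cons_val_one] at hd
          have h1 := congrArg (fun q => f₁ q e) hd
          have h2 := congrArg (fun q => f₁ q a0) hd
          simp [hf1.addL, hf1.smulL, hf1.zeroL, hee, hf1.comm e a0, hea] at h1
          simp [hf1.addL, hf1.smulL, hf1.zeroL, haa, hea] at h2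
          intro i
          fin_cases i <;> assumption
        have hmem : r ∈ Submodule.span F (Set.range ![a0, e]) := by
          by_contra hn
          obtain ⟨q, hq, hqr⟩ := hf1.dual hn
          have hqa : f₁ q a0 = 0 := hq _ (Submodule.subset_span ⟨0, rfl⟩)
          have hqe : f₁ q e = 0 := hq _ (Submodule.subset_span ⟨1, rfl⟩)
          have hli3 : LinearIndependent F ![a0, e, r] := by
            rw [Fintype.linearIndependent_iff]
            intro d hd
            simp only [Fin.sum_univ_three, Matrix.cons_val_zero, Matrix.cons_val_one, Matrix.cons_val_two,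
              Matrix.tail_cons, Matrix.head_cons] at hd
            have h1 := congrArg (fun w => f₁ q w) hd
            simp [hf1.addR, hf1.smulR, hf1.zeroR, hqa, hqe, hqr] at h1
            rw [h1, zero_smul, add_zero] at hd
            have h2 := congrArg (fun w => f₁ w e) hd
            have h3 := congrArg (fun w => f₁ w a0) hd
            simp [hf1.addL, hf1.smulL, hf1.zeroL, hee, hf1.comm e a0, hea] at h2
            simp [hf1.addL, hf1.smulL, hf1.zeroL, haa, hea] at h3
            intro i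
            fin_cases i <;> assumption
          have hsp : Submodule.span F (Set.range ![a0, e, r]) = ⊤ := Submodule.eq_top_of_finrank_eq (by
            rw [finrank_span_eq_card hli3, Fintype.card_fin, Module.finrank_fin_fun])
          refine hr0' ((Submodule.mem_bot F).2 (hf1.eq_zero fun w => ?_))
          have hw : w ∈ Submodule.span F (Set.range ![a0, e, r]) := by rw [hsp]; trivial
          obtain ⟨d, rfl⟩ := (Submodule.mem_span_range_iff_exists_fun F).1 hw
          simp [Fin.sum_univ_three, hf1.addL, hf1.smulL, hf1.comm r a0, hf1.comm r e, hra, hre, h]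
        obtain ⟨d, hd⟩ := (Submodule.mem_span_range_iff_exists_fun F).1 hmem
        simp only [Fin.sum_univ_two, Matrix.cons_val_zero, Matrix.cons_val_one] at hd
        rw [← hd] at hra hre
        simp [hf1.addL, hf1.smulL, haa, hea] at hra
        simp [hf1.addL, hf1.smulL, hee, hf1.comm e a0, hea] at hre
        rw [← hd, hra, hre, zero_smul, zero_smul, add_zero])
      intro w
      refine ⟨hrr, ?_⟩
      set s := w - (f₁ w e • a0 + f₁ w a0 • e + (f₁ w r / f₁ r r) • r) with hs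
      rw [← sub_eq_zero]
      have hsa : f₁ s a0 = 0 := by simp [hs, hf1.subL, hf1.addL, hf1.smulL, haa, hra, hea]
      have hse : f₁ s e = 0 := by
        simp [hs, hf1.subL, hf1.addL, hf1.smulL, hee, hre, hf1.comm e a0, hea]
      have hsr : f₁ s r = 0 := by
        simp [hs, hf1.subL, hf1.addL, hf1.smulL, hf1.comm r a0, hra, hf1.comm r e, hre, div_mul_cancel₀ _ hrr]
      have hli3 : LinearIndependent F ![a0, e, r] := by
        rw [Fintype.linearIndependent_iff]
        intro d hd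
        simp only [Fin.sum_univ_three, Matrix.cons_val_zero, Matrix.cons_val_one, Matrix.cons_val_two,
          Matrix.tail_cons, Matrix.head_cons] at hd
        have h1 := congrArg (fun q => f₁ q e) hd
        have h2 := congrArg (fun q => f₁ q a0) hd
        have h3 := congrArg (fun q => f₁ q r) hd
        simp [hf1.addL, hf1.smulL, hf1.zeroL, hee, hre, hf1.comm e a0, hea] at h1
        simp [hf1.addL, hf1.smulL, hf1.zeroL, haa, hea, hra] at h2
        simp [hf1.addL, hf1.smulL, hf1.zeroL, hf1.comm r a0, hra, hf1.comm r e, hre, hrr] at h3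
        intro i
        fin_cases i <;> assumption
      have hsp : Submodule.span F (Set.range ![a0, e, r]) = ⊤ := Submodule.eq_top_of_finrank_eq (by
        rw [finrank_span_eq_card hli3, Fintype.card_fin, Module.finrank_fin_fun])
      refine hf1.eq_zero fun q => ?_
      have hq : q ∈ Submodule.span F (Set.range ![a0, e, r]) := by rw [hsp]; trivial
      obtain ⟨d, rfl⟩ := (Submodule.mem_span_range_iff_exists_fun F).1 hq
      simp only [Fin.sum_univ_three, Matrix.cons_val_zero, Matrix.cons_val_one, Matrix.cons_val_two,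
        Matrix.tail_cons, Matrix.head_cons, hf1.addL, hf1.smulL]
      rw [hf1.comm s a0, hf1.comm s e, hf1.comm s r, hsa, hse, hsr]
      ring
    have hrr := (hexp 0).1
    -- the action is determined by one number
    have hdet : ∀ g, A g *ᵥ r = f₁ (A g *ᵥ r) e • a0 + r ∧
        A g *ᵥ e = (-(f₁ (A g *ᵥ r) e * f₁ (A g *ᵥ r) e) / (2 * f₁ r r)) • a0 + e +
          (-(f₁ (A g *ᵥ r) e) / f₁ r r) • r := by
      intro g
      have hiso := (hAC g).isoa
      set s := f₁ (A g *ᵥ r) e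
      have h1 : f₁ (A g *ᵥ r) a0 = 0 := by
        conv_lhs => rw [← hfix g]
        rw [hiso, hra]
      set lam := f₁ (A g *ᵥ r) r / f₁ r r with hlam
      have h2 : A g *ᵥ r = s • a0 + lam • r := by
        conv_lhs => rw [(hexp (A g *ᵥ r)).2, h1]
        rw [zero_smul, add_zero]
      have hl1 : lam = 1 := by
        obtain ⟨N, hN⟩ := hnil g
        have h3 : ∀ i : ℕ, ∃ c : F, ((A g - 1) ^ i) *ᵥ r = c • a0 + (lam - 1) ^ i • r := by
          intro i
          induction i with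
          | zero => exact ⟨0, by rw [pow_zero, pow_zero, one_mulVec, zero_smul, one_smul, zero_add]⟩
          | succ i ih =>
            obtain ⟨c, hc⟩ := ih
            refine ⟨(lam - 1) ^ i * s, ?_⟩
            rw [pow_succ', ← mulVec_mulVec, hc, mulVec_add, mulVec_smul, mulVec_smul, sub_mulVec, sub_mulVec,
              one_mulVec, one_mulVec, hfix, h2]
            module
        obtain ⟨c, hc⟩ := h3 N
        rw [hN, zero_mulVec] at hc
        have h4 := congrArg (fun q => f₁ q r) hc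
        simp [hf1.zeroL, hf1.addL, hf1.smulL, hf1.comm r a0, hra, hrr] at h4
        exact sub_eq_zero.1 h4.1
      rw [hl1, one_smul] at h2
      refine ⟨h2, ?_⟩
      have h5 : f₁ (A g *ᵥ e) a0 = 1 := by
        conv_lhs => rw [← hfix g]
        rw [hiso, hea]
      have h6 := (hexp (A g *ᵥ e)).2
      rw [h5, one_smul] at h6
      set q := f₁ (A g *ᵥ e) r / f₁ r r with hq
      set y := f₁ (A g *ᵥ e) e
      have h7 := hiso r e
      rw [h2, h6, hre] at h7
      simp only [hf1.addL, hf1.addR, hf1.smulL, hf1.smulR, haa, hra, hre, hf1.comm e a0, hea,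
        hf1.comm r a0] at h7
      have hq' : q = -s / f₁ r r := by
        rw [eq_div_iff hrr]; linear_combination h7
      have h8 := hiso e e
      rw [h6, hee] at h8
      simp only [hf1.addL, hf1.addR, hf1.smulL, hf1.smulR, haa, hee, hra, hre, hf1.comm e a0, hea,
        hf1.comm r a0, hf1.comm r e] at h8
      rw [h6, hq']
      rw [hq'] at h8
      have hy : y = -(s * s) / (2 * f₁ r r) := by
        field_simp at h8
        rw [eq_div_iff (mul_ne_zero hf1.two hrr)]
        linear_combination h8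
      rw [hy]
    choose sel hsel using hsurj
    obtain ⟨c1, c2, hne, heq⟩ : ∃ c1 c2 : F × F, c1 ≠ c2 ∧
        f₁ (A (sel c1) *ᵥ r) e = f₁ (A (sel c2) *ᵥ r) e := by
      by_contra hno
      push Not at hno
      have hinj : Function.Injective fun c : F × F => f₁ (A (sel c) *ᵥ r) e := fun a b h => by
        by_contra hn; exact hno a b hn h
      have h1 := Nat.card_le_card_of_injective _ hinj
      rw [Nat.card_prod] at h1
      nlinarith [D.q5]
    have hA : A (sel c1) = A (sel c2) := by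
      refine Matrix.mulVec_injective (funext fun w => ?_)
      rw [(hexp w).2, mulVec_add, mulVec_add, mulVec_add, mulVec_add]
      simp only [mulVec_smul, hfix]
      rw [(hdet (sel c1)).1, (hdet (sel c2)).1, (hdet (sel c1)).2, (hdet (sel c2)).2, heq]
    obtain ⟨a', b', hi, ha', hb'⟩ := D.rot_inv ((D.mem_meet hNR hx hxk).1 (sel c1 : S).2.1).1 (hAC (sel c1))
    refine ⟨((sel c1 : S) : G)⁻¹ * ((sel c2 : S) : G),
      (meet M x).mul_mem ((meet M x).inv_mem (sel c1 : S).2.1) (sel c2 : S).2.1, c2 - c1, sub_ne_zero.2 hne.symm, ?_⟩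
    have h1 := D.rot_mul hi (hAC (sel c2))
    rw [← hA, ha', hsel] at h1
    have e1 : 1 + eN f₂ v (z c2) = (1 + eN f₂ v (z c1)) * (1 + eN f₂ v (z (c2 - c1))) := by
      rw [eN_add hf hvv (hzv _) (hzv _), ← hzadd, add_sub_cancel]
    rw [hsel c1] at hb'
    rwa [e1, ← mul_assoc, hb', one_mul] at h1
  -- its image under a reflection product and the swap of the two lines
  set w := z c0 with hwdef
  have hww : f₂ w w ≠ 0 := hzne c0 hc0
  have hwv : f₂ w v = 0 := hzv c0
  have hwv' : f₂ w v' = 0 := hzv' c0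
  obtain ⟨r, hrv, hrv', hrw, hrr⟩ := hperp c0 hc0
  replace hrw : f₂ r w = 0 := hrw
  set α := -(2 / f₂ w w) with hα
  have hα0 : α ≠ 0 := neg_ne_zero.2 (div_ne_zero hf.two hww)
  have hvα : f₂ (v - α • v') (v - α • v') = -(2 * α) := by
    simp only [hf.subL, hf.subR, hf.smulL, hf.smulR, hvv, hb.v'v', hb.vv', hb.v'v hf]; ring
  have hp0 : Pair f₂ (v - α • v') w := ⟨hvα ▸ neg_ne_zero.2 (mul_ne_zero hf.two hα0), hww, by
    rw [hf.comm, hf.subR, hf.smulR, hwv, hwv', mul_zero, sub_zero]⟩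
  obtain ⟨g, hg, a, σ, hσ, hrg⟩ := D.exists_beta hNR hx hxk hp0
  have hgM := ((D.mem_meet hNR hx hxk).1 hg).1
  obtain ⟨a', b', hgi, ha', hb'⟩ := D.rot_inv hgM hrg
  set β := beta f₂ (v - α • v') w
  have hb'' : b' = σ • β := by
    have e : σ • β * (σ • β) = 1 := by
      rw [smul_mul_smul_comm, beta_mul_self hf hp0, show σ * σ = 1 by rcases hσ with rfl | rfl <;> ring, one_smul]
    calc b' = b' * (σ • β * (σ • β)) := by rw [e, mul_one]
      _ = σ • β := by rw [← mul_assoc, hb', one_mul]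
  set w' := (-α) • w with hw'
  have hw'v' : f₂ w' v' = 0 := by rw [hw', hf.smulL, hwv', mul_zero]
  have hr1 : Rot f₁ f₂ (g * h0 * g⁻¹) 1 (1 + eN f₂ v' w') := by
    have h1 := D.rot_mul (D.rot_mul hrg hr0) hgi
    rw [mul_one, mul_eq_one_comm.1 ha', hb'', smul_mul_assoc, smul_mul_smul_comm,
      show σ * σ = 1 by rcases hσ with rfl | rfl <;> ring, one_smul] at h1
    have e : β * (1 + eN f₂ v w) * β = 1 + eN f₂ v' w' := by
      refine Matrix.mulVec_injective (funext fun y => ?_)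
      have hβv : β *ᵥ v = α • v' := by
        rw [beta_mulVec hf hp0, show f₂ v (v - α • v') = -α by
          simp only [hf.subR, hf.smulR, hvv, hb.vv']; ring, hvα, hf.comm w v, hwv]
        have := hf.two
        match_scalars <;> field_simp <;> ring
      have hβw : β *ᵥ w = -w := beta_self' hf hp0
      have hsym : ∀ q, f₂ (β *ᵥ y) q = f₂ y (β *ᵥ q) := fun q => by
        rw [← beta_iso hf hp0 (β *ᵥ y) q, mulVec_mulVec y β β, beta_mul_self hf hp0, one_mulVec]
      rw [← mulVec_mulVec, ← mulVec_mulVec, add_mulVec, one_mulVec, eN_mulVec hf, mulVec_add, mulVec_mulVec y β β,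
        beta_mul_self hf hp0, one_mulVec, mulVec_sub, mulVec_sub, mulVec_smul, mulVec_smul, mulVec_smul,
        hsym, hsym, hβv, hβw, add_mulVec, one_mulVec, eN_mulVec hf]
      simp only [hw', hf.smulL, hf.smulR, hf.negR]
      module
    rwa [e] at h1
  have hh1 : g * h0 * g⁻¹ ∈ meet M x :=
    (meet M x).mul_mem ((meet M x).mul_mem hg hh0) ((meet M x).inv_mem hg)
  set nn := h0 * (g * h0 * g⁻¹) * h0
  set B := (1 + eN f₂ v w) * (1 + eN f₂ v' w') * (1 + eN f₂ v w) with hB
  have hnn : nn ∈ meet M x := (meet M x).mul_mem ((meet M x).mul_mem hh0 hh1) hh0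
  have hrn : Rot f₁ f₂ nn 1 B := by
    have h1 := D.rot_mul (D.rot_mul hr0 hr1) hr0
    rwa [one_mul, one_mul] at h1
  have happ : ∀ q, B *ᵥ q = (1 + eN f₂ v w) *ᵥ ((1 + eN f₂ v' w') *ᵥ ((1 + eN f₂ v w) *ᵥ q)) := fun q => by
    rw [hB, ← mulVec_mulVec, ← mulVec_mulVec]
  have hBv : B *ᵥ v = α • v' := by
    rw [happ]
    simp only [hw', add_mulVec, one_mulVec, eN_mulVec hf, hf.addL, hf.subL, hf.smulL, hf.smulR, hvv, hb.v'v',
      hb.vv', hb.v'v hf, hwv, hwv', hf.comm w v, hf.comm w v', hα, hf.negR]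
    have := hf.two
    match_scalars <;> field_simp <;> ring
  have hBv' : B *ᵥ v' = α⁻¹ • v := by
    rw [happ]
    simp only [hw', add_mulVec, one_mulVec, eN_mulVec hf, hf.addL, hf.subL, hf.smulL, hf.smulR, hvv, hb.v'v',
      hb.vv', hb.v'v hf, hwv, hwv', hf.comm w v, hf.comm w v', hα, hf.negR]
    have := hf.two
    match_scalars <;> field_simp <;> ring
  have hBw : B *ᵥ w = -w := by
    rw [happ]
    simp only [hw', add_mulVec, one_mulVec, eN_mulVec hf, hf.addL, hf.subL, hf.smulL, hf.smulR, hvv, hb.v'v',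
      hb.vv', hb.v'v hf, hwv, hwv', hf.comm w v, hf.comm w v', hα, hf.negR]
    have := hf.two
    match_scalars <;> field_simp <;> ring
  have hBr : B *ᵥ r = r := by
    rw [happ]
    simp only [hw', add_mulVec, one_mulVec, eN_mulVec hf, hf.addL, hf.subL, hf.smulL, hf.smulR, hf.negR, hrv,
      hrv', hrw]
    module
  have hsq : nn * nn = 1 := by
    have h1 := D.rot_mul hrn hrn
    refine Units.ext ?_
    rw [h1.eq, Units.val_one, mul_one]
    have hBB : B * B = 1 := by
      have hp' : Pair f₂ (v - α • v') (v + α • v') := ⟨hp0.ne, by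
        simp only [hf.addL, hf.addR, hf.smulL, hf.smulR, hvv, hb.v'v', hb.vv', hb.v'v hf]
        rw [show (0 : F) + α * 1 + (α * 1 + α * (α * 0)) = 2 * α by ring]
        exact mul_ne_zero hf.two hα0, by
        simp only [hf.subL, hf.addR, hf.smulL, hf.smulR, hvv, hb.v'v', hb.vv', hb.v'v hf]; ring⟩
      set e : Fin 4 → V2 := ![v - α • v', v + α • v', w, r]
      have he : Frame f₂ e := by
        constructor
        · intro i j hij
          fin_cases i <;> fin_cases j <;>
            first | exact absurd rfl hij | exact hp'.orth | exact (hf.comm _ _).trans hp'.orth |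
              exact hrw | exact (hf.comm _ _).trans hrw |
              simp [e, hf.subL, hf.subR, hf.addL, hf.addR, hf.smulL, hf.smulR, hwv, hwv', hrv, hrv', hf.comm w v,
                hf.comm w v', hf.comm r v, hf.comm r v']
        · intro i
          fin_cases i <;> [exact hp'.ne; exact hp'.ne'; exact hww; exact hrr]
      refine he.mat_ext hf fun i => ?_
      rw [← mulVec_mulVec, one_mulVec]
      fin_cases i <;>
        simp [e, mulVec_sub, mulVec_add, mulVec_smul, mulVec_neg, hBv, hBv', hBw, hBr, smul_smul, hα0]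
    rw [hBB, one_kronecker_one]
  have hone := D.no_invol hNR hx hxk hnn hrn hsq
  have h2 := (D.rot_unique hrn (hone ▸ D.rot_one)).2
  have h3 := congrArg (fun q => f₂ q v) (show B *ᵥ w = w by rw [h2, one_mulVec])
  have h4 := congrArg (fun q => f₂ q w) (show B *ᵥ w = w by rw [h2, one_mulVec])
  simp only [hBw, hf.negL] at h4
  exact hww ((mul_eq_zero.1 (show (2 : F) * f₂ w w = 0 by linear_combination -h4)).resolve_left hf.two)

end Data

/-- Such an overgroup is the stabiliser or contains `Ω`. -/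
theorem Data.dichotomy (D : Data f₁ f₂ Q M) :
    M ≤ Cfsg.Geo.kroneckerSubgroup 3 4 F ∨ Cfsg.Geo.omegaGL Q ≤ M := by
  rcases D.nr_or_le with h | h
  · exact Or.inl fun x hx => by
      by_contra hxk
      exact D.absurd_of_not_kron h hx hxk
  · exact Or.inr h

end Cfsg.Agent.Lib.OmegaTwelve.ThreeFour
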