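import Cfsg.Agent.Lib.OmegaTwelve.ThreeFour.Radical

/-!
An element carrying the block of an isotropic vector to a block lies in the stabiliser, when the group meets no
radical outside it.
-/

set_option autoImplicit false
set_option linter.unusedSectionVars false

namespace Cfsg.Agent.Lib.OmegaTwelve.ThreeFour

open Matrix Kronecker Module
open Cfsg.Agent.Lib.Subspaces.Transvection Cfsg.Agent.Lib.Subspaces.FormVec
  Cfsg.Agent.Lib.TensorMax.Lemmas
  Cfsg.Agent.Lib.TensorFormMax.Basic Cfsg.Agent.Lib.TensorOrthMax.Side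
open Cfsg.Agent.Lib.TensorMax.Block (blk)
open Cfsg.Agent.Lib.TensorOrthMax.Setup (eN eN_self eN_mulVec slice_one_kron Tn mem_Tn_line)

variable {F : Type*} [Field F]

local notation "Vec" => Fin 3 × Fin 4 → F
local notation "V1" => Fin 3 → F
local notation "V2" => Fin 4 → F
local notation "Big" => Matrix (Fin 3 × Fin 4) (Fin 3 × Fin 4) F
local notation "A1" => Matrix (Fin 3) (Fin 3) F
local notation "A2" => Matrix (Fin 4) (Fin 4) F
local notation "G" => GL (Fin 3 × Fin 4) F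

theorem ctr_kron_one (a : A1) (s : F) (φ : V2) (z : Vec) :
    ctr φ ((a ⊗ₖ (s • (1 : A2))) *ᵥ z) = s • (a *ᵥ ctr φ z) := by
  conv_lhs => rw [← sum_tens_slice z, mulVec_sum]
  conv_rhs => rw [← sum_tens_slice z]
  let L : Vec →+ V1 := AddMonoidHom.mk' (ctr φ) (ctr_add φ)
  show L _ = s • (a *ᵥ L _)
  rw [map_sum, map_sum, mulVec_sum, Finset.smul_sum]
  refine Finset.sum_congr rfl fun i _ => ?_
  show ctr φ _ = s • (a *ᵥ ctr φ _)
  rw [kron_apply, ctr_tens, ctr_tens, smul_mulVec, one_mulVec, dotProduct_smul, smul_eq_mul, mulVec_smul,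
    smul_smul]

variable [Finite F] {f₁ : (Fin 3 → F) → (Fin 3 → F) → F} {f₂ : (Fin 4 → F) → (Fin 4 → F) → F}
  {Q : (Fin 3 × Fin 4 → F) → F} {M : Subgroup (GL (Fin 3 × Fin 4) F)}

namespace Data

variable (D : Data f₁ f₂ Q M)
include D

/-- An element fixing a block pointwise in the stabiliser acts on the second factor only. -/
theorem rot_fix {w : G} (hw : w ∈ M) (hk : w ∈ Cfsg.Geo.kroneckerSubgroup 3 4 F) {v : V2} (hv : v ≠ 0)
    (hfix : ∀ u, (w : Big) *ᵥ tens u v = tens u v) : ∃ b : A2, Rot f₁ f₂ w 1 b := by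
  obtain ⟨a, b, h⟩ := D.exists_rot_of_mem hw hk
  obtain ⟨η, hη⟩ := exists_dot_eq_one hv
  set μ := η ⬝ᵥ (b *ᵥ v) with hμ
  have hsc : ∀ u, μ • (a *ᵥ u) = u := fun u => by
    have h1 := congrArg (ctr η) (hfix u)
    rwa [h.eq, kron_apply, ctr_tens, ctr_tens, hη, one_smul] at h1
  have hμ0 : μ ≠ 0 := fun e => by
    obtain ⟨u0, hu0⟩ := D.exists_pair1
    have := hsc u0
    rw [e, zero_smul] at this
    exact hu0 (by rw [← this, D.s1.zeroL])
  have ha : a = μ⁻¹ • 1 := Matrix.mulVec_injective (funext fun u => by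
    rw [smul_mulVec, one_mulVec, eq_inv_smul_iff₀ hμ0]; exact hsc u)
  obtain ⟨u0, hu0⟩ := D.exists_pair1
  have h1 := h.isoa u0 u0
  rw [ha, smul_mulVec, one_mulVec, D.s1.smulL, D.s1.smulR, ← mul_assoc] at h1
  have hsq : μ⁻¹ * μ⁻¹ = 1 := mul_right_cancel₀ hu0 (by rw [h1, one_mul])
  have hd := h.deta
  rw [ha, det_smul, det_one, Fintype.card_fin, mul_one] at hd
  have hμ1 : μ⁻¹ = 1 := by linear_combination hd - μ⁻¹ * hsq
  rw [hμ1, one_smul] at ha
  exact ⟨b, ha ▸ h⟩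

variable {x : GL (Fin 3 × Fin 4) F} (hx : x ∈ M) {C : Matrix (Fin 3) (Fin 3) F} {v v' : Fin 4 → F}
  (hP : ∀ a, (x : Matrix (Fin 3 × Fin 4) (Fin 3 × Fin 4) F) *ᵥ tens a v = tens (C *ᵥ a) v') (hv : v ≠ 0) (hvv : f₂ v v = 0)
include hx hP hv hvv

theorem pure_inj : Function.Injective (C *ᵥ ·) := fun a b e =>
  tens_injective hv (gl_mulVec_injective x (show (x : Big) *ᵥ tens a v = (x : Big) *ᵥ tens b v by
    rw [hP, hP, show C *ᵥ a = C *ᵥ b from e]))

theorem pure_surj : Function.Surjective (C *ᵥ ·) :=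
  (LinearMap.injective_iff_surjective (f := C.mulVecLin)).1 (D.pure_inj hx hP hv hvv)

theorem pure_ne : v' ≠ 0 := fun e => by
  obtain ⟨u0, hu0⟩ := D.exists_pair1
  have h1 := hP u0
  rw [e, tens_zero_right, ← mulVec_zero (x : Big)] at h1
  have h2 := gl_mulVec_injective x h1
  rw [← tens_zero_left v] at h2
  exact hu0 (by rw [tens_injective hv h2, D.s1.zeroL])

theorem pure_iso : f₂ v' v' = 0 := by
  obtain ⟨u0, hu0⟩ := D.exists_pair1
  obtain ⟨a, rfl⟩ := D.pure_surj hx hP hv hvv u0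
  have e := D.isoB hx (tens a v) (tens a v)
  rw [hP, D.tensB, D.tensB, hvv, mul_zero] at e
  exact (mul_eq_zero.1 e).resolve_left hu0

theorem pure_perp (y : Vec) :
    ctr (formVec f₂ v) y = 0 ↔ ctr (formVec f₂ v') ((x : Big) *ᵥ y) = 0 := by
  have e : ∀ u, f₁ (ctr (formVec f₂ v') ((x : Big) *ᵥ y)) (C *ᵥ u) = f₁ (ctr (formVec f₂ v) y) u := fun u => by
    rw [← D.B_left, ← D.B_left, ← hP, D.isoB hx]
  refine ⟨fun h0 => D.s1.sf.eq_of_left fun u => ?_, fun h0 => D.s1.sf.eq_of_left fun u => ?_⟩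
  · obtain ⟨u, rfl⟩ := D.pure_surj hx hP hv hvv u
    show f₁ _ (C *ᵥ u) = f₁ _ (C *ᵥ u)
    rw [e, h0, D.s1.zeroL, D.s1.zeroL]
  · rw [← e, h0, D.s1.zeroL, D.s1.zeroL]

variable (hNR : NR f₂ M)
include hNR

theorem pure_psi {z : V2} (hzv : f₂ z v = 0) :
    ∃ ψ : V2, ∀ y, ctr (formVec f₂ v) y = 0 →
      C *ᵥ ctr (formVec f₂ z) y = ctr ψ ((x : Big) *ᵥ y) := by
  obtain ⟨v₀, t, hb⟩ := exists_hb D.s2 D.minus hv hvv
  obtain ⟨R, hRM, -, hR⟩ := D.exists_R hb hzv
  set w : G := x * R * x⁻¹ with hwdef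
  have hwM : w ∈ M := M.mul_mem (M.mul_mem hx hRM) (M.inv_mem hx)
  have hwx : ∀ y, (w : Big) *ᵥ ((x : Big) *ᵥ y) = (x : Big) *ᵥ ((R : Big) *ᵥ y) := fun y => by
    rw [hwdef, gl_mul_mulVec, gl_inv_mulVec, gl_mul_mulVec]
  have hfix : ∀ u, (w : Big) *ᵥ tens u v' = tens u v' := fun u => by
    obtain ⟨u, rfl⟩ := D.pure_surj hx hP hv hvv u
    show (w : Big) *ᵥ tens (C *ᵥ u) v' = tens (C *ᵥ u) v'
    rw [← hP, hwx, hR, kron_apply, one_mulVec, add_mulVec, one_mulVec, eN_self D.s2 hvv hzv, add_zero]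
  have hperp : ∀ y, ctr (formVec f₂ v) y = 0 →
      (w : Big) *ᵥ ((x : Big) *ᵥ y) = (x : Big) *ᵥ y + tens (C *ᵥ ctr (formVec f₂ z) y) v' := fun y hy => by
    rw [hwx, ← hP, ← mulVec_add]
    congr 1
    rw [hR, kronecker_add, one_kronecker_one, add_mulVec, one_mulVec]
    congr 1
    funext ⟨i, d⟩
    have h1 := congrFun (slice_one_kron (eN f₂ v z) y i) d
    have h0 : f₂ (slice y i) v = 0 := by
      have := congrFun hy i
      rwa [ctr_eq_dot, D.s2.dot] at this
    rw [eN_mulVec D.s2, h0] at h1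
    simpa [slice, tens, ctr_eq_dot, D.s2.dot] using h1
  have hv' := D.pure_ne hx hP hv hvv
  have hk := hNR v' hv' (D.pure_iso hx hP hv hvv) w ⟨hwM, hfix, fun t ht => by
    obtain ⟨y, rfl⟩ : ∃ y, (x : Big) *ᵥ y = t := ⟨_, gl_mulVec_inv x t⟩
    exact ⟨_, hperp y ((D.pure_perp hx hP hv hvv y).2 ht)⟩⟩
  obtain ⟨b, hwb⟩ := D.rot_fix hwM hk hv' hfix
  obtain ⟨η, hη⟩ := exists_dot_eq_one hv'
  refine ⟨η ᵥ* (b - 1), fun y hy => ?_⟩
  have h1 := congrArg (ctr η) (hperp y hy)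
  rw [ctr_add, ctr_tens, hη, one_smul] at h1
  rw [← sub_eq_of_eq_add' h1, ← ctr_sub, hwb.eq]
  have e : ((1 : A1) ⊗ₖ b) *ᵥ ((x : Big) *ᵥ y) - (x : Big) *ᵥ y = ((1 : A1) ⊗ₖ (b - 1)) *ᵥ ((x : Big) *ᵥ y) := by
    rw [show (1 : A1) ⊗ₖ (b - 1) = (1 : A1) ⊗ₖ b - 1 by
      rw [eq_sub_iff_add_eq, ← one_kronecker_one (α := F) (m := Fin 3) (n := Fin 4), ← kronecker_add,
        sub_add_cancel], sub_mulVec, one_mulVec]
  rw [e]
  funext i
  rw [ctr_eq_dot, ctr_eq_dot, slice_one_kron, dotProduct_mulVec]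

/-- Blocks orthogonal to the block of `v` are moved by the same map modulo the image block. -/
theorem pure_step {t : V2} (htv : f₂ t v = 0) :
    ∃ (t' : V2) (E : V1 → V1), f₂ t' v' = 0 ∧
      ∀ u, (x : Big) *ᵥ tens u t = tens (C *ᵥ u) t' + tens (E u) v' := by
  obtain ⟨u0, hu0⟩ := D.pure_surj hx hP hv hvv (Pi.single 0 1)
  replace hu0 : C *ᵥ u0 = Pi.single 0 1 := hu0
  set t' : V2 := slice ((x : Big) *ᵥ tens u0 t) 0 with ht'def
  have hD0 : ∀ u, ctr (formVec f₂ v) (tens u t) = 0 := fun u => by rw [D.ctr_ft, htv, zero_smul]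
  have hsl : ∀ u i, f₂ (slice ((x : Big) *ᵥ tens u t) i) v' = 0 := fun u i => by
    have := congrFun ((D.pure_perp hx hP hv hvv _).1 (hD0 u)) i
    rwa [ctr_eq_dot, D.s2.dot] at this
  have hkill : ∀ w, f₂ w v' = 0 → (∀ z, f₂ z v = 0 → ∀ ψ : V2, (∀ y, ctr (formVec f₂ v) y = 0 →
      C *ᵥ ctr (formVec f₂ z) y = ctr ψ ((x : Big) *ᵥ y)) → ψ ⬝ᵥ w = 0) → w ∈ Submodule.span F {v'} := by
    intro w hw hk
    set y := ((x⁻¹ : G) : Big) *ᵥ tens (Pi.single 0 1 : V1) w with hydef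
    have hxy : (x : Big) *ᵥ y = tens (Pi.single 0 1) w := gl_mulVec_inv x _
    have hy0 : ctr (formVec f₂ v) y = 0 := by
      rw [D.pure_perp hx hP hv hvv, hxy, D.ctr_ft, hw, zero_smul]
    have hs : y ∈ Tn 3 (Submodule.span F {v}) := fun i => by
      by_contra hn
      obtain ⟨z, hz, hzy⟩ := D.s2.dual hn
      obtain ⟨ψ, hψ⟩ := D.pure_psi hx hP hv hvv hNR (hz v (Submodule.mem_span_singleton_self v))
      have e := hψ y hy0
      rw [hxy, ctr_tens, hk z (hz v (Submodule.mem_span_singleton_self v)) ψ hψ, zero_smul,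
        ← mulVec_zero C] at e
      have := congrFun (D.pure_inj hx hP hv hvv e) i
      rw [ctr_eq_dot, D.s2.dot, D.s2.comm, hzy] at this
      exact one_ne_zero this
    obtain ⟨α, hα⟩ := mem_Tn_line hs
    rw [hα, hP] at hxy
    refine Submodule.mem_span_singleton.2 ⟨(C *ᵥ α) 0, funext fun d => ?_⟩
    have := congrFun hxy (0, d)
    simpa [tens] using this
  have hstep : ∀ u i, slice ((x : Big) *ᵥ tens u t) i - (C *ᵥ u) i • t' ∈ Submodule.span F {v'} := by
    intro u i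
    refine hkill _ ?_ fun z hzv ψ hψ => ?_
    · rw [D.s2.subL, D.s2.smulL, hsl, ht'def, hsl, mul_zero, sub_zero]
    · have e : ∀ u i, ψ ⬝ᵥ slice ((x : Big) *ᵥ tens u t) i = f₂ t z * (C *ᵥ u) i := fun u i => by
        have := congrFun (hψ _ (hD0 u)) i
        rw [D.ctr_ft, mulVec_smul] at this
        exact this.symm
      rw [dotProduct_sub, dotProduct_smul, ht'def, e, e, hu0, Pi.single_eq_same, mul_one, smul_eq_mul, mul_comm,
        sub_self]
  choose E hE using fun u i => Submodule.mem_span_singleton.1 (hstep u i)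
  refine ⟨t', E, hsl u0 0, fun u => ?_⟩
  ext ⟨i, d⟩
  have e : E u i * v' d = ((x : Big) *ᵥ tens u t) (i, d) - (C *ᵥ u) i * t' d := congrFun (hE u i) d
  simp only [Pi.add_apply, tens]
  linear_combination -e

/-- The element lies in the stabiliser. -/
theorem pure_kron : x ∈ Cfsg.Geo.kroneckerSubgroup 3 4 F := by
  have hf := D.s1
  obtain ⟨v₀, t, hb⟩ := exists_hb D.s2 D.minus hv hvv
  have hv' := D.pure_ne hx hP hv hvv
  have hv'v' := D.pure_iso hx hP hv hvv
  choose t' E ht'v hxt using fun l => D.pure_step hx hP hv hvv hNR (hb.tv l)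
  set ν := f₂ (t 0) (t 0) / f₂ (t' 0) (t' 0) with hν
  have hkey : ∀ a c, f₁ (C *ᵥ a) (C *ᵥ c) * f₂ (t' 0) (t' 0) = f₁ a c * f₂ (t 0) (t 0) := fun a c => by
    have e := D.isoB hx (tens a (t 0)) (tens c (t 0))
    rw [hxt, hxt, D.tensB] at e
    simp only [D.B_add_left, D.B_add_right, D.tensB, ht'v, hv'v', D.s2.comm (t' 0) v', mul_zero, add_zero] at e
    exact e
  have ht'0 : f₂ (t' 0) (t' 0) ≠ 0 := fun e => by
    obtain ⟨u0, hu0⟩ := D.exists_pair1
    have := hkey u0 u0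
    rw [e, mul_zero, eq_comm, mul_eq_zero] at this
    exact this.elim hu0 (hb.tne 0)
  have hsim : ∀ a c, f₁ (C *ᵥ a) (C *ᵥ c) = ν * f₁ a c := fun a c => by
    rw [hν, div_mul_eq_mul_div, eq_div_iff ht'0]
    linear_combination hkey a c
  have hν0 : ν ≠ 0 := div_ne_zero (hb.tne 0) ht'0
  have hhu : ∀ u, f₁ u u ≠ 0 → ∀ a, hu f₁ (C *ᵥ u) *ᵥ (C *ᵥ a) = C *ᵥ (hu f₁ u *ᵥ a) := fun u hu0 a => by
    rw [hu_mulVec hf hu0, hu_mulVec hf (by rw [hsim]; exact mul_ne_zero hν0 hu0), hsim, hsim, mulVec_sub,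
      mulVec_smul]
    congr 2
    field_simp
  -- the half-turns correspond
  have hline : ∀ u, f₁ u u ≠ 0 → ∀ w, ∃ n, (x : Big) *ᵥ tens u w = tens (C *ᵥ u) n := by
    intro u hu0 w0
    have hCu : f₁ (C *ᵥ u) (C *ᵥ u) ≠ 0 := by rw [hsim]; exact mul_ne_zero hν0 hu0
    obtain ⟨j, hj, s, hJ⟩ := D.exists_J hu0
    obtain ⟨j', hj', s', hJ'⟩ := D.exists_J hCu
    have hja : ∀ a y, (j : Big) *ᵥ tens a y = s • tens (hu f₁ u *ᵥ a) y := fun a y => by
      rw [hJ.2.2, kron_apply, smul_mulVec, one_mulVec, tens_smul_right]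
    have hja' : ∀ a y, (j' : Big) *ᵥ tens a y = s' • tens (hu f₁ (C *ᵥ u) *ᵥ a) y := fun a y => by
      rw [hJ'.2.2, kron_apply, smul_mulVec, one_mulVec, tens_smul_right]
    set σ := s * s' with hσdef
    have hσ : σ = 1 ∨ σ = -1 := by
      rcases hJ.2.1 with rfl | rfl <;> rcases hJ'.2.1 with rfl | rfl <;> simp [hσdef]
    set w : G := x * j * x⁻¹ * j' with hwdef
    have hwM : w ∈ M := M.mul_mem (M.mul_mem (M.mul_mem hx hj) (M.inv_mem hx)) hj'
    have hxinv : ∀ a, ((x⁻¹ : G) : Big) *ᵥ tens (C *ᵥ a) v' = tens a v := fun a => by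
      rw [← hP, gl_inv_mulVec]
    have huu : ∀ a, hu f₁ u *ᵥ (hu f₁ u *ᵥ a) = a := fun a => by
      rw [mulVec_mulVec, hu_mul_self hf hu0, one_mulVec]
    have hwP : ∀ a, (w : Big) *ᵥ tens a v' = σ • tens a v' := fun a => by
      obtain ⟨a, rfl⟩ := D.pure_surj hx hP hv hvv a
      show (w : Big) *ᵥ tens (C *ᵥ a) v' = σ • tens (C *ᵥ a) v'
      rw [hwdef, gl_mul_mulVec, gl_mul_mulVec, gl_mul_mulVec, hja', hhu u hu0, mulVec_smul, hxinv, mulVec_smul,
        hja, huu, mulVec_smul, mulVec_smul, hP, smul_smul, mul_comm]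
    have hwperp : ∀ y, ctr (formVec f₂ v') y = 0 → ∃ a, (w : Big) *ᵥ y = σ • y + tens a v' := by
      intro y hy
      obtain ⟨y, rfl⟩ : ∃ y0, (x : Big) *ᵥ y0 = y := ⟨_, gl_mulVec_inv x y⟩
      have hy0 := (D.pure_perp hx hP hv hvv y).2 hy
      have hpure : ∀ l c, ∃ a, (w : Big) *ᵥ ((x : Big) *ᵥ tens c (t l)) =
          σ • ((x : Big) *ᵥ tens c (t l)) + tens a v' := fun l c => by
        obtain ⟨a1, ha1⟩ : ∃ a1, (j' : Big) *ᵥ ((x : Big) *ᵥ tens c (t l)) =
            s' • ((x : Big) *ᵥ tens (hu f₁ u *ᵥ c) (t l)) + tens a1 v' := by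
          refine ⟨s' • (hu f₁ (C *ᵥ u) *ᵥ E l c) - s' • E l (hu f₁ u *ᵥ c), ?_⟩
          rw [hxt, hxt, mulVec_add, hja', hja', hhu u hu0, tens_sub_left, tens_smul_left, tens_smul_left]
          module
        obtain ⟨a1', rfl⟩ := D.pure_surj hx hP hv hvv a1
        refine ⟨C *ᵥ (s • (hu f₁ u *ᵥ a1')), ?_⟩
        rw [hwdef, gl_mul_mulVec, gl_mul_mulVec, gl_mul_mulVec, ha1]
        show (x : Big) *ᵥ ((j : Big) *ᵥ (((x⁻¹ : G) : Big) *ᵥ (_ + tens (C *ᵥ a1') v'))) = _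
        rw [mulVec_add, mulVec_smul, gl_inv_mulVec, hxinv, mulVec_add, mulVec_smul, hja, hja, huu, mulVec_add,
          mulVec_smul, mulVec_smul, mulVec_smul, hP, smul_smul, mulVec_smul, tens_smul_left, mul_comm s' s]
      rw [D.expand hb y, hy0, tens_zero_left, add_zero, mulVec_add, mulVec_add, hP]
      obtain ⟨a0, ha0⟩ := hpure 0 ((f₂ (t 0) (t 0))⁻¹ • ctr (formVec f₂ (t 0)) y)
      obtain ⟨a1, ha1⟩ := hpure 1 ((f₂ (t 1) (t 1))⁻¹ • ctr (formVec f₂ (t 1)) y)
      refine ⟨a0 + a1, ?_⟩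
      rw [mulVec_add, mulVec_add, hwP, ha0, ha1, tens_add_left]
      module
    -- `σ • w` is unipotent
    have hσσ : σ * σ = 1 := by rcases hσ with h | h <;> rw [h] <;> ring
    set W : Big := σ • (w : Big) - 1 with hW
    have h3 : W ^ 3 = 0 := by
      refine Matrix.mulVec_injective (funext fun y => ?_)
      rw [pow_succ, pow_two, ← mulVec_mulVec, ← mulVec_mulVec, zero_mulVec]
      have h1 : ctr (formVec f₂ v') (W *ᵥ y) = 0 := by
        refine D.s1.sf.eq_of_left fun a => ?_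
        rw [D.s1.zeroL, ← D.B_left, hW, sub_mulVec, one_mulVec, smul_mulVec, form_sub_left
          (Cfsg.Agent.Lib.Subspaces.OrthForm.bil D.form), D.form.polar_bilinear.smul_left, sub_eq_zero]
        have h2 : tens a v' = (w : Big) *ᵥ (σ • tens a v') := by rw [mulVec_smul, hwP, smul_smul, hσσ, one_smul]
        conv_lhs => rw [h2, D.isoB hwM, D.form.polar_bilinear.smul_right, ← mul_assoc, hσσ, one_mul]
      obtain ⟨a, ha⟩ := hwperp _ h1
      have h2 : W *ᵥ (W *ᵥ y) = σ • tens a v' := by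
        generalize W *ᵥ y = z at ha
        rw [hW, sub_mulVec, one_mulVec, smul_mulVec, ha, smul_add, smul_smul, hσσ, one_smul,
          add_sub_cancel_left]
      rw [h2, hW, sub_mulVec, one_mulVec, smul_mulVec, mulVec_smul, hwP, smul_smul, smul_smul,
        show σ * σ * σ = σ by rw [hσσ, one_mul], sub_self]
    obtain ⟨p, hp, hch, hp3, hodd⟩ := D.exists_char
    have hjj' := D.J_mul_self hJ'
    rcases hσ with h1 | h1
    · -- equal signs
      rw [hW, h1, one_smul] at h3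
      have hwfix : ∀ a, (w : Big) *ᵥ tens a v' = tens a v' := fun a => by rw [hwP, h1, one_smul]
      have hk := hNR v' hv' hv'v' w ⟨hwM, hwfix, fun y hy => by
        obtain ⟨a, ha⟩ := hwperp y hy
        exact ⟨a, by rw [ha, h1, one_smul]⟩⟩
      obtain ⟨b, hb'⟩ := D.rot_fix hwM hk hv' hwfix
      have hcomm := D.J_comm_rot hJ' hb'.eq
      have hww : w * w = 1 := by
        have hA : x * j * x⁻¹ * (x * j * x⁻¹) = 1 := by
          rw [conj_mul, D.J_mul_self hJ, mul_one, mul_inv_cancel]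
        set A := x * j * x⁻¹
        have hc : j' * (A * j') = A * j' * j' := hcomm.eq
        rw [mul_assoc A j' j', hjj', mul_one] at hc
        show A * j' * (A * j') = 1
        rw [mul_assoc, hc, hA]
      have hwp := D.pow_char_eq_one hp3 h3
      have hw1 : w = 1 := by
        obtain ⟨m, hm⟩ := hodd
        rwa [hm, pow_succ, pow_mul, pow_two, hww, one_pow, one_mul] at hwp
      have hcom : x * j = j' * x := by
        rw [hwdef, mul_eq_one_iff_eq_inv, show j'⁻¹ = j' from inv_eq_of_mul_eq_one_right hjj'] at hw1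
        rw [← hw1]; group
      have hfixx : (j' : Big) *ᵥ ((x : Big) *ᵥ tens u w0) = s • ((x : Big) *ᵥ tens u w0) := by
        rw [← gl_mul_mulVec, ← hcom, gl_mul_mulVec, hja, hu_self hf hu0, mulVec_smul]
      set z := (x : Big) *ᵥ tens u w0
      have hss : s' = s := by
        rw [hσdef] at h1
        rcases hJ.2.1 with rfl | rfl <;> rcases hJ'.2.1 with rfl | rfl <;> simp_all
      have hs0 : s ≠ 0 := by rcases hJ.2.1 with rfl | rfl <;> simp
      refine ⟨fun d => f₁ (ctr (Pi.single d 1) z) (C *ᵥ u) / f₁ (C *ᵥ u) (C *ᵥ u), funext fun ⟨i, d⟩ => ?_⟩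
      have h5 := congrArg (ctr (Pi.single d (1 : F))) hfixx
      rw [hJ'.2.2, hss, ctr_kron_one, ctr_smul] at h5
      have h6 := smul_right_injective _ hs0 h5
      rw [hu_mulVec hf hCu, sub_eq_iff_eq_add] at h6
      have h7 := congrFun h6 i
      simp only [Pi.add_apply, Pi.smul_apply, smul_eq_mul] at h7
      have h8 : ctr (Pi.single d 1) z i = z (i, d) := by simp [ctr, Pi.single_apply]
      rw [h8] at h7
      simp only [tens]
      have := hf.two
      field_simp at h7 ⊢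
      refine mul_left_cancel₀ hf.two ?_
      linear_combination -h7
    · -- opposite signs
      exfalso
      rw [hW, h1, neg_one_smul, ← Units.val_neg] at h3
      have := D.pow_char_eq_one hp3 h3
      rw [hodd.neg_pow, neg_eq_iff_eq_neg] at this
      exact D.neg_not_mem (this ▸ M.pow_mem hwM p)
  -- the second factor
  obtain ⟨e, he⟩ := exists_frame hf
  obtain ⟨η, hη⟩ := exists_dot_eq_one (show C *ᵥ e 0 ≠ 0 from fun h0 => he.ne 0 (by
    have h1 := hsim (e 0) (e 0)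
    rw [h0, hf.zeroL] at h1
    exact (mul_eq_zero.1 h1.symm).resolve_left hν0))
  let L : V2 →ₗ[F] V2 :=
    { toFun := fun w d => ∑ i, η i * ((x : Big) *ᵥ tens (e 0) w) (i, d)
      map_add' := fun a b => funext fun d => by
        simp [tens_add_right, mulVec_add, mul_add, Finset.sum_add_distrib]
      map_smul' := fun c a => funext fun d => by
        simp [tens_smul_right, mulVec_smul, Finset.mul_sum, mul_left_comm] }
  have hL : ∀ w n, (x : Big) *ᵥ tens (e 0) w = tens (C *ᵥ e 0) n → L w = n := fun w n h0 => by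
    funext d
    show ∑ i, η i * ((x : Big) *ᵥ tens (e 0) w) (i, d) = n d
    rw [h0]
    simp only [tens, ← mul_assoc, ← Finset.sum_mul]
    rw [show ∑ i, η i * (C *ᵥ e 0) i = 1 from hη, one_mul]
  have hall : ∀ i w, (x : Big) *ᵥ tens (e i) w = tens (C *ᵥ e i) (LinearMap.toMatrix' L *ᵥ w) := by
    intro i w
    rw [LinearMap.toMatrix'_mulVec]
    obtain ⟨n0, hn0⟩ := hline (e 0) (he.ne 0) w
    rw [hL w n0 hn0]
    rcases eq_or_ne i 0 with rfl | hi
    · exact hn0
    obtain ⟨s, hs, hs2⟩ := exists_sq_ne D.q5 (-(f₁ (e 0) (e 0) / f₁ (e i) (e i)))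
    have hu0 : f₁ (e 0 + s • e i) (e 0 + s • e i) ≠ 0 := fun e0 => hs2 (by
      rw [hf.expand, he.orth 0 i hi.symm] at e0
      field_simp [he.ne i]
      linear_combination e0)
    obtain ⟨n, hn⟩ := hline _ hu0 w
    obtain ⟨n1, hn1⟩ := hline (e i) (he.ne i) w
    rw [tens_add_left, tens_smul_left, mulVec_add, mulVec_smul, hn0, hn1, mulVec_add, mulVec_smul, tens_add_left,
      tens_smul_left] at hn
    have key : ∀ k d, ν * f₁ (e 0) (e k) * n0 d + s * (ν * f₁ (e i) (e k) * n1 d) =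
        ν * f₁ (e 0) (e k) * n d + s * (ν * f₁ (e i) (e k) * n d) := fun k d => by
      have h1 := congrArg (fun z => f₁ (ctr (Pi.single d 1) z) (C *ᵥ e k)) hn
      simp only [ctr_add, ctr_smul, ctr_tens, hf.addL, hf.smulL, hsim, single_dotProduct, one_mul] at h1
      linear_combination h1
    have e0 : n0 = n := funext fun d => by
      have h1 := key 0 d
      rw [he.orth i 0 hi] at h1
      exact mul_left_cancel₀ (mul_ne_zero hν0 (he.ne 0)) (by linear_combination h1)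
    have e1 : n1 = n := funext fun d => by
      have h1 := key i d
      rw [he.orth 0 i hi.symm] at h1
      exact mul_left_cancel₀ (mul_ne_zero hs (mul_ne_zero hν0 (he.ne i))) (by linear_combination h1)
    rw [hn1, e1, ← e0]
  refine mem_kron (a := C) (b := LinearMap.toMatrix' L) (mat_ext_tens fun u w => ?_)
  rw [kron_apply]
  conv_lhs => rw [← he.sum_coord hf u]
  conv_rhs => rw [← he.sum_coord hf u]
  simp only [Fin.sum_univ_three, tens_add_left, tens_smul_left, mulVec_add, mulVec_smul, hall]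

end Data

/-- An element carrying the block of an isotropic vector into a block lies in the stabiliser. -/
theorem Data.line (D : Data f₁ f₂ Q M) (hNR : NR f₂ M) {x : G} (hx : x ∈ M) {v v' : V2} (hv : v ≠ 0)
    (hvv : f₂ v v = 0)
    (h : ∀ a, ∃ a', (x : Big) *ᵥ tens a v = tens a' v') : x ∈ Cfsg.Geo.kroneckerSubgroup 3 4 F := by
  choose g hg using h
  by_cases hv' : v' = 0
  · obtain ⟨u0, hu0⟩ := D.exists_pair1
    have h1 := hg u0
    rw [hv', tens_zero_right, ← mulVec_zero (x : Big)] at h1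
    have h2 := gl_mulVec_injective x h1
    rw [← tens_zero_left v] at h2
    exact absurd (by rw [tens_injective hv h2, D.s1.zeroL]) hu0
  obtain ⟨η, hη⟩ := exists_dot_eq_one hv'
  refine D.pure_kron hx (C := blk (x : Big) η v) (v := v) (v' := v') (fun a => ?_) hv hvv hNR
  rw [← ctr_mulVec_tens, hg, ctr_tens, hη, one_smul]

end Cfsg.Agent.Lib.OmegaTwelve.ThreeFour
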