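import Cfsg.Agent.Lib.OmegaTwelve.ThreeFour.Final
import Cfsg.Agent.Lib.Forms.TensorFrame
import Cfsg.Agent.Lib.Orth52.Spinor

/-!
The stabiliser of a tensor product of a three-dimensional and a minus-type four-dimensional symmetric space is
maximal in `Ω` of the product.
-/

set_option autoImplicit false
set_option linter.unusedSectionVars false

namespace Cfsg.Agent.Lib.OmegaTwelve.ThreeFour

open Matrix Kronecker
open Cfsg.Agent.Lib.Subspaces.Transvection Cfsg.Agent.Lib.Subspaces.FormVec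
  Cfsg.Agent.Lib.Subspaces.OrthForm Cfsg.Agent.Lib.Subspaces.OmegaGL
  Cfsg.Agent.Lib.TensorMax.Block Cfsg.Agent.Lib.TensorMax.Lemmas Cfsg.Agent.Lib.TensorFormMax.Basic
  Cfsg.Agent.Lib.Forms.TensorFrame Cfsg.Agent.Lib.TensorOrthMax.Side

section signs

variable {ι : Type} [Fintype ι] [DecidableEq ι] {F : Type*} [Field F] [Finite F] {Q : (ι → F) → F}

open Cfsg.Agent.Lib.Orth52 Cfsg.Agent.Lib.Forms in
/-- When minus one has a non-square spinor norm, `Ω` meets every pair `g`, `-g` of rotations in one element. -/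
theorem neg_signs (hQ : Cfsg.Geo.IsNondegenerateQuadraticForm Q) (h2 : (2 : F) ≠ 0) (hn : 5 ≤ Fintype.card ι)
    (vs : List (ι → F)) (hvs : ∀ v ∈ vs, Q v ≠ 0)
    (horth : vs.Pairwise fun v w => QuadraticMap.polar Q v w = 0)
    (hsp : Submodule.span F {v | v ∈ vs} = ⊤) (hev : Even vs.length)
    (hns : ¬ IsSquare (vs.map fun v => Q v).prod) :
    (-1 : GL ι F) ∉ Cfsg.Geo.omegaGL Q ∧ ∀ g : GL ι F,
      (∀ x, Q ((g : Matrix ι ι F) *ᵥ x) = Q x) → (g : Matrix ι ι F).det = 1 →
        g ∈ Cfsg.Geo.omegaGL Q ∨ -g ∈ Cfsg.Geo.omegaGL Q := by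
  classical
  have hnd := qf_nondeg hQ
  have hf2 : 2 ≤ Module.finrank F (ι → F) := by rw [Module.finrank_fintype_fun_eq_card]; omega
  let q := qf hQ
  let φ := Cfsg.Agent.Lib.Forms.isoOrth q (f := Q) (fun v => (qf_apply hQ v).symm)
  have hmem : ∀ g : Cfsg.isometryGroup F Q, (g : GL ι F) ∈ Cfsg.Geo.omegaGL Q ↔
      dickson q (φ g) = 0 ∧ spinHom hnd h2 hf2 (φ g) = 1 := fun g => by
    rw [← mem_commutator_iff_spin hnd h2 hf2, ← mem_Omega_iff_orth q (f := Q) (fun v => (qf_apply hQ v).symm) g]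
    exact ⟨fun ⟨h, hh, e⟩ => Subtype.ext e ▸ hh, fun h => ⟨g, h, rfl⟩⟩
  set o := oreflProd q vs with ho
  have hod : dickson q o = 0 := by
    rw [ho, dickson_oreflProd hnd vs hvs, ZMod.natCast_eq_zero_iff_even]; exact hev
  have hos : spinHom hnd h2 hf2 o = -1 := (Int.units_eq_one_or _).resolve_left fun e =>
    hns ((spinHom_oreflProd_eq_one_iff hnd h2 hf2 vs hvs).1 e)
  have hneg : ∀ x, o.1 x = -x := fun x => by
    have hx : x ∈ Submodule.span F {v | v ∈ vs} := by rw [hsp]; trivial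
    induction hx using Submodule.span_induction with
    | mem v hv => exact oreflProd_neg vs hvs horth hv
    | zero => rw [map_zero, neg_zero]
    | add a b _ _ ha hb => rw [map_add, ha, hb, neg_add]
    | smul c a _ ha => rw [map_smul, ha, smul_neg]
  have hQneg : ∀ x, Q (-x) = Q x := fun x => by
    rw [← neg_one_smul F x, hQ.smul]; ring
  have hi : (-1 : GL ι F) ∈ Cfsg.isometryGroup F Q := fun x _ => by
    show Q (((-1 : GL ι F) : Matrix ι ι F) *ᵥ x) = Q x
    rw [Units.val_neg, Units.val_one, neg_mulVec, one_mulVec, hQneg]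
  have hφi : φ ⟨-1, hi⟩ = o := by
    apply Subtype.ext
    ext x : 1
    rw [hneg]
    show ((φ ⟨-1, hi⟩).1 x) = -x
    rw [isoOrth_apply]
    show ((-1 : GL ι F) : Matrix ι ι F) *ᵥ x = -x
    rw [Units.val_neg, Units.val_one, neg_mulVec, one_mulVec]
  refine ⟨fun h => ?_, fun g hg hdet => ?_⟩
  · have h1 := ((hmem ⟨-1, hi⟩).1 h).2
    rw [hφi, hos] at h1
    exact absurd h1 (by decide)
  · let g₀ : Cfsg.isometryGroup F Q := ⟨g, fun x _ => hg x⟩
    have hd : dickson q (φ g₀) = 0 := (det_orth_eq q hnd h2 g₀).1 hdet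
    rcases Int.units_eq_one_or (spinHom hnd h2 hf2 (φ g₀)) with e | e
    · exact Or.inl ((hmem g₀).2 ⟨hd, e⟩)
    · refine Or.inr ?_
      have hg' : -g = ((g₀ * ⟨-1, hi⟩ : Cfsg.isometryGroup F Q) : GL ι F) := by
        show -g = g * -1
        rw [mul_neg, mul_one]
      rw [hg', hmem, map_mul, hφi]
      refine ⟨?_, ?_⟩
      · have := map_mul (dicksonHom hnd (Or.inl (exists_ne01 h2))) (φ g₀) o
        exact (Multiplicative.ofAdd.injective this).trans (by show dickson q (φ g₀) + dickson q o = 0; rw [hd, hod, add_zero])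
      · rw [map_mul, e, hos]; decide

end signs

variable {F : Type*} [Field F] [Finite F]

/-- The stabiliser of a tensor product of spaces of dimensions three and four (minus type) is maximal in `Ω`. -/
theorem maximal {Q : (Fin 12 → F) → F} (hQ : Cfsg.Geo.IsNondegenerateQuadraticForm Q) (h2 : (2 : F) ≠ 0)
    (hq : 5 ≤ Nat.card F) (e : Fin 12 ≃ Fin 3 × Fin 4) (P : GL (Fin 12) F)
    (f₁ : (Fin 3 → F) → (Fin 3 → F) → F) (f₂ : (Fin 4 → F) → (Fin 4 → F) → F)
    (hf₁ : Cfsg.Geo.IsSymmetricForm f₁) (hf₂ : Cfsg.Geo.IsSymmetricForm f₂)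
    (hminus : ¬ Cfsg.Geo.IsPlusTypeOn (fun v : Fin 4 → F => f₂ v v) ⊤)
    (hT : Cfsg.Geo.IsTensorFormStructure id (QuadraticMap.polar Q) f₁ f₂ e P) :
    Cfsg.Geo.IsMaximalIn (Cfsg.Geo.omegaGL Q)
      (Cfsg.Geo.tensorProductSubgroup 3 4 e P ⊓ Cfsg.Geo.omegaGL Q) := by
  classical
  have s1 : Sym f₁ :=
    ⟨{ invol := fun _ => rfl, lin := isLinearLeft_of_bilinear hf₁.bilinear
       swap := fun x y => by rw [RingHom.id_apply, one_mul]; exact (hf₁.symm x y).symm
       nondeg := fun v hv => (hf₁.nondegenerate v hv).1 }, h2⟩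
  have s2 : Sym f₂ :=
    ⟨{ invol := fun _ => rfl, lin := isLinearLeft_of_bilinear hf₂.bilinear
       swap := fun x y => by rw [RingHom.id_apply, one_mul]; exact (hf₂.symm x y).symm
       nondeg := fun v hv => (hf₂.nondegenerate v hv).1 }, h2⟩
  have hm : Minus f₂ := fun v w hv hvv hww hwv => by
    by_contra hn'
    refine hminus ⟨plane v w, le_top, fun x hx => s2.iso_plane hvv hww hwv hx hx, ?_⟩
    rw [finrank_plane hv hn', finrank_top, Module.finrank_fintype_fun_eq_card, Fintype.card_fin]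
  obtain ⟨c, hc, hBp⟩ := form_pure (f := QuadraticMap.polar Q) (σ := id) (fun _ _ => rfl)
    (eq_formOfGram (isLinearLeft_of_bilinear hf₁.bilinear) hf₁.bilinear.add_right hf₁.bilinear.smul_right)
    (eq_formOfGram (isLinearLeft_of_bilinear hf₂.bilinear) hf₂.bilinear.add_right hf₂.bilinear.smul_right) hT
  set φ : GL (Fin 3 × Fin 4) F ≃* GL (Fin 12) F :=
    (Cfsg.Geo.glReindex (F := F) e.symm).trans (MulAut.conj P) with hφ
  let T : (Fin 3 × Fin 4 → F) →ₗ[F] (Fin 12 → F) :=
    (Matrix.mulVecLin (P : Matrix (Fin 12) (Fin 12) F)).comp (LinearMap.funLeft F F e)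
  have hTapp : ∀ z, T z = (P : Matrix (Fin 12) (Fin 12) F) *ᵥ (z ∘ e) := fun z => rfl
  have hTinj : Function.Injective T := fun a b h => by
    have := gl_mulVec_injective P (show (P : Matrix (Fin 12) (Fin 12) F) *ᵥ (a ∘ e) = _ *ᵥ (b ∘ e) from h)
    funext p
    simpa using congrFun this (e.symm p)
  have hTsurj : Function.Surjective T := fun x =>
    ⟨(((P⁻¹ : GL (Fin 12) F) : Matrix (Fin 12) (Fin 12) F) *ᵥ x) ∘ e.symm, by
      rw [hTapp]
      conv_rhs => rw [← gl_mulVec_inv P x]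
      congr 1
      funext i; simp⟩
  have hφT : ∀ g z, (φ g : Matrix (Fin 12) (Fin 12) F) *ᵥ T z =
      T ((g : Matrix (Fin 3 × Fin 4) (Fin 3 × Fin 4) F) *ᵥ z) := by
    intro g z
    rw [hTapp, hTapp]
    show ((P * Cfsg.Geo.glReindex e.symm g * P⁻¹ : GL (Fin 12) F) : Matrix (Fin 12) (Fin 12) F) *ᵥ _ = _
    rw [gl_mul_mulVec, gl_mul_mulVec, gl_inv_mulVec]
    congr 1
    show (Matrix.reindexAlgEquiv F F e.symm) (g : Matrix (Fin 3 × Fin 4) (Fin 3 × Fin 4) F) *ᵥ _ = _
    rw [Matrix.reindexAlgEquiv_apply, Matrix.reindex_apply, Equiv.symm_symm, Matrix.submatrix_mulVec_equiv]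
    congr 1
    congr 1
    funext p; simp
  set Q' : (Fin 3 × Fin 4 → F) → F := fun z => c⁻¹ * Q (T z) with hQ'
  have hB' : ∀ x y, QuadraticMap.polar Q' x y = c⁻¹ * QuadraticMap.polar Q (T x) (T y) := fun x y => by
    simp only [QuadraticMap.polar, hQ', map_add]; ring
  have hb := hQ.polar_bilinear
  have hc' : c⁻¹ ≠ 0 := inv_ne_zero hc
  have hQn : Cfsg.Geo.IsNondegenerateQuadraticForm Q' := by
    refine ⟨fun a z => ?_, ⟨fun x y v => ?_, fun a x v => ?_, fun v x y => ?_, fun a v x => ?_⟩, fun v hv => ?_⟩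
    · rw [hQ']; dsimp only; rw [map_smul, hQ.smul]; ring
    · rw [hB', hB', hB', map_add, hb.add_left]; ring
    · rw [hB', hB', map_smul, hb.smul_left]; ring
    · rw [hB', hB', hB', map_add, hb.add_right]; ring
    · rw [hB', hB', map_smul, hb.smul_right]; ring
    · obtain ⟨⟨x, hx⟩, ⟨y, hy⟩⟩ := hQ.nondegenerate (T v) (fun h0 => hv (hTinj (by rw [h0, map_zero])))
      obtain ⟨x, rfl⟩ := hTsurj x
      obtain ⟨y, rfl⟩ := hTsurj y
      exact ⟨⟨x, by rw [hB']; exact mul_ne_zero hc' hx⟩, ⟨y, by rw [hB']; exact mul_ne_zero hc' hy⟩⟩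
  have hB0 : ∀ u w u' w', QuadraticMap.polar Q' (tens u w) (tens u' w') = f₁ u u' * f₂ w w' := by
    intro u w u' w'
    rw [hB']
    show c⁻¹ * QuadraticMap.polar Q (pure e P u w) (pure e P u' w') = _
    rw [hBp, inv_mul_cancel_left₀ hc]
  have hn5 : 5 ≤ Fintype.card (Fin 12) := by rw [Fintype.card_fin]; omega
  have hn5' := ThreeFour.card_pos
  have hTsieg : ∀ u w, Q' u = 0 → QuadraticMap.polar Q' w u = 0 →
      φ (Cfsg.Agent.Lib.Subspaces.OrthForm.sieg Q' u w) =
        Cfsg.Agent.Lib.Subspaces.OrthForm.sieg Q (T u) (T (c⁻¹ • w)) := by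
    intro u w hu hw
    have hu' : Q (T u) = 0 := (mul_eq_zero.1 hu).resolve_left hc'
    have hw' : QuadraticMap.polar Q (T (c⁻¹ • w)) (T u) = 0 := by
      rw [map_smul, hb.smul_left, ← hB', hw]
    refine gl_ext fun x => ?_
    obtain ⟨x, rfl⟩ := hTsurj x
    rw [hφT, sieg_mulVec hQn hu hw, sieg_mulVec hQ hu' hw', map_add, map_add, map_smul T, map_smul T,
      map_smul T, hB', hB', hb.smul_right, hQ.smul]
    simp only [hQ']
    module
  have hmem : ∀ x, φ x ∈ Cfsg.Geo.tensorProductSubgroup 3 4 e P ↔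
      x ∈ Cfsg.Geo.kroneckerSubgroup 3 4 F := by
    intro x
    constructor
    · rintro ⟨y, ⟨z, hz, rfl⟩, hy⟩
      have : φ z = φ x := hy
      rwa [← φ.injective this]
    · exact fun hx => ⟨_, ⟨x, hx, rfl⟩, rfl⟩
  have hΩ : ∀ g, φ g ∈ Cfsg.Geo.omegaGL Q ↔ g ∈ Cfsg.Geo.omegaGL Q' := by
    have h1 : Cfsg.Geo.omegaGL Q' ≤ (Cfsg.Geo.omegaGL Q).comap φ.toMonoidHom :=
      omega_le hQn hn5' fun u w hu hw => by
        show φ _ ∈ Cfsg.Geo.omegaGL Q
        rw [hTsieg u w hu hw]
        exact sieg_mem_omega hQ hn5 ((mul_eq_zero.1 hu).resolve_left hc')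
          (by rw [map_smul, hb.smul_left, ← hB', hw])
    have h2' : Cfsg.Geo.omegaGL Q ≤ (Cfsg.Geo.omegaGL Q').map φ.toMonoidHom := by
      refine omega_le hQ hn5 fun u w hu hw => ?_
      obtain ⟨u, rfl⟩ := hTsurj u
      obtain ⟨w, rfl⟩ := hTsurj w
      have hu' : Q' u = 0 := by show c⁻¹ * Q _ = 0; rw [hu, mul_zero]
      have hw' : QuadraticMap.polar Q' (c • w) u = 0 := by
        rw [hB', map_smul, hb.smul_left, hw, mul_zero, mul_zero]
      refine ⟨_, sieg_mem_omega hQn hn5' hu' hw', ?_⟩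
      show φ _ = _
      rw [hTsieg u _ hu' hw', smul_smul, inv_mul_cancel₀ hc, one_smul]
    intro g
    refine ⟨fun h => ?_, fun h => h1 h⟩
    obtain ⟨g', hg', he⟩ := h2' h
    rwa [← φ.injective he]
  -- an orthogonal basis of pure tensors
  obtain ⟨a, ha⟩ := exists_frame s1
  obtain ⟨v, hv, hvv⟩ := s2.exists_iso (by omega)
  obtain ⟨v', t, hbv⟩ := exists_hb s2 hm hv hvv
  have hv'v' := hbv.v'v'
  have hvv' := hbv.vv'
  have hv'v := hbv.v'v s2
  let b : Fin 4 → Fin 4 → F := ![v + v', v - v', t 0, t 1]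
  have hbF : Frame f₂ b := by
    constructor
    · intro i j hij
      fin_cases i <;> fin_cases j <;>
        first | exact absurd rfl hij |
          simp [b, s2.addL, s2.subL, s2.addR, s2.subR, hvv, hv'v', hvv', hv'v, hbv.tv, hbv.tv', hbv.torth,
            hbv.t10 s2, s2.comm (t 0) v, s2.comm (t 0) v', s2.comm (t 1) v, s2.comm (t 1) v']
    · intro i
      fin_cases i
      · simp [b, s2.addL, s2.addR, hvv, hv'v', hvv', hv'v, one_add_one_eq_two, h2]
      · simp [b, s2.subL, s2.subR, hvv, hv'v', hvv', hv'v, sub_eq_zero]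
        intro e'; exact h2 (by linear_combination -e')
      · exact hbv.tne 0
      · exact hbv.tne 1
  have hprod2 : ¬ IsSquare (∏ j, f₂ (b j) (b j)) := by
    intro hsq
    have he : ∏ j, f₂ (b j) (b j) = 2 * 2 * -(f₂ (t 0) (t 0) * f₂ (t 1) (t 1)) := by
      rw [Fin.prod_univ_four]
      simp only [b, Matrix.cons_val_zero, Matrix.cons_val_one, Matrix.cons_val_two, Matrix.cons_val_three,
        Matrix.head_cons, Matrix.tail_cons, s2.addL, s2.addR, s2.subL, s2.subR, hvv, hv'v', hvv', hv'v]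
      ring
    rw [he] at hsq
    obtain ⟨r, hr⟩ := hsq
    obtain ⟨w, hw, hw0, hww⟩ := exists_iso_of_square s2 (x := t 0) (x' := t 1)
      ⟨hbv.tne 0, hbv.tne 1, hbv.torth⟩ ⟨r / 2, by field_simp; linear_combination hr⟩
    obtain ⟨c0, c1, hw'⟩ := Submodule.mem_span_pair.1 hw
    have := hbv.aniso ![c0, c1] (by
      rw [← hw', s2.addL, s2.addR, s2.addR, s2.smulL, s2.smulL, s2.smulL, s2.smulL, s2.smulR, s2.smulR,
        s2.smulR, s2.smulR, hbv.torth, hbv.t10 s2] at hww
      simp only [Fin.sum_univ_two, Matrix.cons_val_zero, Matrix.cons_val_one]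
      linear_combination hww)
    exact hw0 (by rw [← hw', show c0 = 0 from congrFun this 0, show c1 = 0 from congrFun this 1]; simp)
  have hself := Cfsg.Agent.Lib.Subspaces.OrthForm.B_self hQn
  have hQt : ∀ u w, Q' (tens u w) = f₁ u u * f₂ w w / 2 := fun u w => by
    rw [← hB0, hself]; field_simp
  let vs : List (Fin 3 × Fin 4 → F) :=
    (Finset.univ : Finset (Fin 3 × Fin 4)).toList.map fun p => tens (a p.1) (b p.2)
  obtain ⟨hneg, hsigns⟩ := neg_signs hQn h2 hn5' vs
    (by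
      intro x hx
      obtain ⟨p, -, rfl⟩ := List.mem_map.1 hx
      rw [hQt]
      exact div_ne_zero (mul_ne_zero (ha.ne _) (hbF.ne _)) h2)
    (List.pairwise_map.2 ((Finset.nodup_toList _).imp fun {p p'} hne => by
      show QuadraticMap.polar Q' _ _ = 0
      rw [hB0]
      rcases eq_or_ne p.1 p'.1 with h | h
      · rw [hbF.orth p.2 p'.2 fun h' => hne (Prod.ext h h'), mul_zero]
      · rw [ha.orth _ _ h, zero_mul]))
    (by
      have hin : ∀ i j, tens (a i) (b j) ∈ Submodule.span F {x | x ∈ vs} := fun i j =>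
        Submodule.subset_span (List.mem_map.2 ⟨(i, j), by simp, rfl⟩)
      rw [eq_top_iff]
      intro z _
      rw [← sum_tens_slice z]
      refine Submodule.sum_mem _ fun i _ => ?_
      rw [← ha.sum_coord s1 (Pi.single i 1), ← hbF.sum_coord s2 (slice z i)]
      generalize slice z i = w
      have key : ∀ (s : Finset (Fin 3)) (s' : Finset (Fin 4)) (c : Fin 3 → F) (d : Fin 4 → F),
          tens (∑ i ∈ s, c i • a i) (∑ j ∈ s', d j • b j) ∈ Submodule.span F {x | x ∈ vs} := by
        intro s s' c d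
        induction s using Finset.induction_on with
        | empty => rw [Finset.sum_empty, tens_zero_left]; exact Submodule.zero_mem _
        | insert i s hi ih =>
          rw [Finset.sum_insert hi, tens_add_left, tens_smul_left]
          refine Submodule.add_mem _ (Submodule.smul_mem _ _ ?_) ih
          clear ih
          induction s' using Finset.induction_on with
          | empty => rw [Finset.sum_empty, tens_zero_right]; exact Submodule.zero_mem _
          | insert j s' hj ih =>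
            rw [Finset.sum_insert hj, tens_add_right, tens_smul_right]
            exact Submodule.add_mem _ (Submodule.smul_mem _ _ (hin i j)) ih
      exact key _ _ _ _)
    (by simp only [vs, List.length_map, Finset.length_toList, Finset.card_univ, Fintype.card_prod,
      Fintype.card_fin]; decide)
    (by
      simp only [vs, List.map_map, Function.comp_def, hQt, Finset.prod_map_toList]
      intro hsq
      apply hprod2
      obtain ⟨r, hr⟩ := hsq
      rw [Fintype.prod_prod_type] at hr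
      simp only [Fin.prod_univ_three, Fin.prod_univ_four] at hr ⊢
      have hA : ∀ i, f₁ (a i) (a i) ≠ 0 := ha.ne
      have hB : ∀ i, f₂ (b i) (b i) ≠ 0 := hbF.ne
      refine ⟨r * 2 ^ 6 / ((f₁ (a 0) (a 0) * f₁ (a 1) (a 1) * f₁ (a 2) (a 2)) ^ 2 *
        (f₂ (b 0) (b 0) * f₂ (b 1) (b 1) * f₂ (b 2) (b 2) * f₂ (b 3) (b 3))), ?_⟩
      have := hA 0; have := hA 1; have := hA 2
      have := hB 0; have := hB 1; have := hB 2; have := hB 3
      field_simp at hr ⊢
      linear_combination hr)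
  refine ⟨lt_of_le_of_ne inf_le_right fun heq => ?_, fun M hM hMle => ?_⟩
  · -- a Siegel transformation off the stabiliser
    have hu : Q' (tens (a 0) v) = 0 := by rw [hQt, hvv, mul_zero, zero_div]
    have hw : QuadraticMap.polar Q' (tens (a 1) v) (tens (a 0) v) = 0 := by rw [hB0, hvv, mul_zero]
    have hQw : Q' (tens (a 1) v) = 0 := by rw [hQt, hvv, mul_zero, zero_div]
    set g := Cfsg.Agent.Lib.Subspaces.OrthForm.sieg Q' (tens (a 0) v) (tens (a 1) v)
    have hgk : g ∈ Cfsg.Geo.kroneckerSubgroup 3 4 F := by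
      have h1 : φ g ∈ Cfsg.Geo.omegaGL Q := (hΩ g).2 (sieg_mem_omega hQn hn5' hu hw)
      rw [← heq] at h1
      exact (hmem g).1 h1.1
    obtain ⟨x, x', hxx⟩ := hgk
    have himg : (g : Matrix (Fin 3 × Fin 4) (Fin 3 × Fin 4) F) *ᵥ tens (a 0) v' =
        tens (a 0) v' + f₁ (a 0) (a 0) • tens (a 1) v := by
      rw [sieg_mulVec hQn hu hw, hQw, hB0, hB0, hv'v, ha.orth 0 1 (by decide), zero_mul, zero_mul, sub_zero]
      module
    rw [hxx, kron_mulVec_tens] at himg
    set p := (x : Matrix (Fin 3) (Fin 3) F) *ᵥ a 0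
    set q := (x' : Matrix (Fin 4) (Fin 4) F) *ᵥ v'
    have hpair : ∀ i y, f₁ p (a i) * f₂ q y =
        f₁ (a 0) (a i) * f₂ v' y + f₁ (a 0) (a 0) * (f₁ (a 1) (a i) * f₂ v y) := fun i y => by
      have := congrArg (fun z => QuadraticMap.polar Q' z (tens (a i) y)) himg
      simp only [hQn.polar_bilinear.add_left, hQn.polar_bilinear.smul_left, hB0] at this
      exact this
    have e1 := hpair 0 v
    have e2 := hpair 1 v
    have e3 := hpair 1 v'
    rw [hv'v, hvv, ha.orth 1 0 (by decide), zero_mul, mul_zero, add_zero, mul_one] at e1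
    rw [ha.orth 0 1 (by decide), hvv, zero_mul, mul_zero, mul_zero, add_zero] at e2
    rw [ha.orth 0 1 (by decide), hvv', zero_mul, zero_add, mul_one] at e3
    have hqv : f₂ q v ≠ 0 := fun h => ha.ne 0 (by rw [← e1, h, mul_zero])
    rw [(mul_eq_zero.1 e2).resolve_right hqv, zero_mul] at e3
    exact mul_ne_zero (ha.ne 0) (ha.ne 1) e3.symm
  · set M' := M.comap φ.toMonoidHom with hM'
    have D : Data f₁ f₂ Q' M' :=
      { s1 := s1, s2 := s2, minus := hm, q5 := hq, form := hQn, tensB := hB0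
        below := fun g hg => (hΩ g).1 (hMle hg)
        above := fun g hg => hM ⟨(hmem g).2 hg.1, (hΩ g).2 hg.2⟩
        negMem := hneg, signs := hsigns }
    rcases D.dichotomy with h | h
    · refine Or.inl (le_antisymm (fun x hx => ⟨?_, hMle hx⟩) hM)
      have := (hmem _).2 (h (show φ.symm x ∈ M' by
        show φ (φ.symm x) ∈ M; rwa [φ.apply_symm_apply]))
      rwa [φ.apply_symm_apply] at this
    · refine Or.inr (le_antisymm hMle fun x hx => ?_)
      have h1 : φ (φ.symm x) ∈ M := h ((hΩ _).1 (by rwa [φ.apply_symm_apply]))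
      rwa [φ.apply_symm_apply] at h1

end Cfsg.Agent.Lib.OmegaTwelve.ThreeFour
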