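import Cfsg.Agent.Lib.OmegaTwelve.ThreeFour.Trans

/-!
A radical outside the stabiliser puts every Siegel transformation into the group.
-/

set_option autoImplicit false
set_option linter.unusedSectionVars false

namespace Cfsg.Agent.Lib.OmegaTwelve.ThreeFour

open Matrix Kronecker Module
open Cfsg.Agent.Lib.Subspaces.Transvection Cfsg.Agent.Lib.Subspaces.FormVec
  Cfsg.Agent.Lib.Subspaces.OrthForm Cfsg.Agent.Lib.Subspaces.OrthLines
  Cfsg.Agent.Lib.Subspaces.OrthSingular Cfsg.Agent.Lib.Subspaces.OmegaGL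
  Cfsg.Agent.Lib.TensorMax.Lemmas
  Cfsg.Agent.Lib.TensorFormMax.Basic Cfsg.Agent.Lib.TensorOrthMax.Side

variable {F : Type*} [Field F]

local notation "Big" => Matrix (Fin 3 × Fin 4) (Fin 3 × Fin 4) F

variable [Finite F] {f₁ : (Fin 3 → F) → (Fin 3 → F) → F} {f₂ : (Fin 4 → F) → (Fin 4 → F) → F}
  {Q : (Fin 3 × Fin 4 → F) → F} {M : Subgroup (GL (Fin 3 × Fin 4) F)}

namespace Data

variable (D : Data f₁ f₂ Q M)
include D

theorem Q_tens (u : Fin 3 → F) {v : Fin 4 → F} (hv : f₂ v v = 0) : Q (tens u v) = 0 := by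
  have h1 := D.tensB u v u v
  rw [B_self D.form, hv, mul_zero] at h1
  exact (mul_eq_zero.1 h1).resolve_left D.two

theorem Q_tens' {u : Fin 3 → F} (hu : f₁ u u = 0) (v : Fin 4 → F) : Q (tens u v) = 0 := by
  have h1 := D.tensB u v u v
  rw [B_self D.form, hu, zero_mul] at h1
  exact (mul_eq_zero.1 h1).resolve_left D.two

/-- The orthogonal part of the Siegel group at a singular vector. -/
def Xw (Q : (Fin 3 × Fin 4 → F) → F) (M : Subgroup (GL (Fin 3 × Fin 4) F)) (w x : Fin 3 × Fin 4 → F) :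
    Prop :=
  QuadraticMap.polar Q x w = 0 ∧ sieg Q w x ∈ M

theorem Xw_add {w x y : Fin 3 × Fin 4 → F} (hw : Q w = 0) (hx : Xw Q M w x) (hy : Xw Q M w y) :
    Xw Q M w (x + y) := by
  have hb := D.form.polar_bilinear
  have hxy : QuadraticMap.polar Q (x + y) w = 0 := by rw [hb.add_left, hx.1, hy.1, add_zero]
  refine ⟨hxy, ?_⟩
  have : sieg Q w (x + y) = sieg Q w x * sieg Q w y := gl_ext fun z => by
    have hww : QuadraticMap.polar Q w w = 0 := by rw [B_self D.form, hw, mul_zero]
    rw [gl_mul_mulVec, sieg_mulVec D.form hw hxy, sieg_mulVec D.form hw hy.1, sieg_mulVec D.form hw hx.1]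
    simp only [hb.add_left, hb.smul_left, hb.add_right, hb.smul_right, hww, hy.1,
      QuadraticMap.polar_comm Q w x, hx.1, Q_add (Q := Q), QuadraticMap.polar_comm Q y x]
    module
  rw [this]
  exact M.mul_mem hx.2 hy.2

theorem Xw_zero {w : Fin 3 × Fin 4 → F} (hw : Q w = 0) : Xw Q M w 0 := by
  have h0 : QuadraticMap.polar Q 0 w = 0 := form_zero_left (Cfsg.Agent.Lib.Subspaces.OrthForm.bil D.form) w
  refine ⟨h0, ?_⟩
  have : sieg Q w 0 = 1 := gl_ext fun z => by
    rw [sieg_mulVec D.form hw h0, zero_right D.form, Q_zero D.form, Units.val_one, one_mulVec]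
    simp
  rw [this]
  exact M.one_mem

theorem Xw_neg {w x : Fin 3 × Fin 4 → F} (hw : Q w = 0) (hx : Xw Q M w x) : Xw Q M w (-x) := by
  have hb := D.form.polar_bilinear
  have hxn : QuadraticMap.polar Q (-x) w = 0 := by rw [← neg_one_smul F x, hb.smul_left, hx.1, mul_zero]
  refine ⟨hxn, ?_⟩
  have : sieg Q w (-x) * sieg Q w x = 1 := gl_ext fun z => by
    have hww : QuadraticMap.polar Q w w = 0 := by rw [B_self D.form, hw, mul_zero]
    rw [gl_mul_mulVec, sieg_mulVec D.form hw hx.1, sieg_mulVec D.form hw hxn, Units.val_one, one_mulVec,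
      ← neg_one_smul F x]
    simp only [hb.add_left, hb.smul_left, hb.smul_right, hww, hx.1, QuadraticMap.polar_comm Q w x, D.form.smul,
      B_self D.form x]
    module
  rw [eq_inv_of_mul_eq_one_left this]
  exact M.inv_mem hx.2

theorem Xw_conj {w x : Fin 3 × Fin 4 → F} (hw : Q w = 0) (hx : Xw Q M w x) {g : GL (Fin 3 × Fin 4) F}
    (hg : g ∈ M) (hgw : (g : Big) *ᵥ w = w) : Xw Q M w ((g : Big) *ᵥ x) := by
  refine ⟨?_, ?_⟩
  · rw [← hx.1]
    conv_lhs => rw [← hgw, D.isoB hg]
  · have := M.mul_mem (M.mul_mem hg hx.2) (M.inv_mem hg)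
    rwa [conj_sieg D.form (D.isoQ hg) hw hx.1, hgw] at this

variable (hroot : ∀ {v : Fin 4 → F}, v ≠ 0 → f₂ v v = 0 → ∀ p q, sieg Q (tens p v) (tens q v) ∈ M)
include hroot

/-- The element of the root group applied to a vector. -/
theorem root_apply {v : Fin 4 → F} (hv : v ≠ 0) (hvv : f₂ v v = 0) (p q : Fin 3 → F) :
    sieg Q (tens p v) (tens q v) ∈ M ∧ ∀ u s, (sieg Q (tens p v) (tens q v) : Big) *ᵥ tens u s =
      tens u s + (f₁ u p * f₂ s v) • tens q v - (f₁ u q * f₂ s v) • tens p v := by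
  refine ⟨hroot hv hvv p q, fun u s => ?_⟩
  rw [sieg_mulVec D.form (D.Q_tens p hvv) (by rw [D.tensB, hvv, mul_zero]), D.tensB, D.tensB, D.Q_tens q hvv]
  module

/-- The whole first factor along the second vector, from the isotropic vectors off its orthogonal. -/
theorem Xw_spread {a : Fin 3 → F} {v v' : Fin 4 → F} {t : Fin 2 → Fin 4 → F} (hb : HB f₂ v v' t)
    {p : Fin 3 → F} (h0 : ∀ c : F, Xw Q M (tens a v) (tens (c • p) v))
    (h1 : ∀ s, f₂ s s = 0 → f₂ v s ≠ 0 → ∀ c : F, Xw Q M (tens a v) (tens (c • p) s)) (s : Fin 4 → F) :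
    Xw Q M (tens a v) (tens p s) := by
  have hf := D.s2
  have hQ := D.Q_tens a hb.vv
  have hv' : ∀ c : F, Xw Q M (tens a v) (tens (c • p) v') := fun c =>
    h1 v' hb.v'v' (by rw [hb.vv']; exact one_ne_zero) c
  have ht : ∀ l (c : F), Xw Q M (tens a v) (tens (c • p) (t l)) := fun l c => by
    set k := -(f₂ (t l) (t l) / 2) with hk
    have hs : f₂ (v' + t l + k • v) (v' + t l + k • v) = 0 := by
      simp only [hf.addL, hf.addR, hf.smulL, hf.smulR, hb.v'v', hb.vv, hb.vv', hb.v'v hf, hb.tv, hb.tv',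
        hf.comm (t l) v, hf.comm (t l) v']
      have := hf.two
      rw [hk]
      field_simp
      ring
    have h2 := h1 _ hs (by
      simp only [hf.addR, hf.smulR, hb.vv, hb.vv', hf.comm (t l) v, hb.tv]
      simp) c
    have h3 := D.Xw_add hQ h2 (D.Xw_neg hQ (D.Xw_add hQ (hv' c) (h0 (c * k))))
    convert h3 using 1
    rw [tens_add_right, tens_add_right, tens_smul_right, ← tens_smul_left, smul_smul, mul_comm k c]
    abel
  have e : tens p s = tens (f₂ s v' • p) v + tens (f₂ s v • p) v' +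
      (tens ((f₂ s (t 0) / f₂ (t 0) (t 0)) • p) (t 0) + tens ((f₂ s (t 1) / f₂ (t 1) (t 1)) • p) (t 1)) := by
    conv_lhs => rw [hb.expand hf s]
    simp only [tens_add_right, tens_smul_right, tens_smul_left]
    abel
  rw [e]
  exact D.Xw_add hQ (D.Xw_add hQ (h0 _) (hv' _)) (D.Xw_add hQ (ht 0 _) (ht 1 _))

/-- The tensors `a ⊗ V₂` in the Siegel group of `a ⊗ v`. -/
theorem Xw_side {a e r : Fin 3 → F} (haa : f₁ a a = 0) (hae : f₁ a e = 1) (hra : f₁ r a = 0)
    (hre : f₁ r e = 0) (hr : f₁ r r ≠ 0) {v v' : Fin 4 → F} {t : Fin 2 → Fin 4 → F} (hb : HB f₂ v v' t) :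
    (∀ u, Xw Q M (tens a v) (tens u v)) ∧ (∀ (c : F) s, Xw Q M (tens a v) (tens (c • r) s)) ∧
      ∀ (c : F) s, Xw Q M (tens a v) (tens (c • a) s) := by
  have hf := D.s1
  have hv := hb.ne_v D.s2
  have hQ := D.Q_tens a hb.vv
  have h0 : ∀ u, Xw Q M (tens a v) (tens u v) := fun u =>
    ⟨by rw [D.tensB, hb.vv, mul_zero], hroot hv hb.vv a u⟩
  have hrs : ∀ (c : F) s, Xw Q M (tens a v) (tens (c • r) s) := fun c s => by
    refine D.Xw_spread hroot hb (fun d => h0 _) (fun s' hs' hvs d => ?_) s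
    obtain ⟨hg, hga⟩ := D.root_apply hroot (fun e0 => hvs (by rw [e0, D.s2.zeroR])) hs' a ((f₂ v s')⁻¹ • d • c • r)
    have hgw : ((sieg Q (tens a s') (tens ((f₂ v s')⁻¹ • d • c • r) s') : Big) *ᵥ tens a v) = tens a v := by
      rw [hga, haa, hf.smulR, hf.smulR, hf.smulR, hf.comm r a, hra]
      simp
    have h1 := D.Xw_conj hQ (h0 e) hg hgw
    rw [hga] at h1
    have h2 := D.Xw_add hQ h1 (D.Xw_neg hQ (h0 e))
    convert h2 using 1
    rw [hf.comm a e, hae, hf.smulR, hf.smulR, hf.smulR, hf.comm r e, hre, mul_zero, mul_zero, mul_zero,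
      zero_mul, zero_smul, sub_zero, one_mul, ← tens_smul_left, smul_inv_smul₀ hvs]
    abel
  refine ⟨h0, hrs, fun c s => ?_⟩
  refine D.Xw_spread hroot hb (fun d => h0 _) (fun s' hs' hvs d => ?_) s
  obtain ⟨hg, hga⟩ := D.root_apply hroot (fun e0 => hvs (by rw [e0, D.s2.zeroR])) hs' a
    ((-(d * c) / (f₁ r r * f₂ v s')) • r)
  have hgw : ((sieg Q (tens a s') (tens ((-(d * c) / (f₁ r r * f₂ v s')) • r) s') : Big) *ᵥ tens a v) =
      tens a v := by
    rw [hga, haa, hf.smulR, hf.comm r a, hra]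
    simp
  have h1 := D.Xw_conj hQ (h0 r) hg hgw
  rw [hga] at h1
  have h2 := D.Xw_add hQ h1 (D.Xw_neg hQ (h0 r))
  convert h2 using 1
  rw [hra, zero_mul, zero_smul, add_zero, hf.smulR, ← tens_smul_left,
    show -(d * c) / (f₁ r r * f₂ v s') * f₁ r r * f₂ v s' = -(d * c) by field_simp, smul_smul,
    neg_smul, ← neg_one_smul F ((d * c) • a), tens_smul_left (-1)]
  module

/-- The full Siegel group at a tensor of two isotropic vectors. -/
theorem full_pure {a e r : Fin 3 → F} (haa : f₁ a a = 0) (hee : f₁ e e = 0) (hae : f₁ a e = 1)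
    (hra : f₁ r a = 0) (hre : f₁ r e = 0) (hr : f₁ r r ≠ 0) {v v' : Fin 4 → F} {t : Fin 2 → Fin 4 → F}
    (hb : HB f₂ v v' t) : Full Q M (tens a v) := by
  have hf := D.s1
  have hf2 := D.s2
  have hv := hb.ne_v D.s2
  have hQ := D.Q_tens a hb.vv
  obtain ⟨h0, hrs, has⟩ := D.Xw_side hroot haa hae hra hre hr hb
  set k := -(f₁ r r / 2) with hk
  set b := e + r + k • a with hbdef
  have hbb : f₁ b b = 0 := by
    simp only [hbdef, hf.addL, hf.addR, hf.smulL, hf.smulR, haa, hee, hae, hra, hre, hf.comm a e,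
      hf.comm r a, hf.comm r e]
    have := hf.two
    rw [hk]
    field_simp
    ring
  have hrb : f₁ r b = f₁ r r := by simp [hbdef, hf.addR, hf.smulR, hra, hre]
  -- a second adapted frame of the first factor
  set k' := -(f₁ r r) / 2 with hk'
  have hab : f₁ b a = 1 := by
    simp [hbdef, hf.addL, hf.smulL, haa, hra, hf.comm a e, hae]
  set r' := r + (-(f₁ r r)) • a with hr'
  obtain ⟨-, -, hbs⟩ := D.Xw_side hroot (a := b) (e := a) (r := r') hbb hab
    (by simp only [hr', hf.addL, hf.smulL, hrb, hf.comm b a, hab]; ring)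
    (by simp only [hr', hf.addL, hf.smulL, hra, haa]; ring)
    (by simp only [hr', hf.addL, hf.addR, hf.smulL, hf.smulR, hra, hf.comm r a, haa]; simpa using hr) hb
  have hts : ∀ l (c : F), Xw Q M (tens a v) (tens (c • b) (t l)) := fun l c => by
    obtain ⟨-, hg⟩ := hbs (c / f₁ r r) (t l)
    have hx := hrs 1 v'
    rw [one_smul] at hx
    have hgB : QuadraticMap.polar Q (tens ((c / f₁ r r) • b) (t l)) (tens b v) = 0 := by
      rw [D.tensB, hb.tv, mul_zero]
    have hgv : ∀ u s, (sieg Q (tens b v) (tens ((c / f₁ r r) • b) (t l)) : Big) *ᵥ tens u s = tens u s +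
        (f₁ u b * f₂ s v) • tens ((c / f₁ r r) • b) (t l) -
          (c / f₁ r r * f₁ u b * f₂ s (t l)) • tens b v := fun u s => by
      rw [sieg_mulVec D.form (D.Q_tens b hb.vv) hgB, D.tensB, D.tensB,
        D.Q_tens' (u := (c / f₁ r r) • b) (hf.iso_smul hbb _), hf.smulR]
      module
    have h1 := D.Xw_conj hQ hx hg (by rw [hgv, hb.vv, hf2.comm (t l) v, hb.tv]; simp)
    rw [hgv] at h1
    have h2 := D.Xw_add hQ h1 (D.Xw_neg hQ hx)
    convert h2 using 1
    rw [hb.v'v hf2, hf2.comm (t l) v', hb.tv', hrb, mul_one, mul_zero, zero_smul, sub_zero, ← tens_smul_left,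
      smul_smul, mul_div_cancel₀ _ hr]
    abel
  -- the orthogonal is covered
  refine ⟨hQ, fun x hx => ?_⟩
  suffices Xw Q M (tens a v) x from this.2
  rw [D.B_left] at hx
  set p := ctr (formVec f₂ v) x
  have hfr : ∀ u : Fin 3 → F, u = f₁ u e • a + f₁ u a • e + (f₁ u r / f₁ r r) • r := fun u => by
    set s := u - (f₁ u e • a + f₁ u a • e + (f₁ u r / f₁ r r) • r) with hs
    rw [← sub_eq_zero]
    have hsa : f₁ s a = 0 := by
      simp [hs, hf.subL, hf.addL, hf.smulL, haa, hra, hf.comm a e, hae]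
    have hse : f₁ s e = 0 := by simp [hs, hf.subL, hf.addL, hf.smulL, hae, hee, hre]
    have hsr : f₁ s r = 0 := by
      simp [hs, hf.subL, hf.addL, hf.smulL, hf.comm r a, hra, hf.comm r e, hre, div_mul_cancel₀ _ hr]
    have hli : LinearIndependent F ![a, e, r] := by
      rw [Fintype.linearIndependent_iff]
      intro c hc
      simp only [Fin.sum_univ_three, Matrix.cons_val_zero, Matrix.cons_val_one, Matrix.cons_val_two,
        Matrix.tail_cons, Matrix.head_cons] at hc
      have h1 := congrArg (fun z => f₁ z e) hc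
      have h2 := congrArg (fun z => f₁ z a) hc
      have h3 := congrArg (fun z => f₁ z r) hc
      simp [hf.addL, hf.smulL, hf.zeroL, hae, hee, hre] at h1
      simp [hf.addL, hf.smulL, hf.zeroL, haa, hf.comm a e, hae, hra] at h2
      simp [hf.addL, hf.smulL, hf.zeroL, hf.comm r a, hra, hf.comm r e, hre, hr] at h3
      intro i
      fin_cases i <;> assumption
    have hsp : Submodule.span F (Set.range ![a, e, r]) = ⊤ := Submodule.eq_top_of_finrank_eq (by
      rw [finrank_span_eq_card hli, Fintype.card_fin, Module.finrank_fin_fun])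
    refine hf.eq_zero fun z => ?_
    have hz : z ∈ Submodule.span F (Set.range ![a, e, r]) := by rw [hsp]; trivial
    obtain ⟨c, rfl⟩ := (Submodule.mem_span_range_iff_exists_fun F).1 hz
    simp only [Fin.sum_univ_three, Matrix.cons_val_zero, Matrix.cons_val_one, Matrix.cons_val_two,
      Matrix.tail_cons, Matrix.head_cons, hf.addL, hf.smulL]
    rw [hf.comm s a, hf.comm s e, hf.comm s r, hsa, hse, hsr]
    ring
  have hQa : ∀ (u : Fin 3 → F) l, Xw Q M (tens a v) (tens u (t l)) := fun u l => by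
    have e1 : u = (f₁ u e - f₁ u a * k) • a + f₁ u a • b + (f₁ u r / f₁ r r - f₁ u a) • r := by
      conv_lhs => rw [hfr u]
      rw [hbdef]
      module
    rw [e1, tens_add_left, tens_add_left]
    exact D.Xw_add hQ (D.Xw_add hQ (has _ _) (hts l _)) (hrs _ _)
  rw [D.expand hb x]
  refine D.Xw_add hQ (D.Xw_add hQ (h0 _) ?_) (D.Xw_add hQ (hQa _ 0) (hQa _ 1))
  show Xw Q M _ (tens p v')
  rw [hfr p, hx, zero_smul, add_zero, tens_add_left]
  exact D.Xw_add hQ (has _ _) (hrs _ _)

/-- All Siegel transformations. -/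
theorem omega_le_of_roots : Cfsg.Geo.omegaGL Q ≤ M := by
  have hf := D.s1
  have hb2 := D.form.polar_bilinear
  obtain ⟨a, ha, haa⟩ := hf.exists_iso (by omega)
  obtain ⟨e, hee, hea⟩ := hf.exists_hyperbolic ha haa
  have hae : f₁ a e = 1 := by rw [hf.comm]; exact hea
  obtain ⟨v, hv, hvv⟩ := D.s2.exists_iso (by omega)
  obtain ⟨v', t, hb⟩ := exists_hb D.s2 D.minus hv hvv
  obtain ⟨v'', t', hb'⟩ := exists_hb D.s2 D.minus (hb.ne_v' D.s2) hb.v'v'
  obtain ⟨r0, hr0, hr0s⟩ := hf.exists_perp (⊥ : Submodule F (Fin 3 → F)) ![a, e] (by rw [finrank_bot]; omega)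
  have hra : f₁ r0 a = 0 := hr0s 0
  have hre : f₁ r0 e = 0 := hr0s 1
  have hr : f₁ r0 r0 ≠ 0 := fun h0 => hr0 (by
    obtain ⟨p, hp, hpp⟩ := hf.exists_aniso ![a, e] (z := r0) hr0s fun hm => hr0 (by
      obtain ⟨c, hc⟩ := (Submodule.mem_span_range_iff_exists_fun F).1 hm
      simp only [Fin.sum_univ_two, Matrix.cons_val_zero, Matrix.cons_val_one] at hc
      rw [← hc] at hra hre
      simp [hf.addL, hf.smulL, haa, hea] at hra
      simp [hf.addL, hf.smulL, hae, hee] at hre
      rw [Submodule.mem_bot, ← hc, hra, hre, zero_smul, zero_smul, add_zero])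
    have hli : LinearIndependent F ![a, e, p] := by
      rw [Fintype.linearIndependent_iff]
      intro c hc
      simp only [Fin.sum_univ_three, Matrix.cons_val_zero, Matrix.cons_val_one, Matrix.cons_val_two,
        Matrix.tail_cons, Matrix.head_cons] at hc
      have h1 := congrArg (fun z => f₁ z e) hc
      have h2 := congrArg (fun z => f₁ z a) hc
      have h3 := congrArg (fun z => f₁ z p) hc
      simp [hf.addL, hf.smulL, hf.zeroL, hae, hee, show f₁ p e = 0 from hp 1] at h1
      simp [hf.addL, hf.smulL, hf.zeroL, haa, hea, show f₁ p a = 0 from hp 0] at h2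
      simp [hf.addL, hf.smulL, hf.zeroL, hf.comm p a, hf.comm p e, show f₁ p a = 0 from hp 0,
        show f₁ p e = 0 from hp 1, hpp] at h3
      intro i
      fin_cases i <;> assumption
    have hsp : Submodule.span F (Set.range ![a, e, p]) = ⊤ := Submodule.eq_top_of_finrank_eq (by
      rw [finrank_span_eq_card hli, Fintype.card_fin, Module.finrank_fin_fun])
    have hm : r0 ∈ Submodule.span F (Set.range ![a, e, p]) := by rw [hsp]; trivial
    obtain ⟨c, hc⟩ := (Submodule.mem_span_range_iff_exists_fun F).1 hm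
    simp only [Fin.sum_univ_three, Matrix.cons_val_zero, Matrix.cons_val_one, Matrix.cons_val_two,
      Matrix.tail_cons, Matrix.head_cons] at hc
    rw [← hc] at hra hre h0
    simp [hf.addL, hf.smulL, haa, hea, show f₁ p a = 0 from hp 0] at hra
    simp [hf.addL, hf.smulL, hae, hee, show f₁ p e = 0 from hp 1] at hre
    simp [hra, hre, hf.smulL, hf.smulR, hpp] at h0
    rw [Submodule.mem_bot, ← hc, hra, hre, h0]
    simp)
  set W := tens a v
  set W' := tens e v'
  have hW : Full Q M W := D.full_pure hroot haa hee hae hra hre hr hb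
  have hW' : Full Q M W' := D.full_pure hroot hee haa hea hre hra hr hb'
  have hWW : QuadraticMap.polar Q W W' = 1 := by rw [D.tensB, hae, hb.vv', one_mul]
  have hWW' : QuadraticMap.polar Q W' W = 1 := by rw [QuadraticMap.polar_comm Q, hWW]
  -- a singular vector not orthogonal to a full one with a full partner
  have hmove : ∀ {x y z}, Full Q M y → Full Q M x → Q z = 0 → QuadraticMap.polar Q x y = 1 →
      QuadraticMap.polar Q z y ≠ 0 → Full Q M z := fun {x y z} hy hx hz hxy hzy => by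
    have h1 := full_move D.form hy hx (z := (QuadraticMap.polar Q z y)⁻¹ • z)
      (by rw [D.form.smul, hz, mul_zero]) hxy (by rw [hb2.smul_left, inv_mul_cancel₀ hzy])
    have h2 := full_smul D.form h1 (QuadraticMap.polar Q z y)
    rwa [smul_inv_smul₀ hzy] at h2
  refine omega_le_of_full D.form card_pos fun z hz => ?_
  by_cases h1 : QuadraticMap.polar Q z W = 0
  swap
  · exact hmove hW hW' hz hWW' h1
  by_cases h2 : QuadraticMap.polar Q z W' = 0
  swap
  · exact hmove hW' hW hz hWW h2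
  rcases eq_or_ne z 0 with rfl | hz0
  · simpa using full_smul D.form hW 0
  obtain ⟨s0, -, hs0⟩ := Cfsg.Agent.Lib.Subspaces.OrthForm.dual D.form (S := ⊥) (z := z) (by simpa using hz0)
  set s := s0 + (-(QuadraticMap.polar Q s0 W')) • W + (-(QuadraticMap.polar Q s0 W)) • W' with hs
  have hsW : QuadraticMap.polar Q s W = 0 := by
    rw [hs, hb2.add_left, hb2.add_left, hb2.smul_left, hb2.smul_left, hWW', B_self D.form, hW.1]; ring
  have hsW' : QuadraticMap.polar Q s W' = 0 := by
    rw [hs, hb2.add_left, hb2.add_left, hb2.smul_left, hb2.smul_left, hWW, B_self D.form, hW'.1]; ring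
  have hsz : QuadraticMap.polar Q s z = 1 := by
    rw [hs, hb2.add_left, hb2.add_left, hb2.smul_left, hb2.smul_left, hs0, QuadraticMap.polar_comm Q W z, h1,
      QuadraticMap.polar_comm Q W' z, h2]; ring
  set y := W' + s + (-(Q s)) • W with hy
  have hyQ : Q y = 0 := by
    rw [hy, Q_add_smul D.form, Q_add (Q := Q), hW.1, hW'.1, hb2.add_left, hWW', hsW,
      QuadraticMap.polar_comm Q W' s, hsW']; ring
  have hyW : QuadraticMap.polar Q y W = 1 := by
    rw [hy, hb2.add_left, hb2.add_left, hb2.smul_left, hWW', hsW, B_self D.form, hW.1]; ring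
  have hyF : Full Q M y := hmove hW hW' hyQ hWW' (by rw [hyW]; exact one_ne_zero)
  refine hmove hyF hW hz (by rw [QuadraticMap.polar_comm Q, hyW]) ?_
  rw [hy, hb2.add_right, hb2.add_right, hb2.smul_right, h1, h2, QuadraticMap.polar_comm Q z s, hsz]
  simp

end Data

/-- Either the group meets no radical outside the stabiliser or it contains `Ω`. -/
theorem Data.nr_or_le (D : Data f₁ f₂ Q M) : NR f₂ M ∨ Cfsg.Geo.omegaGL Q ≤ M := by
  by_cases h : NR f₂ M
  · exact Or.inl h
  · exact Or.inr (D.omega_le_of_roots fun hv hvv p q => D.roots h hv hvv p q)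

end Cfsg.Agent.Lib.OmegaTwelve.ThreeFour
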