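import Cfsg.Agent.Lib.OmegaTwelve.ThreeFour.Small

/-!
The three-dimensional symmetric space and the four-dimensional one without totally isotropic planes.
-/

set_option autoImplicit false
set_option linter.unusedSectionVars false

namespace Cfsg.Agent.Lib.OmegaTwelve.ThreeFour

open Matrix Module
open Cfsg.Agent.Lib.Subspaces.Transvection Cfsg.Agent.Lib.Subspaces.FormVec
  Cfsg.Agent.Lib.TensorFormMax.Basic Cfsg.Agent.Lib.TensorOrthMax.Side Cfsg.Agent.Lib.TensorOrthMax.Setup
  Cfsg.Agent.Lib.TensorOrthMax.InvariantOrth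

variable {F : Type*} [Field F]

theorem quot_ne {a b : F} (ha : a ≠ 0) (hb : b ≠ 0) : a / b ≠ 0 := div_ne_zero ha hb

theorem exists_sq_ne [Finite F] (h5 : 5 ≤ Nat.card F) (c : F) : ∃ t : F, t ≠ 0 ∧ t * t ≠ c := by
  classical
  have := Fintype.ofFinite F
  rw [Nat.card_eq_fintype_card] at h5
  by_contra hc
  push Not at hc
  have hsub : (Finset.univ : Finset F) ⊆ (Polynomial.X ^ 3 - Polynomial.C c * Polynomial.X).roots.toFinset := by
    intro t _
    rw [Multiset.mem_toFinset, Polynomial.mem_roots]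
    · by_cases ht : t = 0
      · simp [ht]
      · simp only [Polynomial.IsRoot, Polynomial.eval_sub, Polynomial.eval_pow, Polynomial.eval_X,
          Polynomial.eval_mul, Polynomial.eval_C]
        linear_combination t * hc t ht
    · exact fun e => by
        have := congrArg (fun p => p.coeff 3) e
        simp [Polynomial.coeff_X] at this
  have h1 := (Finset.card_le_card hsub).trans (Multiset.toFinset_card_le _)
  have h2 := h1.trans (Polynomial.card_roots' _)
  have h3 : (Polynomial.X ^ 3 - Polynomial.C c * Polynomial.X).natDegree ≤ 3 := by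
    refine (Polynomial.natDegree_sub_le _ _).trans (max_le ?_ ?_)
    · simp
    · exact (Polynomial.natDegree_mul_le).trans (by simp)
  rw [Finset.card_univ] at h2
  omega

/-- Two vectors which span a space with few isotropic vectors contain one when the discriminant allows. -/
theorem exists_iso_of_square {n : ℕ} {f : (Fin n → F) → (Fin n → F) → F} (hf : Sym f) {x x' : Fin n → F}
    (hp : Pair f x x') (h : IsSquare (-(f x x * f x' x'))) :
    ∃ v, v ∈ Submodule.span F {x, x'} ∧ v ≠ 0 ∧ f v v = 0 := by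
  obtain ⟨r, hr⟩ := h
  refine ⟨r • x + f x x • x', ?_, fun e => ?_, ?_⟩
  · exact Submodule.mem_span_pair.2 ⟨r, f x x, rfl⟩
  · have h1 := congrArg (fun w => f w x') e
    simp only [hf.addL, hf.smulL, hp.orth, hf.zeroL, mul_zero, zero_add] at h1
    exact mul_ne_zero hp.ne hp.ne' h1
  · simp only [hf.addL, hf.addR, hf.smulL, hf.smulR, hp.orth, hf.comm x x']
    linear_combination (-(f x x)) * hr

section three

variable {f : (Fin 3 → F) → (Fin 3 → F) → F}

/-- The half-turn about an anisotropic axis. -/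
def hu (f : (Fin 3 → F) → (Fin 3 → F) → F) (u : Fin 3 → F) : Matrix (Fin 3) (Fin 3) F := -refl f u

variable (hf : Sym f) {u : Fin 3 → F} (hu0 : f u u ≠ 0)
include hf hu0

theorem hu_mulVec (y : Fin 3 → F) : hu f u *ᵥ y = (2 / f u u * f y u) • u - y := by
  rw [hu, neg_mulVec, refl_mulVec hf, neg_sub]

theorem hu_self : hu f u *ᵥ u = u := by rw [hu, neg_mulVec, refl_self hf hu0, neg_neg]

theorem hu_perp {y : Fin 3 → F} (h : f y u = 0) : hu f u *ᵥ y = -y := by
  rw [hu, neg_mulVec, refl_fix hf h]

theorem hu_iso : Iso f (hu f u) := (iso_refl hf hu0).neg hf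

theorem hu_mul_self : hu f u * hu f u = 1 := by rw [hu, neg_mul_neg, refl_mul_self hf hu0]

variable [Finite F]

theorem hu_det : (hu f u).det = 1 := by
  rw [hu, det_neg, det_refl hf hu0, Fintype.card_fin]; ring

theorem hu_trace : (hu f u).trace = -1 := by
  obtain ⟨e, he, hex⟩ := exists_extend hf (e := fun _ : Fin 1 => u)
    ⟨fun i j h => absurd (Subsingleton.elim i j) h, fun _ => hu0⟩ (by omega : 1 ≤ 3)
  have h0 : e 0 = u := hex 0
  have h := (det_eig hf he (b := hu f u) (ε := ![1, -1, -1]) fun i => by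
    fin_cases i
    · simp [h0, hu_self hf hu0]
    · simp [hu_perp hf hu0 (h0 ▸ he.orth 1 0 (by decide))]
    · simp [hu_perp hf hu0 (h0 ▸ he.orth 2 0 (by decide))]).2
  rw [h, Fin.sum_univ_three]
  simp

end three

section threeNormal

variable [Finite F] {f : (Fin 3 → F) → (Fin 3 → F) → F} (hf : Sym f)
include hf

/-- An involutive rotation is trivial or a half-turn. -/
theorem eq_hu {a : Matrix (Fin 3) (Fin 3) F} (ha : Iso f a) (haa : a * a = 1) (hd : a.det = 1) :
    a = 1 ∨ ∃ u, f u u ≠ 0 ∧ a = hu f u := by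
  obtain ⟨e, ε, he, hε, hae⟩ := exists_eig_frame hf ha haa
  have hdet := (det_eig hf he hae).1
  rw [hd, Fin.prod_univ_three] at hdet
  have key : ∀ i, ε i = 1 → (∀ j, j ≠ i → ε j = -1) → ∃ u, f u u ≠ 0 ∧ a = hu f u := fun i hi hj =>
    ⟨e i, he.ne i, he.mat_ext hf fun j => by
      rcases eq_or_ne j i with rfl | h
      · rw [hae, hi, one_smul, hu_self hf (he.ne j)]
      · rw [hae, hj j h, neg_one_smul, hu_perp hf (he.ne i) (he.orth j i h)]⟩
  have hne : (1 : F) ≠ -1 := fun e => hf.two (by linear_combination e)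
  rcases hε 0 with h0 | h0 <;> rcases hε 1 with h1 | h1 <;> rcases hε 2 with h2 | h2 <;>
    simp only [h0, h1, h2] at hdet
  · exact Or.inl (he.mat_ext hf fun j => by fin_cases j <;> simp [hae, h0, h1, h2])
  · exact absurd (by simpa using hdet) hne
  · exact absurd (by simpa using hdet) hne
  · exact Or.inr (key 0 h0 fun j hj => by fin_cases j <;> first | exact absurd rfl hj | assumption)
  · exact absurd (by simpa using hdet) hne
  · exact Or.inr (key 1 h1 fun j hj => by fin_cases j <;> first | exact absurd rfl hj | assumption)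
  · exact Or.inr (key 2 h2 fun j hj => by fin_cases j <;> first | exact absurd rfl hj | assumption)
  · exact absurd (by simpa using hdet) hne

/-- A unipotent isometry fixing an anisotropic vector is trivial. -/
theorem eq_one_of_fix {a : Matrix (Fin 3) (Fin 3) F} (ha : Iso f a) {u : Fin 3 → F} (hu0 : f u u ≠ 0)
    (hau : a *ᵥ u = u) {N : ℕ} (hN : (a - 1) ^ N = 0) : a = 1 := by
  classical
  by_contra hne
  -- the last non-zero iterate on a vector orthogonal to `u`
  have hperp : ∀ y, f y u = 0 → f (a *ᵥ y) u = 0 := fun y hy => by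
    conv_lhs => rw [← hau]
    rw [ha, hy]
  obtain ⟨y, hyu, hy⟩ : ∃ y, f y u = 0 ∧ (a - 1) *ᵥ y ≠ 0 := by
    by_contra hc
    push Not at hc
    refine hne (sub_eq_zero.1 (Matrix.mulVec_injective (funext fun z => ?_)))
    have h1 := hc (z - (f z u / f u u) • u) (by rw [hf.subL, hf.smulL, div_mul_cancel₀ _ hu0, sub_self])
    rw [mulVec_sub, mulVec_smul, sub_mulVec _ _ u, hau, one_mulVec, sub_self, smul_zero, sub_zero] at h1
    rw [h1, zero_mulVec]
  have hpow : ∀ i, f (((a - 1) ^ i) *ᵥ y) u = 0 := by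
    intro i
    induction i with
    | zero => rwa [pow_zero, one_mulVec]
    | succ i ih => rw [pow_succ', ← mulVec_mulVec, sub_mulVec, one_mulVec, hf.subL, hperp _ ih, ih, sub_zero]
  have hex : ∃ i, ((a - 1) ^ (i + 1)) *ᵥ y = 0 := ⟨N, by rw [pow_succ, hN, zero_mul, zero_mulVec]⟩
  set i := Nat.find hex with hi
  have hi0 : i ≠ 0 := fun e => hy (by
    have := Nat.find_spec hex
    rw [← hi, e, zero_add, pow_one] at this
    exact this)
  obtain ⟨k, hk⟩ := Nat.exists_eq_succ_of_ne_zero hi0
  set w := ((a - 1) ^ k) *ᵥ y with hw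
  set l := ((a - 1) ^ (k + 1)) *ᵥ y with hl
  have hl0 : l ≠ 0 := Nat.find_min hex (show k < i by omega)
  have hal : a *ᵥ l = l := by
    have h1 := Nat.find_spec hex
    rw [← hi, hk, Nat.succ_eq_add_one, pow_succ', ← mulVec_mulVec, ← hl, sub_mulVec, one_mulVec] at h1
    exact sub_eq_zero.1 h1
  have haw : a *ᵥ w = w + l := by
    rw [hl, pow_succ', ← mulVec_mulVec, ← hw, sub_mulVec, one_mulVec, add_sub_cancel]
  have hll : f l l = 0 := by
    have h1 := ha l w
    rw [hal, haw, hf.addR] at h1
    linear_combination h1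
  have hlw : f l w = 0 := by
    have h1 := ha w w
    rw [haw, hf.addL, hf.addR, hf.addR, hll, hf.comm l w] at h1
    exact (mul_eq_zero.1 (show (2 : F) * f l w = 0 by linear_combination h1)).resolve_left hf.two
  -- `u`, `w`, `l` span
  refine hl0 (hf.eq_zero fun z => ?_)
  have hli : LinearIndependent F ![u, w, l] := by
    rw [Fintype.linearIndependent_iff]
    intro c hc
    simp only [Fin.sum_univ_three, Matrix.cons_val_zero, Matrix.cons_val_one, Matrix.cons_val_two,
      Matrix.tail_cons, Matrix.head_cons] at hc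
    have h1 := congrArg (fun v => f v u) hc
    simp only [hf.addL, hf.smulL, hf.zeroL, hpow k, hw, hl, hpow (k + 1), mul_zero, add_zero] at h1
    have hc0 := (mul_eq_zero.1 h1).resolve_right hu0
    rw [hc0, zero_smul, zero_add] at hc
    have h2 := congrArg (fun v => (a - 1) *ᵥ v) hc
    simp only [mulVec_add, mulVec_smul, sub_mulVec, one_mulVec, haw, hal, add_sub_cancel_left, sub_self,
      smul_zero, add_zero, mulVec_zero] at h2
    have hc1 := (smul_eq_zero.1 h2).resolve_right hl0
    rw [hc1, zero_smul, zero_add] at hc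
    have hc2 := (smul_eq_zero.1 hc).resolve_right hl0
    intro i
    fin_cases i <;> assumption
  have hsp : Submodule.span F (Set.range ![u, w, l]) = ⊤ := Submodule.eq_top_of_finrank_eq (by
    rw [finrank_span_eq_card hli, Fintype.card_fin, Module.finrank_fin_fun])
  have hz : z ∈ Submodule.span F (Set.range ![u, w, l]) := by rw [hsp]; trivial
  obtain ⟨c, rfl⟩ := (Submodule.mem_span_range_iff_exists_fun F).1 hz
  simp only [Fin.sum_univ_three, Matrix.cons_val_zero, Matrix.cons_val_one, Matrix.cons_val_two,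
    Matrix.tail_cons, Matrix.head_cons, hf.addL, hf.smulL]
  rw [hf.comm l u, show f l u = 0 from hpow (k + 1), hf.comm l w, hlw, hll]
  ring

end threeNormal

section four

variable {f : (Fin 4 → F) → (Fin 4 → F) → F}

/-- No totally isotropic plane. -/
def Minus (f : (Fin 4 → F) → (Fin 4 → F) → F) : Prop :=
  ∀ v w, v ≠ 0 → f v v = 0 → f w w = 0 → f w v = 0 → w ∈ Submodule.span F {v}

variable [Finite F] (hf : Sym f)
include hf

theorem trace_beta {x x' : Fin 4 → F} (hp : Pair f x x') : (beta f x x').trace = 0 := by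
  obtain ⟨e, he, hex⟩ := exists_extend hf (e := ![x, x'])
    ⟨fun i j h => by
      fin_cases i <;> fin_cases j <;> first | exact absurd rfl h | exact hp.orth |
        exact (hf.comm _ _).trans hp.orth,
     fun i => by fin_cases i <;> [exact hp.ne; exact hp.ne']⟩ (by omega : 2 ≤ 4)
  have h0 : e 0 = x := hex 0
  have h1 : e 1 = x' := hex 1
  have h := (det_eig hf he (b := beta f x x') (ε := ![-1, -1, 1, 1]) fun i => by
    fin_cases i
    · simp [h0, beta_self hf hp]
    · simp [h1, beta_self' hf hp]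
    · simp [beta_fix hf hp (h0 ▸ he.orth 2 0 (by decide)) (h1 ▸ he.orth 2 1 (by decide))]
    · simp [beta_fix hf hp (h0 ▸ he.orth 3 0 (by decide)) (h1 ▸ he.orth 3 1 (by decide))]).2
  rw [h, Fin.sum_univ_four]
  simp

theorem pair_of_frame {e : Fin 4 → Fin 4 → F} (he : Frame f e) {i j : Fin 4} (h : i ≠ j) :
    Pair f (e i) (e j) :=
  ⟨he.ne i, he.ne j, he.orth i j h⟩

/-- An involution of determinant one is central or a product of two commuting reflections. -/
theorem eq_beta {b : Matrix (Fin 4) (Fin 4) F} (hb : Iso f b) (hbb : b * b = 1) (hd : b.det = 1) :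
    b = 1 ∨ b = -1 ∨ ∃ x x', Pair f x x' ∧ b = beta f x x' := by
  obtain ⟨e, ε, he, hε, hbe⟩ := exists_eig_frame hf hb hbb
  have hdet := (det_eig hf he hbe).1
  rw [hd, Fin.prod_univ_four] at hdet
  have key : ∀ i j, i ≠ j → ε i = -1 → ε j = -1 → (∀ l, l ≠ i → l ≠ j → ε l = 1) →
      ∃ x x', Pair f x x' ∧ b = beta f x x' := fun i j hij hi hj hl =>
    ⟨e i, e j, pair_of_frame hf he hij, he.mat_ext hf fun l => by
      by_cases h : l = i
      · subst h; rw [hbe, hi, neg_one_smul, beta_self hf (pair_of_frame hf he hij)]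
      by_cases h' : l = j
      · subst h'; rw [hbe, hj, neg_one_smul, beta_self' hf (pair_of_frame hf he hij)]
      rw [hbe, hl l h h', one_smul,
        beta_fix hf (pair_of_frame hf he hij) (he.orth l i h) (he.orth l j h')]⟩
  have hne : (1 : F) ≠ -1 := fun e => hf.two (by linear_combination e)
  rcases hε 0 with h0 | h0 <;> rcases hε 1 with h1 | h1 <;> rcases hε 2 with h2 | h2 <;>
    rcases hε 3 with h3 | h3 <;> simp only [h0, h1, h2, h3] at hdet
  all_goals first
    | (refine Or.inl (he.mat_ext hf fun j => ?_); fin_cases j <;> simp [hbe, h0, h1, h2, h3]; done)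
    | (refine Or.inr (Or.inl (he.mat_ext hf fun j => ?_)); fin_cases j <;> simp [hbe, h0, h1, h2, h3, neg_mulVec]; done)
    | (refine Or.inr (Or.inr (key 0 1 (by decide) h0 h1 fun l hl hl' => ?_)); fin_cases l <;> first | exact absurd rfl hl | exact absurd rfl hl' | assumption)
    | (refine Or.inr (Or.inr (key 0 2 (by decide) h0 h2 fun l hl hl' => ?_)); fin_cases l <;> first | exact absurd rfl hl | exact absurd rfl hl' | assumption)
    | (refine Or.inr (Or.inr (key 0 3 (by decide) h0 h3 fun l hl hl' => ?_)); fin_cases l <;> first | exact absurd rfl hl | exact absurd rfl hl' | assumption)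
    | (refine Or.inr (Or.inr (key 1 2 (by decide) h1 h2 fun l hl hl' => ?_)); fin_cases l <;> first | exact absurd rfl hl | exact absurd rfl hl' | assumption)
    | (refine Or.inr (Or.inr (key 1 3 (by decide) h1 h3 fun l hl hl' => ?_)); fin_cases l <;> first | exact absurd rfl hl | exact absurd rfl hl' | assumption)
    | (refine Or.inr (Or.inr (key 2 3 (by decide) h2 h3 fun l hl hl' => ?_)); fin_cases l <;> first | exact absurd rfl hl | exact absurd rfl hl' | assumption)
    | (exfalso; apply hne; linear_combination hdet)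
    | (exfalso; apply hne; linear_combination (-1 : F) * hdet)

/-- The complementary pair: one of the two planes has an isotropic vector. -/
theorem exists_compl (hm : Minus f) {x x' : Fin 4 → F} (hp : Pair f x x') :
    ∃ y y', Pair f y y' ∧ beta f x x' = -beta f y y' ∧
      ((∃ v ∈ Submodule.span F {x, x'}, v ≠ 0 ∧ f v v = 0) ∨
        (∃ v ∈ Submodule.span F {y, y'}, v ≠ 0 ∧ f v v = 0)) := by
  obtain ⟨e, he, hex⟩ := exists_extend hf (e := ![x, x'])
    ⟨fun i j h => by
      fin_cases i <;> fin_cases j <;> first | exact absurd rfl h | exact hp.orth |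
        exact (hf.comm _ _).trans hp.orth,
     fun i => by fin_cases i <;> [exact hp.ne; exact hp.ne']⟩ (by omega : 2 ≤ 4)
  have h0 : e 0 = x := hex 0
  have h1 : e 1 = x' := hex 1
  have hq := pair_of_frame hf he (show (2 : Fin 4) ≠ 3 by decide)
  refine ⟨e 2, e 3, hq, he.mat_ext hf fun i => ?_, ?_⟩
  · rw [neg_mulVec]
    fin_cases i
    · simp [h0, beta_self hf hp, beta_fix hf hq (h0 ▸ he.orth 0 2 (by decide)) (h0 ▸ he.orth 0 3 (by decide))]
    · simp [h1, beta_self' hf hp, beta_fix hf hq (h1 ▸ he.orth 1 2 (by decide)) (h1 ▸ he.orth 1 3 (by decide))]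
    · simp [beta_self hf hq, beta_fix hf hp (h0 ▸ he.orth 2 0 (by decide)) (h1 ▸ he.orth 2 1 (by decide))]
    · simp [beta_self' hf hq, beta_fix hf hp (h0 ▸ he.orth 3 0 (by decide)) (h1 ▸ he.orth 3 1 (by decide))]
  by_cases hx : IsSquare (-(f x x * f x' x'))
  · exact Or.inl (exists_iso_of_square hf hp hx)
  by_cases hy : IsSquare (-(f (e 2) (e 2) * f (e 3) (e 3)))
  · exact Or.inr (exists_iso_of_square hf hq hy)
  exfalso
  set y := e 2
  set y' := e 3
  have hxy : f x y = 0 := h0 ▸ he.orth 0 2 (by decide)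
  have hxy' : f x y' = 0 := h0 ▸ he.orth 0 3 (by decide)
  have hx'y : f x' y = 0 := h1 ▸ he.orth 1 2 (by decide)
  have hx'y' : f x' y' = 0 := h1 ▸ he.orth 1 3 (by decide)
  obtain ⟨p, q, hpq⟩ := Cfsg.Agent.Lib.Subspaces.UnitaryForm.exists_quad_root (f x x) (f y y) (f y' y')
    hq.ne hq.ne'
  obtain ⟨r, hr⟩ := Cfsg.Agent.Lib.TensorOrthMax.InvariantOrth.nonsquare_mul hf.two hx hy
  set w := p • y + q • y' with hw
  set w' := (-(q * f y' y')) • y + (p * f y y) • y' with hw'
  have hd : f x x * f y y * f y' y' ≠ 0 := mul_ne_zero (mul_ne_zero hp.ne hq.ne) hq.ne'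
  refine hp.ne' ?_
  have hww : f (x + w) (x + w) = 0 := by
    simp only [hw, hf.addL, hf.addR, hf.smulL, hf.smulR, hf.comm x y, hf.comm x y', hxy, hxy', hq.orth,
      hf.comm y y']
    linear_combination hpq
  set s := r / (f x x * f y y * f y' y') with hs
  have hww' : f (x' + s • w') (x' + s • w') = 0 := by
    have key : f (x' + s • w') (x' + s • w') = f x' x' + s * s * (f y y * f y' y' * (-f x x)) := by
      simp only [hw', hf.addL, hf.addR, hf.smulL, hf.smulR, hf.comm x' y, hf.comm x' y', hx'y, hx'y',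
        hq.orth, hf.comm y y']
      linear_combination s * s * f y y * f y' y' * hpq
    have h3 : s * s * (f x x * f y y * f y' y') = r * r / (f x x * f y y * f y' y') := by
      rw [hs]; field_simp
    have h4 : r * r / (f x x * f y y * f y' y') = f x' x' := by
      rw [div_eq_iff hd]; linear_combination -hr
    rw [key]
    linear_combination -h3 - h4
  have hcross : f (x' + s • w') (x + w) = 0 := by
    simp only [hw, hw', hf.addL, hf.addR, hf.smulL, hf.smulR, hf.comm x x', hp.orth, hx'y, hx'y',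
      hf.comm x y, hf.comm x y', hxy, hxy', hq.orth, hf.comm y y']
    ring
  obtain ⟨c, hc⟩ := Submodule.mem_span_singleton.1 (hm _ _ (fun e0 => hp.ne (by
    have h := congrArg (fun v => f v x) e0
    simpa only [hw, hf.addL, hf.smulL, hf.comm x y, hf.comm x y', hxy, hxy', mul_zero, add_zero, hf.zeroL]
      using h)) hww hww' hcross)
  have h := congrArg (fun v => f v x') hc
  simp only [hw, hw', hf.addL, hf.smulL, hp.orth, hf.comm x' y, hf.comm x' y', hx'y, hx'y', mul_zero,
    add_zero] at h
  exact h.symm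

end four

/-- A frame adapted to an isotropic vector of the four-dimensional space. -/
structure HB (f : (Fin 4 → F) → (Fin 4 → F) → F) (v v' : Fin 4 → F) (t : Fin 2 → Fin 4 → F) : Prop where
  vv : f v v = 0
  v'v' : f v' v' = 0
  vv' : f v v' = 1
  tne : ∀ l, f (t l) (t l) ≠ 0
  torth : f (t 0) (t 1) = 0
  tv : ∀ l, f (t l) v = 0
  tv' : ∀ l, f (t l) v' = 0
  aniso : ∀ c : Fin 2 → F, ∑ l, c l * c l * f (t l) (t l) = 0 → c = 0

section hb

variable {f : (Fin 4 → F) → (Fin 4 → F) → F} (hf : Sym f)
include hf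

theorem exists_hb [Finite F] (hm : Minus f) {v : Fin 4 → F} (hv : v ≠ 0) (hvv : f v v = 0) :
    ∃ v' t, HB f v v' t := by
  obtain ⟨v', hv'v', hv'v⟩ := hf.exists_hyperbolic hv hvv
  have hvv' : f v v' = 1 := by rw [hf.comm]; exact hv'v
  have hp : Pair f (v + v') (v - v') := by
    refine ⟨?_, ?_, ?_⟩
    · rw [hf.addL, hf.addR, hf.addR, hvv, hv'v', hvv', hv'v, zero_add, add_zero, one_add_one_eq_two]
      exact hf.two
    · rw [hf.subL, hf.subR, hf.subR, hvv, hv'v', hvv', hv'v]
      rw [show (0 : F) - 1 - (1 - 0) = -2 by ring]; exact neg_ne_zero.2 hf.two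
    · rw [hf.addL, hf.subR, hf.subR, hvv, hv'v', hvv', hv'v]; ring
  obtain ⟨e, he, hex⟩ := exists_extend hf (e := ![v + v', v - v'])
    ⟨fun i j h => by
      fin_cases i <;> fin_cases j <;> first | exact absurd rfl h | exact hp.orth |
        exact (hf.comm _ _).trans hp.orth,
     fun i => by fin_cases i <;> [exact hp.ne; exact hp.ne']⟩ (by omega : 2 ≤ 4)
  have hperp : ∀ i : Fin 4, i ≠ 0 → i ≠ 1 → f (e i) v = 0 ∧ f (e i) v' = 0 := fun i h0 h1 => by
    have a := he.orth i 0 h0
    have b := he.orth i 1 h1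
    rw [show e 0 = v + v' from hex 0, hf.addR] at a
    rw [show e 1 = v - v' from hex 1, hf.subR] at b
    exact ⟨(mul_eq_zero.1 (show (2 : F) * f (e i) v = 0 by linear_combination a + b)).resolve_left hf.two,
      (mul_eq_zero.1 (show (2 : F) * f (e i) v' = 0 by linear_combination a - b)).resolve_left hf.two⟩
  obtain ⟨h2v, h2v'⟩ := hperp 2 (by decide) (by decide)
  obtain ⟨h3v, h3v'⟩ := hperp 3 (by decide) (by decide)
  refine ⟨v', ![e 2, e 3], ⟨hvv, hv'v', hvv', fun l => by fin_cases l <;> exact he.ne _,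
    he.orth 2 3 (by decide), fun l => by fin_cases l <;> assumption,
    fun l => by fin_cases l <;> assumption, fun c hc => ?_⟩⟩
  simp only [Fin.sum_univ_two, Matrix.cons_val_zero, Matrix.cons_val_one] at hc
  set w := c 0 • e 2 + c 1 • e 3 with hw
  have hww : f w w = 0 := by
    simp only [hw, hf.addL, hf.addR, hf.smulL, hf.smulR, he.orth 2 3 (by decide), he.orth 3 2 (by decide)]
    linear_combination hc
  have hwv : f w v = 0 := by simp [hw, hf.addL, hf.smulL, h2v, h3v]
  obtain ⟨a, ha⟩ := Submodule.mem_span_singleton.1 (hm v w hv hvv hww hwv)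
  have ha0 : a = 0 := by
    have := congrArg (fun z => f z v') ha
    simpa [hw, hf.addL, hf.smulL, h2v', h3v', hvv'] using this
  have h2' := congrArg (fun z => f z (e 2)) ha
  have h3' := congrArg (fun z => f z (e 3)) ha
  simp [ha0, hw, hf.addL, hf.smulL, hf.zeroL, he.orth 3 2 (by decide), he.ne 2] at h2'
  simp [ha0, hw, hf.addL, hf.smulL, hf.zeroL, he.orth 2 3 (by decide), he.ne 3] at h3'
  funext l
  fin_cases l <;> simp_all

variable {v v' : Fin 4 → F} {t : Fin 2 → Fin 4 → F}

theorem HB.t10 (h : HB f v v' t) : f (t 1) (t 0) = 0 := (hf.comm _ _).trans h.torth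

theorem HB.orth_t (h : HB f v v' t) {i j : Fin 2} (hij : i ≠ j) : f (t i) (t j) = 0 := by
  fin_cases i <;> fin_cases j <;> first | exact absurd rfl hij | exact h.torth | exact h.t10 hf

theorem HB.v'v (h : HB f v v' t) : f v' v = 1 := by rw [hf.comm]; exact h.vv'

theorem HB.ne_v (h : HB f v v' t) : v ≠ 0 := fun e => by
  have := h.vv'
  rw [e, hf.zeroL] at this
  exact zero_ne_one this

theorem HB.ne_v' (h : HB f v v' t) : v' ≠ 0 := fun e => by
  have := h.vv'
  rw [e, hf.zeroR] at this
  exact zero_ne_one this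

/-- Coordinates. -/
theorem HB.expand (h : HB f v v' t) (w : Fin 4 → F) :
    w = f w v' • v + f w v • v' + (f w (t 0) / f (t 0) (t 0)) • t 0 + (f w (t 1) / f (t 1) (t 1)) • t 1 := by
  set r := w - (f w v' • v + f w v • v' + (f w (t 0) / f (t 0) (t 0)) • t 0 +
    (f w (t 1) / f (t 1) (t 1)) • t 1) with hr
  rw [← sub_eq_zero]
  have hrv : f r v = 0 := by simp [hr, hf.subL, hf.addL, hf.smulL, h.vv, h.v'v hf, h.tv]
  have hrv' : f r v' = 0 := by simp [hr, hf.subL, hf.addL, hf.smulL, h.v'v', h.vv', h.tv']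
  have hrt : ∀ l, f r (t l) = 0 := fun l => by
    fin_cases l <;>
      simp [hr, hf.subL, hf.addL, hf.smulL, hf.comm (t 0) v, hf.comm (t 0) v', hf.comm (t 1) v,
        hf.comm (t 1) v', h.tv, h.tv', h.torth, h.t10 hf, h.tne, div_mul_cancel₀]
  have hli : LinearIndependent F ![v, v', t 0, t 1] := by
    rw [Fintype.linearIndependent_iff]
    intro c hc
    simp only [Fin.sum_univ_four, Matrix.cons_val_zero, Matrix.cons_val_one, Matrix.cons_val_two,
      Matrix.cons_val_three, Matrix.tail_cons, Matrix.head_cons] at hc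
    have a1 := congrArg (fun z => f z v') hc
    have a2 := congrArg (fun z => f z v) hc
    have a3 := congrArg (fun z => f z (t 0)) hc
    have a4 := congrArg (fun z => f z (t 1)) hc
    simp [hf.addL, hf.smulL, hf.zeroL, h.vv', h.v'v', h.tv'] at a1
    simp [hf.addL, hf.smulL, hf.zeroL, h.vv, h.v'v hf, h.tv] at a2
    simp [hf.addL, hf.smulL, hf.zeroL, hf.comm (t 0) v, hf.comm (t 0) v', h.tv, h.tv', h.t10 hf,
      h.tne] at a3
    simp [hf.addL, hf.smulL, hf.zeroL, hf.comm (t 1) v, hf.comm (t 1) v', h.tv, h.tv', h.torth,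
      h.tne] at a4
    intro i
    fin_cases i <;> assumption
  refine hf.eq_zero fun u => ?_
  have hsp : Submodule.span F (Set.range ![v, v', t 0, t 1]) = ⊤ := Submodule.eq_top_of_finrank_eq (by
    rw [finrank_span_eq_card hli, Fintype.card_fin, Module.finrank_fin_fun])
  have hu : u ∈ Submodule.span F (Set.range ![v, v', t 0, t 1]) := by rw [hsp]; trivial
  induction hu using Submodule.span_induction with
  | mem z hz =>
    obtain ⟨i, rfl⟩ := hz
    rw [hf.comm]
    fin_cases i
    · exact hrv
    · exact hrv'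
    · exact hrt 0
    · exact hrt 1
  | zero => exact hf.zeroL _
  | add a b _ _ ha hb => rw [hf.addL, ha, hb, add_zero]
  | smul c a _ ha => rw [hf.smulL, ha, mul_zero]

end hb

end Cfsg.Agent.Lib.OmegaTwelve.ThreeFour
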