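import Cfsg.Agent.Lib.TensorOrthMax.Setup
import Cfsg.Agent.Lib.TensorOrthMax.InvariantOrth

/-!
Orthogonal frames, involutive isometries and reflections of small symmetric spaces in odd characteristic.
-/

set_option autoImplicit false
set_option linter.unusedSectionVars false

namespace Cfsg.Agent.Lib.OmegaTwelve.ThreeFour

open Matrix Module
open Cfsg.Agent.Lib.Subspaces.Transvection Cfsg.Agent.Lib.Subspaces.FormVec
  Cfsg.Agent.Lib.TensorFormMax.Basic Cfsg.Agent.Lib.TensorOrthMax.Side
  Cfsg.Agent.Lib.TensorOrthMax.InvariantOrth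

variable {F : Type*} [Field F] {n : ℕ} {f : (Fin n → F) → (Fin n → F) → F}

local notation "Vec" => Fin n → F
local notation "Mat" => Matrix (Fin n) (Fin n) F

/-- The matrix preserves the form. -/
def Iso (f : (Fin n → F) → (Fin n → F) → F) (a : Matrix (Fin n) (Fin n) F) : Prop :=
  ∀ x y, f (a *ᵥ x) (a *ᵥ y) = f x y

/-- Pairwise orthogonal anisotropic vectors. -/
structure Frame {l : ℕ} (f : (Fin n → F) → (Fin n → F) → F) (e : Fin l → Fin n → F) : Prop where
  orth : ∀ i j, i ≠ j → f (e i) (e j) = 0
  ne : ∀ i, f (e i) (e i) ≠ 0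

theorem Frame.li {l : ℕ} (hf : Sym f) {e : Fin l → Vec} (he : Frame f e) : LinearIndependent F e := by
  rw [Fintype.linearIndependent_iff]
  intro c hc i
  have h : ∀ s : Finset (Fin l), f (∑ j ∈ s, c j • e j) (e i) = ∑ j ∈ s, c j * f (e j) (e i) := by
    intro s
    induction s using Finset.induction_on with
    | empty => simp [hf.zeroL]
    | insert j s hj ih => rw [Finset.sum_insert hj, Finset.sum_insert hj, hf.addL, hf.smulL, ih]
  have h1 := h Finset.univ
  rw [hc, hf.zeroL, Finset.sum_eq_single i (fun j _ hji => by rw [he.orth j i hji, mul_zero])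
    (fun h => absurd (Finset.mem_univ i) h)] at h1
  exact (mul_eq_zero.1 h1.symm).resolve_right (he.ne i)

theorem Frame.span_eq (hf : Sym f) {e : Fin n → Vec} (he : Frame f e) :
    Submodule.span F (Set.range e) = ⊤ :=
  Submodule.eq_top_of_finrank_eq (by
    rw [finrank_span_eq_card (he.li hf), Fintype.card_fin, Module.finrank_fin_fun])

/-- Vectors with the same products against a frame are equal. -/
theorem Frame.ext (hf : Sym f) {e : Fin n → Vec} (he : Frame f e) {x y : Vec}
    (h : ∀ i, f x (e i) = f y (e i)) : x = y := by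
  rw [← sub_eq_zero]
  refine hf.eq_zero fun u => ?_
  have hu : u ∈ Submodule.span F (Set.range e) := by rw [he.span_eq hf]; trivial
  induction hu using Submodule.span_induction with
  | mem w hw => obtain ⟨i, rfl⟩ := hw; rw [hf.comm, hf.subL, h i, sub_self]
  | zero => exact hf.zeroL _
  | add a b _ _ ha hb => rw [hf.addL, ha, hb, add_zero]
  | smul c a _ ha => rw [hf.smulL, ha, mul_zero]

theorem Frame.sum_coord (hf : Sym f) {e : Fin n → Vec} (he : Frame f e) (x : Vec) :
    ∑ i, (f x (e i) / f (e i) (e i)) • e i = x := by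
  refine he.ext hf fun j => ?_
  have h : ∀ s : Finset (Fin n), f (∑ i ∈ s, (f x (e i) / f (e i) (e i)) • e i) (e j) =
      ∑ i ∈ s, f x (e i) / f (e i) (e i) * f (e i) (e j) := by
    intro s
    induction s using Finset.induction_on with
    | empty => simp [hf.zeroL]
    | insert i s hi ih => rw [Finset.sum_insert hi, Finset.sum_insert hi, hf.addL, hf.smulL, ih]
  rw [h, Finset.sum_eq_single j (fun i _ hij => by rw [he.orth i j hij, mul_zero])
    (fun h => absurd (Finset.mem_univ j) h), div_mul_cancel₀ _ (he.ne j)]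

theorem Frame.mat_ext (hf : Sym f) {e : Fin n → Vec} (he : Frame f e) {A C : Mat}
    (h : ∀ i, A *ᵥ e i = C *ᵥ e i) : A = C := by
  refine Matrix.mulVec_injective (funext fun x => ?_)
  rw [← he.sum_coord hf x, mulVec_sum, mulVec_sum]
  simp only [mulVec_smul, h]

theorem Frame.snoc (hf : Sym f) {l : ℕ} {e : Fin l → Vec} (he : Frame f e) {x : Vec}
    (hx : f x x ≠ 0) (hxe : ∀ i, f x (e i) = 0) : Frame f (Fin.snoc e x) := by
  constructor
  · intro i j hij
    induction i using Fin.lastCases with
    | last =>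
      induction j using Fin.lastCases with
      | last => exact absurd rfl hij
      | cast j => simpa using hxe j
    | cast i =>
      induction j using Fin.lastCases with
      | last => simpa [hf.comm (x := x)] using hxe i
      | cast j => simpa using he.orth i j fun e => hij (by rw [e])
  · intro i
    induction i using Fin.lastCases with
    | last => simpa using hx
    | cast i => simpa using he.ne i

section finite

variable [Finite F] (hf : Sym f)
include hf

/-- A frame in one step more. -/
theorem exists_next {l : ℕ} {e : Fin l → Vec} (he : Frame f e) (hl : l < n) :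
    ∃ x, f x x ≠ 0 ∧ ∀ i, f x (e i) = 0 := by
  obtain ⟨z, hz, hzs⟩ := hf.exists_perp (⊥ : Submodule F Vec) e (by rw [finrank_bot]; omega)
  obtain ⟨p, hp, hpp⟩ := hf.exists_aniso e hzs fun hm => hz (by
    rw [Submodule.mem_bot]
    obtain ⟨c, hc⟩ := (Submodule.mem_span_range_iff_exists_fun F).1 hm
    rw [← hc]
    refine Finset.sum_eq_zero fun i _ => ?_
    have h : ∀ s : Finset (Fin l), f (∑ j ∈ s, c j • e j) (e i) = ∑ j ∈ s, c j * f (e j) (e i) := by
      intro s
      induction s using Finset.induction_on with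
      | empty => simp [hf.zeroL]
      | insert j s hj ih => rw [Finset.sum_insert hj, Finset.sum_insert hj, hf.addL, hf.smulL, ih]
    have h1 := h Finset.univ
    rw [hc, hzs i, Finset.sum_eq_single i (fun j _ hji => by rw [he.orth j i hji, mul_zero])
      (fun h => absurd (Finset.mem_univ i) h)] at h1
    rw [(mul_eq_zero.1 h1.symm).resolve_right (he.ne i), zero_smul])
  exact ⟨p, hpp, hp⟩

/-- Every frame extends to a full one. -/
theorem exists_extend {l : ℕ} {e : Fin l → Vec} (he : Frame f e) (hl : l ≤ n) :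
    ∃ e' : Fin n → Vec, Frame f e' ∧ ∀ i : Fin l, e' (Fin.castLE hl i) = e i := by
  obtain ⟨d, hd⟩ := Nat.exists_eq_add_of_le hl
  induction d generalizing l with
  | zero => subst hd; exact ⟨e, he, fun i => rfl⟩
  | succ d ih =>
    obtain ⟨x, hx, hxe⟩ := exists_next hf he (by omega)
    obtain ⟨e', he', h⟩ := ih (he.snoc hf hx hxe) (by omega) (by omega)
    refine ⟨e', he', fun i => ?_⟩
    have := h i.castSucc
    rwa [Fin.snoc_castSucc] at this

theorem exists_frame : ∃ e : Fin n → Vec, Frame f e := by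
  obtain ⟨e, he, -⟩ := exists_extend hf (e := (Fin.elim0 : Fin 0 → Vec))
    ⟨fun i => i.elim0, fun i => i.elim0⟩ (Nat.zero_le n)
  exact ⟨e, he⟩

/-- An involutive isometry has a frame of eigenvectors. -/
theorem exists_eig_frame {b : Mat} (hb : Iso f b) (hbb : b * b = 1) :
    ∃ (e : Fin n → Vec) (ε : Fin n → F), Frame f e ∧ (∀ i, ε i = 1 ∨ ε i = -1) ∧
      ∀ i, b *ᵥ e i = ε i • e i := by
  suffices H : ∀ l, l ≤ n → ∃ (e : Fin l → Vec) (ε : Fin l → F), Frame f e ∧
      (∀ i, ε i = 1 ∨ ε i = -1) ∧ ∀ i, b *ᵥ e i = ε i • e i from H n le_rfl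
  intro l
  induction l with
  | zero => exact fun _ => ⟨Fin.elim0, Fin.elim0, ⟨fun i => i.elim0, fun i => i.elim0⟩, fun i => i.elim0,
      fun i => i.elim0⟩
  | succ l ih =>
    intro hl
    obtain ⟨e, ε, he, hε, hbe⟩ := ih (by omega)
    obtain ⟨z, hz, hze⟩ := exists_next hf he (by omega)
    have hbz : b *ᵥ (b *ᵥ z) = z := by rw [mulVec_mulVec, hbb, one_mulVec]
    have hbze : ∀ i, f (b *ᵥ z) (e i) = 0 := fun i => by
      have h1 := hb z (e i)
      rw [hbe, hf.smulR, hze] at h1
      exact (mul_eq_zero.1 h1).resolve_left (by rcases hε i with h | h <;> simp [h])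
    obtain ⟨x, t, ht, hx, hxe, hbx⟩ : ∃ (x : Vec) (t : F), (t = 1 ∨ t = -1) ∧ f x x ≠ 0 ∧
        (∀ i, f x (e i) = 0) ∧ b *ᵥ x = t • x := by
      by_cases hp : f (z + b *ᵥ z) (z + b *ᵥ z) = 0
      · refine ⟨z - b *ᵥ z, -1, Or.inr rfl, ?_, fun i => by rw [hf.subL, hze, hbze, sub_zero], ?_⟩
        · rw [hf.addL, hf.addR, hf.addR, hb, hf.comm z (b *ᵥ z)] at hp
          rw [hf.subL, hf.subR, hf.subR, hb, hf.comm z (b *ᵥ z)]
          intro hm
          exact hz ((mul_eq_zero.1 (show (2 * 2 : F) * f z z = 0 by linear_combination hp + hm)).resolve_left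
            (mul_ne_zero hf.two hf.two))
        · rw [mulVec_sub, hbz, neg_one_smul, neg_sub]
      · exact ⟨z + b *ᵥ z, 1, Or.inl rfl, hp, fun i => by rw [hf.addL, hze, hbze, add_zero],
          by rw [mulVec_add, hbz, one_smul, add_comm]⟩
    refine ⟨Fin.snoc e x, Fin.snoc ε t, he.snoc hf hx hxe, fun i => ?_, fun i => ?_⟩
    · induction i using Fin.lastCases with
      | last => simpa using ht
      | cast i => simpa using hε i
    · induction i using Fin.lastCases with
      | last => simpa using hbx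
      | cast i => simpa using hbe i

end finite

theorem det_eig (hf : Sym f) {b : Mat} {e : Fin n → Vec} {ε : Fin n → F} (he : Frame f e)
    (h : ∀ i, b *ᵥ e i = ε i • e i) : b.det = ∏ i, ε i ∧ b.trace = ∑ i, ε i := by
  set E : Mat := Matrix.of fun p i => e i p with hE
  have hEu : IsUnit E := by
    refine Matrix.mulVec_injective_iff_isUnit.1 fun c c' hcc => ?_
    have h0 : ∑ i, (c - c') i • e i = 0 := by
      have h1 : E *ᵥ (c - c') = 0 := by rw [mulVec_sub, sub_eq_zero]; exact hcc
      rw [← h1]
      funext p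
      simp [hE, mulVec, dotProduct, Finset.sum_apply, mul_comm]
    rw [← sub_eq_zero]
    exact funext (Fintype.linearIndependent_iff.1 (he.li hf) _ h0)
  have hd : E.det ≠ 0 := ((Matrix.isUnit_iff_isUnit_det _).1 hEu).ne_zero
  have hbE : b * E = E * Matrix.diagonal ε := by
    ext p i
    have h1 := congrFun (h i) p
    rw [Matrix.mul_diagonal]
    simp only [hE, mulVec, dotProduct, Pi.smul_apply, smul_eq_mul] at h1 ⊢
    rw [Matrix.mul_apply]
    simp only [Matrix.of_apply]
    rw [h1, mul_comm]
  constructor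
  · have h1 := congrArg Matrix.det hbE
    rw [det_mul, det_mul, det_diagonal, mul_comm] at h1
    exact mul_left_cancel₀ hd h1
  · have hb' : b = E * Matrix.diagonal ε * E⁻¹ := by
      rw [← hbE, Matrix.mul_nonsing_inv_cancel_right _ _ hd.isUnit]
    rw [hb', Matrix.trace_mul_cycle, Matrix.nonsing_inv_mul _ hd.isUnit, one_mul,
      Matrix.trace_diagonal]

theorem refl_self (hf : Sym f) {x : Vec} (hx : f x x ≠ 0) : refl f x *ᵥ x = -x := by
  rw [refl_mulVec hf, div_mul_cancel₀ _ hx]
  module

theorem refl_fix (hf : Sym f) {x y : Vec} (h : f y x = 0) : refl f x *ᵥ y = y := by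
  rw [refl_mulVec hf, h, mul_zero, zero_smul, sub_zero]

theorem det_refl [Finite F] (hf : Sym f) {x : Vec} (hx : f x x ≠ 0) : (refl f x).det = -1 := by
  have hpos : 1 ≤ n := by
    rcases Nat.eq_zero_or_pos n with h | h
    · subst h
      exact absurd (by rw [show x = 0 from Subsingleton.elim _ _, hf.zeroL]) hx
    · exact h
  obtain ⟨e, he, hex⟩ := exists_extend hf (e := fun _ : Fin 1 => x)
    ⟨fun i j h => absurd (Subsingleton.elim i j) h, fun _ => hx⟩ hpos
  set i0 : Fin n := Fin.castLE hpos 0 with hi0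
  have h0 : e i0 = x := hex 0
  have hd := (det_eig hf he (b := refl f x) (ε := Function.update (fun _ => (1 : F)) i0 (-1)) fun i => by
    rcases eq_or_ne i i0 with rfl | hi
    · rw [Function.update_self, h0, refl_self hf hx, neg_one_smul]
    · rw [Function.update_of_ne hi, one_smul, refl_fix hf (h0 ▸ he.orth i i0 hi)]).1
  rw [hd, Finset.prod_update_of_mem (Finset.mem_univ i0)]
  simp

theorem Iso.mul {a b : Mat} (ha : Iso f a) (hb : Iso f b) : Iso f (a * b) := fun x y => by
  rw [← mulVec_mulVec, ← mulVec_mulVec, ha, hb]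

theorem iso_refl (hf : Sym f) {x : Vec} (hx : f x x ≠ 0) : Iso f (refl f x) := refl_isometry hf hx

theorem Iso.neg (hf : Sym f) {a : Mat} (ha : Iso f a) : Iso f (-a) := fun x y => by
  rw [neg_mulVec, neg_mulVec, hf.negL, hf.negR, neg_neg, ha]

/-- Two commuting reflections. -/
structure Pair (f : (Fin n → F) → (Fin n → F) → F) (x x' : Fin n → F) : Prop where
  ne : f x x ≠ 0
  ne' : f x' x' ≠ 0
  orth : f x x' = 0

/-- The product of two commuting reflections. -/
def beta (f : (Fin n → F) → (Fin n → F) → F) (x x' : Fin n → F) : Matrix (Fin n) (Fin n) F :=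
  refl f x * refl f x'

section beta

variable (hf : Sym f) {x x' : Fin n → F} (hp : Pair f x x')
include hf hp

theorem beta_self : beta f x x' *ᵥ x = -x := by
  rw [beta, ← mulVec_mulVec, refl_fix hf hp.orth, refl_self hf hp.ne]

theorem beta_self' : beta f x x' *ᵥ x' = -x' := by
  rw [beta, ← mulVec_mulVec, refl_self hf hp.ne', mulVec_neg,
    refl_fix hf (by rw [hf.comm]; exact hp.orth)]

theorem beta_fix {y : Vec} (h : f y x = 0) (h' : f y x' = 0) : beta f x x' *ᵥ y = y := by
  rw [beta, ← mulVec_mulVec, refl_fix hf h', refl_fix hf h]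

theorem beta_iso : Iso f (beta f x x') := (iso_refl hf hp.ne).mul (iso_refl hf hp.ne')

theorem beta_det [Finite F] : (beta f x x').det = 1 := by
  rw [beta, det_mul, det_refl hf hp.ne, det_refl hf hp.ne']; ring

theorem beta_mulVec (y : Vec) : beta f x x' *ᵥ y =
    y - (2 / f x x * f y x) • x - (2 / f x' x' * f y x') • x' := by
  rw [beta, ← mulVec_mulVec, refl_mulVec hf x', refl_mulVec hf x, hf.subL, hf.smulL,
    hf.comm x x', hp.orth, mul_zero, sub_zero]
  module

theorem beta_mul_self : beta f x x' * beta f x x' = 1 := by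
  refine Matrix.mulVec_injective (funext fun y => ?_)
  rw [← mulVec_mulVec, one_mulVec, beta_mulVec hf hp, beta_mulVec hf hp]
  simp only [hf.subL, hf.smulL, hp.orth, hf.comm x x', mul_zero, sub_zero]
  have := hp.ne
  have := hp.ne'
  match_scalars <;> field_simp <;> ring

end beta

/-- A similitude of a non-degenerate form has determinant squared equal to a power of the multiplier. -/
theorem sim_det [Finite F] (hf : Sym f) {a : Mat} {μ : F} (h : ∀ x y, f (a *ᵥ x) (a *ᵥ y) = μ * f x y) :
    a.det * a.det = μ ^ n := by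
  obtain ⟨e, he⟩ := exists_frame hf
  set S : Mat := Matrix.of fun i j => f (Pi.single i 1) (Pi.single j 1) with hS
  have hfS : ∀ x y : Vec, f x y = x ⬝ᵥ (S *ᵥ y) := fun x y => by
    conv_lhs => rw [pi_eq_sum_univ' x, pi_eq_sum_univ' y]
    have hl : ∀ (s : Finset (Fin n)) (c : Fin n → F) (w : Vec),
        f (∑ i ∈ s, c i • Pi.single i (1 : F)) w = ∑ i ∈ s, c i * f (Pi.single i 1) w := by
      intro s c w
      induction s using Finset.induction_on with
      | empty => simp [hf.zeroL]
      | insert j s hj ih => rw [Finset.sum_insert hj, Finset.sum_insert hj, hf.addL, hf.smulL, ih]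
    rw [hl]
    simp only [dotProduct, mulVec]
    refine Finset.sum_congr rfl fun i _ => ?_
    rw [hf.comm, hl]
    congr 1
    refine Finset.sum_congr rfl fun j _ => ?_
    rw [hS, Matrix.of_apply, hf.comm, mul_comm]
  have hSd : S.det ≠ 0 := by
    intro h0
    obtain ⟨z, hz, hz0⟩ := Matrix.exists_mulVec_eq_zero_iff.2 h0
    obtain ⟨u, hu⟩ := hf.sf.nondeg z hz
    rw [hfS, hz0, dotProduct_zero] at hu
    exact hu rfl
  have hmat : aᵀ * S * a = μ • S := by
    ext i j
    have h1 := h (Pi.single i 1) (Pi.single j 1)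
    rw [hfS, hfS] at h1
    simp only [mulVec_single_one, single_dotProduct, one_mul, Matrix.col_apply] at h1
    rw [Matrix.smul_apply, smul_eq_mul, ← h1, Matrix.mul_assoc, Matrix.mul_apply]
    simp [dotProduct, mulVec, Matrix.mul_apply, Matrix.col_apply]
  have := congrArg Matrix.det hmat
  rw [det_mul, det_mul, det_transpose, det_smul, Fintype.card_fin] at this
  exact mul_right_cancel₀ hSd (by linear_combination this)

theorem Iso.det_sq [Finite F] (hf : Sym f) {a : Mat} (ha : Iso f a) : a.det * a.det = 1 := by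
  rw [sim_det hf (μ := 1) (fun x y => by rw [ha, one_mul]), one_pow]

end Cfsg.Agent.Lib.OmegaTwelve.ThreeFour
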