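import Cfsg.Agent.Lib.OmegaTwelve.ThreeFour.Data
import Cfsg.Agent.Lib.Subspaces.OrthSingular

/-!
The unipotent radical of the stabiliser of a singular block: the elements fixing the block pointwise and
translating its orthogonal into it form a two-step nilpotent group, whose centre gives root elements.
-/

set_option autoImplicit false
set_option linter.unusedSectionVars false

namespace Cfsg.Agent.Lib.OmegaTwelve.ThreeFour

open Matrix Kronecker Module
open Cfsg.Agent.Lib.Subspaces.Transvection Cfsg.Agent.Lib.Subspaces.FormVec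
  Cfsg.Agent.Lib.Subspaces.OrthForm
  Cfsg.Agent.Lib.TensorMax.Block Cfsg.Agent.Lib.TensorMax.Lemmas
  Cfsg.Agent.Lib.TensorFormMax.Basic Cfsg.Agent.Lib.TensorOrthMax.Side
  Cfsg.Agent.Lib.TensorOrthMax.InvariantOrth

variable {F : Type*} [Field F]

local notation "Vec" => Fin 3 × Fin 4 → F
local notation "V1" => Fin 3 → F
local notation "V2" => Fin 4 → F
local notation "Big" => Matrix (Fin 3 × Fin 4) (Fin 3 × Fin 4) F
local notation "A1" => Matrix (Fin 3) (Fin 3) F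
local notation "A2" => Matrix (Fin 4) (Fin 4) F
local notation "G" => GL (Fin 3 × Fin 4) F

/-- An element fixing the block of `v` pointwise and translating its orthogonal into it. -/
structure Tr (f₂ : (Fin 4 → F) → (Fin 4 → F) → F) (M : Subgroup (GL (Fin 3 × Fin 4) F)) (v : Fin 4 → F)
    (x : GL (Fin 3 × Fin 4) F) : Prop where
  mem : x ∈ M
  fix : ∀ a, (x : Matrix (Fin 3 × Fin 4) (Fin 3 × Fin 4) F) *ᵥ tens a v = tens a v
  shift : ∀ z, ctr (formVec f₂ v) z = 0 →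
    ∃ a, (x : Matrix (Fin 3 × Fin 4) (Fin 3 × Fin 4) F) *ᵥ z = z + tens a v

/-- The group meets no radical outside the stabiliser. -/
def NR (f₂ : (Fin 4 → F) → (Fin 4 → F) → F) (M : Subgroup (GL (Fin 3 × Fin 4) F)) : Prop :=
  ∀ v, v ≠ 0 → f₂ v v = 0 → ∀ x, Tr f₂ M v x → x ∈ Cfsg.Geo.kroneckerSubgroup 3 4 F

/-- The coefficient along `t l`. -/
def crd (f₂ : (Fin 4 → F) → (Fin 4 → F) → F) (v' : Fin 4 → F) (t : Fin 2 → Fin 4 → F) (l : Fin 2)
    (x : GL (Fin 3 × Fin 4) F) : Matrix (Fin 3) (Fin 3) F :=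
  blk (x : Matrix (Fin 3 × Fin 4) (Fin 3 × Fin 4) F) (formVec f₂ (t l)) v'

/-- The coefficient along the block. -/
def sv (f₂ : (Fin 4 → F) → (Fin 4 → F) → F) (v' : Fin 4 → F) (x : GL (Fin 3 × Fin 4) F) :
    Matrix (Fin 3) (Fin 3) F :=
  blk (x : Matrix (Fin 3 × Fin 4) (Fin 3 × Fin 4) F) (formVec f₂ v') v'

/-- The pairing of the coefficients of two elements. -/
def pr (f₁ : (Fin 3 → F) → (Fin 3 → F) → F) (f₂ : (Fin 4 → F) → (Fin 4 → F) → F) (v' : Fin 4 → F)
    (t : Fin 2 → Fin 4 → F) (x y : GL (Fin 3 × Fin 4) F) (b c : Fin 3 → F) : F :=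
  ∑ l, (f₂ (t l) (t l))⁻¹ * f₁ (crd f₂ v' t l x *ᵥ b) (crd f₂ v' t l y *ᵥ c)

/-- A central element of the radical is in the group. -/
def Cen (f₂ : (Fin 4 → F) → (Fin 4 → F) → F) (M : Subgroup (GL (Fin 3 × Fin 4) F)) (v : Fin 4 → F)
    (S : Matrix (Fin 3) (Fin 3) F) : Prop :=
  ∃ g ∈ M, ∀ z, (g : Matrix (Fin 3 × Fin 4) (Fin 3 × Fin 4) F) *ᵥ z =
    z + tens (S *ᵥ ctr (formVec f₂ v) z) v

theorem exists_third : ∀ i k : Fin 3, i ≠ k → ∃ l, l ≠ i ∧ l ≠ k ∧ ∀ r, r = i ∨ r = k ∨ r = l := by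
  decide

/-- The skew map of two vectors. -/
def biv (f₁ : (Fin 3 → F) → (Fin 3 → F) → F) (p q : Fin 3 → F) : Matrix (Fin 3) (Fin 3) F :=
  vecMulVec p (formVec f₁ q) - vecMulVec q (formVec f₁ p)

section biv

variable {f₁ : (Fin 3 → F) → (Fin 3 → F) → F} (hf : Sym f₁)
include hf

theorem biv_mulVec (p q b : V1) : biv f₁ p q *ᵥ b = f₁ b q • p - f₁ b p • q := by
  rw [biv, sub_mulVec, vecMulVec_mulVec, vecMulVec_mulVec, op_smul_eq_smul, op_smul_eq_smul, hf.dot, hf.dot]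

theorem biv_swap (p q : V1) : biv f₁ q p = -biv f₁ p q := by
  rw [biv, biv, neg_sub]

theorem biv_self (p : V1) : biv f₁ p p = 0 := sub_self _

theorem biv_add_left (p p' q : V1) : biv f₁ (p + p') q = biv f₁ p q + biv f₁ p' q := by
  refine Matrix.mulVec_injective (funext fun b => ?_)
  rw [add_mulVec, biv_mulVec hf, biv_mulVec hf, biv_mulVec hf, hf.addR]
  module

theorem biv_smul_left (c : F) (p q : V1) : biv f₁ (c • p) q = c • biv f₁ p q := by
  refine Matrix.mulVec_injective (funext fun b => ?_)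
  rw [smul_mulVec, biv_mulVec hf, biv_mulVec hf, hf.smulR]
  module

theorem biv_conj {a a' : A1} (ha : Iso f₁ a) (h : a * a' = 1) (p q : V1) :
    a * biv f₁ p q * a' = biv f₁ (a *ᵥ p) (a *ᵥ q) := by
  refine Matrix.mulVec_injective (funext fun b => ?_)
  rw [← mulVec_mulVec, ← mulVec_mulVec, biv_mulVec hf, biv_mulVec hf, mulVec_sub, mulVec_smul, mulVec_smul]
  have e : ∀ r, f₁ b (a *ᵥ r) = f₁ (a' *ᵥ b) r := fun r => by
    rw [← ha (a' *ᵥ b), mulVec_mulVec b a a', h, one_mulVec]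
  rw [e, e]

end biv

variable [Finite F] {f₁ : (Fin 3 → F) → (Fin 3 → F) → F} {f₂ : (Fin 4 → F) → (Fin 4 → F) → F}
  {Q : (Fin 3 × Fin 4 → F) → F} {M : Subgroup (GL (Fin 3 × Fin 4) F)}

namespace Data

variable (D : Data f₁ f₂ Q M)
include D

theorem B_left (z : Vec) (u : V1) (w : V2) :
    QuadraticMap.polar Q z (tens u w) = f₁ (ctr (formVec f₂ w) z) u := by
  have hb := D.form.polar_bilinear
  let L : Vec →+ F := AddMonoidHom.mk' (fun x => QuadraticMap.polar Q x (tens u w))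
    fun x y => hb.add_left x y _
  let R : V1 →+ F := AddMonoidHom.mk' (fun x => f₁ x u) fun x y => D.s1.addL x y u
  have hctr : ctr (formVec f₂ w) z = ∑ i, f₂ (slice z i) w • (Pi.single i 1 : V1) := by
    funext i
    simp [ctr_eq_dot, D.s2.dot, Pi.single_apply, Finset.sum_apply]
  conv_lhs => rw [← sum_tens_slice z]
  show L _ = R _
  rw [hctr, map_sum, map_sum]
  refine Finset.sum_congr rfl fun i _ => ?_
  show QuadraticMap.polar Q _ _ = f₁ _ u
  rw [D.tensB, D.s1.smulL, mul_comm]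

theorem B_add_right (x y z : Vec) :
    QuadraticMap.polar Q x (y + z) = QuadraticMap.polar Q x y + QuadraticMap.polar Q x z :=
  D.form.polar_bilinear.add_right x y z

theorem B_add_left (x y z : Vec) :
    QuadraticMap.polar Q (x + y) z = QuadraticMap.polar Q x z + QuadraticMap.polar Q y z :=
  D.form.polar_bilinear.add_left x y z

theorem ctr_ft (u : V1) (w x : V2) : ctr (formVec f₂ x) (tens u w) = f₂ w x • u := by
  rw [ctr_tens, D.s2.dot]

theorem ctr_smul_vec (c : F) (s : V2) (z : Vec) :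
    ctr (formVec f₂ (c • s)) z = c • ctr (formVec f₂ s) z :=
  funext fun i => by rw [Pi.smul_apply, ctr_eq_dot, ctr_eq_dot, D.s2.dot, D.s2.dot, D.s2.smulR, smul_eq_mul]

theorem ctr_fix {g : G} (hg : g ∈ M) {v : V2} (hfix : ∀ a, (g : Big) *ᵥ tens a v = tens a v) (z : Vec) :
    ctr (formVec f₂ v) ((g : Big) *ᵥ z) = ctr (formVec f₂ v) z := by
  refine D.s1.sf.eq_of_left fun u => ?_
  rw [← D.B_left, ← D.B_left]
  conv_lhs => rw [← hfix u, D.isoB hg]

variable {v v' : Fin 4 → F} {t : Fin 2 → Fin 4 → F} (h : HB f₂ v v' t)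
include h

/-- Coordinates of a tensor in an adapted frame of the second factor. -/
theorem expand (z : Vec) : z = tens (ctr (formVec f₂ v') z) v + tens (ctr (formVec f₂ v) z) v' +
    (tens ((f₂ (t 0) (t 0))⁻¹ • ctr (formVec f₂ (t 0)) z) (t 0) +
      tens ((f₂ (t 1) (t 1))⁻¹ • ctr (formVec f₂ (t 1)) z) (t 1)) := by
  funext ⟨i, d⟩
  have h1 := congrFun (h.expand D.s2 (slice z i)) d
  simp only [Pi.add_apply, Pi.smul_apply, smul_eq_mul, tens, ctr_eq_dot, D.s2.dot] at h1 ⊢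
  change z (i, d) = _ at h1
  rw [h1]
  ring

theorem B_expand (z z' : Vec) : QuadraticMap.polar Q z z' =
    f₁ (ctr (formVec f₂ v) z) (ctr (formVec f₂ v') z') + f₁ (ctr (formVec f₂ v') z) (ctr (formVec f₂ v) z') +
      ∑ l, (f₂ (t l) (t l))⁻¹ * f₁ (ctr (formVec f₂ (t l)) z) (ctr (formVec f₂ (t l)) z') := by
  conv_lhs => rw [D.expand h z']
  rw [D.B_add_right, D.B_add_right, D.B_add_right, D.B_left, D.B_left, D.B_left, D.B_left,
    D.s1.smulR, D.s1.smulR, Fin.sum_univ_two]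

omit h in
theorem crd_mulVec (l : Fin 2) (x : G) (b : V1) :
    crd f₂ v' t l x *ᵥ b = ctr (formVec f₂ (t l)) ((x : Big) *ᵥ tens b v') :=
  (ctr_mulVec_tens _ _ _ _).symm

omit h in
theorem sv_mulVec (x : G) (b : V1) :
    sv f₂ v' x *ᵥ b = ctr (formVec f₂ v') ((x : Big) *ᵥ tens b v') :=
  (ctr_mulVec_tens _ _ _ _).symm

theorem ctr_v_image {x : G} (hx : Tr f₂ M v x) (b : V1) :
    ctr (formVec f₂ v) ((x : Big) *ᵥ tens b v') = b := by
  rw [D.ctr_fix hx.mem hx.fix, D.ctr_ft, h.v'v D.s2, one_smul]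

/-- The translation of a vector orthogonal to the block. -/
theorem shift_pair {x : G} (hx : Tr f₂ M v x) {z : Vec} (hz : ctr (formVec f₂ v) z = 0) {a : V1}
    (ha : (x : Big) *ᵥ z = z + tens a v) (c : V1) :
    f₁ a c = -∑ l, (f₂ (t l) (t l))⁻¹ * f₁ (ctr (formVec f₂ (t l)) z) (crd f₂ v' t l x *ᵥ c) := by
  have h1 := D.isoB hx.mem z (tens c v')
  rw [ha, D.B_add_left, D.B_expand h z, hz, D.s1.zeroL, zero_add, D.ctr_v_image h hx, D.B_left z,
    QuadraticMap.polar_comm Q (tens a v), D.B_left, D.ctr_v_image h hx, D.s1.comm a c] at h1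
  simp only [← D.crd_mulVec] at h1
  linear_combination h1

theorem crd_mul {x y : G} (hx : Tr f₂ M v x) (hy : Tr f₂ M v y) (l : Fin 2) :
    crd f₂ v' t l (x * y) = crd f₂ v' t l x + crd f₂ v' t l y := by
  refine Matrix.mulVec_injective (funext fun b => ?_)
  rw [add_mulVec, D.crd_mulVec, D.crd_mulVec, D.crd_mulVec, gl_mul_mulVec]
  have hw : ctr (formVec f₂ v) ((y : Big) *ᵥ tens b v' - tens b v') = 0 := by
    rw [ctr_sub, D.ctr_v_image h hy, D.ctr_ft, h.v'v D.s2, one_smul, sub_self]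
  obtain ⟨a, ha⟩ := hx.shift _ hw
  rw [mulVec_sub, sub_eq_iff_eq_add] at ha
  rw [ha]
  simp only [ctr_add, ctr_sub, D.ctr_ft, D.s2.comm (t l) v, h.tv, D.s2.comm (t l) v', h.tv', zero_smul,
    sub_zero, add_zero]
  abel

/-- The coefficient along the block of a product. -/
theorem phi_mul {x y : G} (hx : Tr f₂ M v x) (hy : Tr f₂ M v y) (b c : V1) :
    f₁ (sv f₂ v' (x * y) *ᵥ b) c = f₁ (sv f₂ v' x *ᵥ b) c + f₁ (sv f₂ v' y *ᵥ b) c -
      pr f₁ f₂ v' t y x b c := by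
  have hw : ctr (formVec f₂ v) ((y : Big) *ᵥ tens b v' - tens b v') = 0 := by
    rw [ctr_sub, D.ctr_v_image h hy, D.ctr_ft, h.v'v D.s2, one_smul, sub_self]
  obtain ⟨a, ha⟩ := hx.shift _ hw
  have hp := D.shift_pair h hx hw ha c
  rw [mulVec_sub, sub_eq_iff_eq_add] at ha
  rw [D.sv_mulVec, D.sv_mulVec, D.sv_mulVec, gl_mul_mulVec, ha]
  simp only [ctr_add, ctr_sub, D.ctr_ft, h.v'v', h.vv', zero_smul, one_smul, sub_zero, D.s1.addL]
  rw [hp]
  have e : ∀ l, ctr (formVec f₂ (t l)) ((y : Big) *ᵥ tens b v' - tens b v') = crd f₂ v' t l y *ᵥ b := fun l => by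
    rw [ctr_sub, D.ctr_ft, D.s2.comm (t l) v', h.tv', zero_smul, sub_zero, D.crd_mulVec]
  simp only [e, pr]
  ring

/-- An element of the radical is an isometry. -/
theorem phi_iso {x : G} (hx : Tr f₂ M v x) (b c : V1) :
    f₁ (sv f₂ v' x *ᵥ b) c + f₁ (sv f₂ v' x *ᵥ c) b + pr f₁ f₂ v' t x x b c = 0 := by
  have h1 := D.isoB hx.mem (tens b v') (tens c v')
  rw [D.tensB, h.v'v', mul_zero, D.B_expand h, D.ctr_v_image h hx, D.ctr_v_image h hx] at h1
  simp only [← D.crd_mulVec, ← D.sv_mulVec] at h1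
  rw [D.s1.comm (sv f₂ v' x *ᵥ c) b] at h1
  rw [pr]
  linear_combination h1

omit h in
theorem tr_one : Tr f₂ M v (1 : G) :=
  ⟨M.one_mem, fun a => by rw [Units.val_one, one_mulVec],
    fun z _ => ⟨0, by rw [Units.val_one, one_mulVec, tens_zero_left, add_zero]⟩⟩

omit h in
theorem tr_mul {x y : G} (hx : Tr f₂ M v x) (hy : Tr f₂ M v y) : Tr f₂ M v (x * y) := by
  refine ⟨M.mul_mem hx.mem hy.mem, fun a => by rw [gl_mul_mulVec, hy.fix, hx.fix], fun z hz => ?_⟩
  obtain ⟨a, ha⟩ := hy.shift z hz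
  obtain ⟨c, hc⟩ := hx.shift z hz
  exact ⟨c + a, by rw [gl_mul_mulVec, ha, mulVec_add, hc, hx.fix, tens_add_left, add_assoc]⟩

omit h in
theorem tr_inv {x : G} (hx : Tr f₂ M v x) : Tr f₂ M v x⁻¹ := by
  have hf : ∀ a, ((x⁻¹ : G) : Big) *ᵥ tens a v = tens a v := fun a => by
    conv_lhs => rw [← hx.fix a, gl_inv_mulVec]
  refine ⟨M.inv_mem hx.mem, hf, fun z hz => ?_⟩
  obtain ⟨a, ha⟩ := hx.shift z hz
  refine ⟨-a, gl_mulVec_injective x (?_ : (x : Big) *ᵥ _ = (x : Big) *ᵥ _)⟩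
  rw [gl_mulVec_inv, mulVec_add, ha, hx.fix, add_assoc, ← tens_add_left, add_neg_cancel, tens_zero_left,
    add_zero]

theorem crd_inv {x : G} (hx : Tr f₂ M v x) (l : Fin 2) : crd f₂ v' t l x⁻¹ = -crd f₂ v' t l x := by
  have h1 := D.crd_mul h hx (D.tr_inv hx) l
  have h2 : crd f₂ v' t l (1 : G) = 0 := by
    refine Matrix.mulVec_injective (funext fun b => ?_)
    rw [D.crd_mulVec, Units.val_one, one_mulVec, D.ctr_ft, D.s2.comm (t l) v', h.tv', zero_smul, zero_mulVec]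
  rw [mul_inv_cancel, h2] at h1
  exact eq_neg_of_add_eq_zero_right h1.symm

/-- An element of the radical without coefficients along `t` is central. -/
theorem central {x : G} (hx : Tr f₂ M v x) (hC : ∀ l, crd f₂ v' t l x = 0) (z : Vec) :
    (x : Big) *ᵥ z = z + tens (sv f₂ v' x *ᵥ ctr (formVec f₂ v) z) v := by
  set b := ctr (formVec f₂ v) z with hb
  have hz0 : ctr (formVec f₂ v) (z - tens b v') = 0 := by
    rw [ctr_sub, D.ctr_ft, h.v'v D.s2, one_smul, ← hb, sub_self]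
  obtain ⟨a, ha⟩ := hx.shift _ hz0
  have ha0 : a = 0 := D.s1.sf.eq_of_left fun c => by
    rw [D.shift_pair h hx hz0 ha c, D.s1.zeroL]
    simp [hC, D.s1.zeroR]
  have himg : (x : Big) *ᵥ tens b v' = tens b v' + tens (sv f₂ v' x *ᵥ b) v := by
    rw [D.expand h ((x : Big) *ᵥ tens b v'), D.ctr_v_image h hx, ← D.sv_mulVec, ← D.crd_mulVec, ← D.crd_mulVec]
    simp [hC, tens_zero_left, add_comm]
  rw [ha0, tens_zero_left, add_zero, mulVec_sub, himg, sub_eq_iff_eq_add] at ha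
  rw [ha]
  abel

theorem cen_of {x : G} (hx : Tr f₂ M v x) (hC : ∀ l, crd f₂ v' t l x = 0) : Cen f₂ M v (sv f₂ v' x) :=
  ⟨x, hx.mem, D.central h hx hC⟩

theorem cen_unique {x : G} {S : A1} (hx : ∀ z, (x : Big) *ᵥ z = z + tens (S *ᵥ ctr (formVec f₂ v) z) v) :
    sv f₂ v' x = S := by
  refine Matrix.mulVec_injective (funext fun b => ?_)
  rw [D.sv_mulVec, hx, ctr_add, D.ctr_ft, D.ctr_ft, D.ctr_ft, h.v'v', h.vv', h.v'v D.s2]
  simp

theorem cen_skew {S : A1} (hS : Cen f₂ M v S) (b c : V1) : f₁ (S *ᵥ b) c = -f₁ (S *ᵥ c) b := by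
  obtain ⟨g, hg, hgz⟩ := hS
  have hgt : Tr f₂ M v g := ⟨hg, fun a => by
      rw [hgz, D.ctr_ft, h.vv, zero_smul, mulVec_zero, tens_zero_left, add_zero],
    fun z hz => ⟨0, by rw [hgz, hz, mulVec_zero]⟩⟩
  have hC : ∀ l, crd f₂ v' t l g = 0 := fun l => Matrix.mulVec_injective (funext fun e => by
    rw [D.crd_mulVec, hgz, ctr_add, D.ctr_ft, D.ctr_ft, D.ctr_ft, D.s2.comm (t l) v, h.tv,
      D.s2.comm (t l) v', h.tv']
    simp)
  have h1 := D.phi_iso h hgt b c
  rw [D.cen_unique h hgz] at h1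
  simp [pr, hC, D.s1.zeroL] at h1
  linear_combination h1

/-- The commutator of two elements of the radical. -/
theorem cen_comm {x y : G} (hx : Tr f₂ M v x) (hy : Tr f₂ M v y) :
    ∃ S, Cen f₂ M v S ∧ ∀ b c, f₁ (S *ᵥ b) c = pr f₁ f₂ v' t x y b c - pr f₁ f₂ v' t y x b c := by
  set k : G := x * y * (y * x)⁻¹ with hk
  have hk' : Tr f₂ M v k := D.tr_mul (D.tr_mul hx hy) (D.tr_inv (D.tr_mul hy hx))
  have hC : ∀ l, crd f₂ v' t l k = 0 := fun l => by
    rw [hk, D.crd_mul h (D.tr_mul hx hy) (D.tr_inv (D.tr_mul hy hx)), D.crd_inv h (D.tr_mul hy hx),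
      D.crd_mul h hx hy, D.crd_mul h hy hx]
    abel
  refine ⟨_, D.cen_of h hk' hC, fun b c => ?_⟩
  have h1 := D.phi_mul h hk' (D.tr_mul hy hx) b c
  rw [hk, inv_mul_cancel_right, D.phi_mul h hx hy, D.phi_mul h hy hx, ← hk] at h1
  have h0 : pr f₁ f₂ v' t (y * x) k b c = 0 := by simp [pr, hC, D.s1.zeroR]
  rw [h0] at h1
  linear_combination -h1

omit h in
theorem cen_zero : Cen f₂ M v (0 : A1) :=
  ⟨1, M.one_mem, fun z => by rw [Units.val_one, one_mulVec, zero_mulVec, tens_zero_left, add_zero]⟩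

omit h in
theorem cen_add (hvv : f₂ v v = 0) {S S' : A1} (h1 : Cen f₂ M v S) (h2 : Cen f₂ M v S') :
    Cen f₂ M v (S + S') := by
  obtain ⟨g, hg, hgz⟩ := h1
  obtain ⟨g', hg', hgz'⟩ := h2
  refine ⟨g * g', M.mul_mem hg hg', fun z => ?_⟩
  rw [gl_mul_mulVec, hgz', hgz, ctr_add, D.ctr_ft, hvv, zero_smul, add_zero, add_mulVec, tens_add_left]
  abel

omit h in
theorem cen_neg (hvv : f₂ v v = 0) {S : A1} (h1 : Cen f₂ M v S) : Cen f₂ M v (-S) := by
  obtain ⟨g, hg, hgz⟩ := h1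
  refine ⟨g⁻¹, M.inv_mem hg, fun z => gl_mulVec_injective g (?_ : (g : Big) *ᵥ _ = (g : Big) *ᵥ _)⟩
  rw [gl_mulVec_inv, hgz, ctr_add, D.ctr_ft, hvv, zero_smul, add_zero, add_assoc, ← tens_add_left,
    neg_mulVec, neg_add_cancel, tens_zero_left, add_zero]

omit h in
/-- Transport by a product of rotations. -/
theorem cen_conj {v₁ v₂ : V2} {S : A1} (hS : Cen f₂ M v₁ S) {g : G} (hg : g ∈ M) {a : A1} {b : A2}
    (hr : Rot f₁ f₂ g a b) {c : F} (hb : b *ᵥ v₁ = c • v₂) {a' : A1} (ha : a * a' = 1) :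
    Cen f₂ M v₂ ((c * c) • (a * S * a')) := by
  obtain ⟨k, hk, hkz⟩ := hS
  refine ⟨g * k * g⁻¹, M.mul_mem (M.mul_mem hg hk) (M.inv_mem hg), fun z => ?_⟩
  have hctr : ctr (formVec f₂ v₁) (((g⁻¹ : G) : Big) *ᵥ z) = c • (a' *ᵥ ctr (formVec f₂ v₂) z) := by
    refine D.s1.sf.eq_of_left fun u => ?_
    rw [D.s1.smulL, ← D.B_left, ← D.isoB hg, gl_mulVec_inv, hr.eq, kron_apply, hb, tens_smul_right,
      D.form.polar_bilinear.smul_right, D.B_left]
    congr 1
    rw [← hr.isoa (a' *ᵥ _), mulVec_mulVec _ a a', ha, one_mulVec]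
  rw [gl_mul_mulVec, gl_mul_mulVec, hkz, mulVec_add, gl_mulVec_inv, hctr, hr.eq, kron_apply, hb,
    tens_smul_right, ← tens_smul_left]
  simp only [mulVec_smul, smul_mulVec, ← mulVec_mulVec, smul_smul]

/-- Every scalar multiple. -/
theorem cen_smul {S : A1} (hS : Cen f₂ M v S) (c : F) : Cen f₂ M v (c • S) := by
  have hsq : ∀ l : F, Cen f₂ M v ((l * l) • S) := fun l => by
    rcases eq_or_ne l 0 with rfl | hl
    · rw [mul_zero, zero_smul]; exact D.cen_zero
    have hf := D.s2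
    have n1 : f₂ (v - v') (v - v') ≠ 0 := by
      rw [hf.subL, hf.subR, hf.subR, h.vv, h.v'v', h.vv', h.v'v hf]
      rw [show (0 : F) - 1 - (1 - 0) = -2 by ring]; exact neg_ne_zero.2 hf.two
    have n2 : f₂ (v - l • v') (v - l • v') ≠ 0 := by
      simp only [hf.subL, hf.subR, hf.smulL, hf.smulR, h.vv, h.v'v', h.vv', h.v'v hf]
      rw [show (0 : F) - l * 1 - (l * 1 - l * (l * 0)) = -(2 * l) by ring]
      exact neg_ne_zero.2 (mul_ne_zero hf.two hl)
    set b := refl f₂ (v - v') * refl f₂ (v - l • v') with hb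
    have hbv : b *ᵥ v = l • v := by
      have e1 : refl f₂ (v - l • v') *ᵥ v = l • v' := by
        rw [refl_mulVec hf, show f₂ (v - l • v') (v - l • v') = -(2 * l) by
            simp only [hf.subL, hf.subR, hf.smulL, hf.smulR, h.vv, h.v'v', h.vv', h.v'v hf]; ring,
          show f₂ v (v - l • v') = -l by
            simp only [hf.subR, hf.smulR, h.vv, h.vv']; ring]
        have := hf.two
        match_scalars <;> field_simp <;> ring
      have e2 : refl f₂ (v - v') *ᵥ v' = v := by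
        rw [refl_mulVec hf, show f₂ (v - v') (v - v') = -2 by
            simp only [hf.subL, hf.subR, h.vv, h.v'v', h.vv', h.v'v hf]; ring,
          show f₂ v' (v - v') = 1 by simp only [hf.subR, h.v'v', h.v'v hf]; ring]
        have := hf.two
        match_scalars <;> field_simp <;> ring
      rw [hb, ← mulVec_mulVec, e1, mulVec_smul, e2]
    have hbd : b.det = 1 := by rw [hb, det_mul, det_refl hf n1, det_refl hf n2]; ring
    obtain ⟨g, hg, hr | hr⟩ := D.exists_rot (a := (1 : A1)) (fun x y => by rw [one_mulVec, one_mulVec])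
      ((iso_refl hf n1).mul (iso_refl hf n2)) det_one hbd
    · have := D.cen_conj hS hg hr hbv (a' := 1) (one_mul 1)
      rwa [one_mul, mul_one] at this
    · have := D.cen_conj hS hg hr (c := -l) (v₂ := v) (by rw [neg_mulVec, hbv, neg_smul]) (a' := 1) (one_mul 1)
      rwa [one_mul, mul_one, neg_mul_neg] at this
  have h2 := D.s2.two
  have e : c • S = (((c + 1) / 2) * ((c + 1) / 2)) • S + -((((c - 1) / 2) * ((c - 1) / 2)) • S) := by
    rw [← sub_eq_add_neg, ← sub_smul]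
    congr 1
    field_simp
    ring
  rw [e]
  exact D.cen_add h.vv (hsq _) (D.cen_neg h.vv (hsq _))

/-- The Eichler elements of the second factor. -/
theorem exists_R {z : V2} (hz : f₂ z v = 0) : ∃ R ∈ M, Tr f₂ M v R ∧
    (R : Big) = (1 : A1) ⊗ₖ (1 + Cfsg.Agent.Lib.TensorOrthMax.Setup.eN f₂ v z) := by
  have hf := D.s2
  set z' := (2 : F)⁻¹ • z with hz'def
  have hz' : f₂ z' v = 0 := by rw [hf.smulL, hz, mul_zero]
  open Cfsg.Agent.Lib.TensorOrthMax.Setup in
  have hd : (1 + eN f₂ v z').det = 1 := by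
    set z'' := (2 : F)⁻¹ • z' with hz''def
    have hz'' : f₂ z'' v = 0 := by rw [hf.smulL, hz', mul_zero]
    have hi : Iso f₂ (1 + eN f₂ v z'') := eN_isometry hf h.vv hz''
    have h1 := hi.det_sq hf
    rw [← det_mul, eN_add hf h.vv hz'' hz'', ← two_smul F z'', hz''def, smul_inv_smul₀ hf.two] at h1
    exact h1
  open Cfsg.Agent.Lib.TensorOrthMax.Setup in
  obtain ⟨g, hg, hr⟩ := D.exists_rot (a := (1 : A1)) (fun x y => by rw [one_mulVec, one_mulVec])
    (eN_isometry hf h.vv hz') det_one hd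
  open Cfsg.Agent.Lib.TensorOrthMax.Setup in
  have hR : ((g * g : G) : Big) = (1 : A1) ⊗ₖ (1 + eN f₂ v z) := by
    have e : (1 + eN f₂ v z') * (1 + eN f₂ v z') = 1 + eN f₂ v z := by
      rw [eN_add hf h.vv hz' hz', ← two_smul F z', hz'def, smul_inv_smul₀ hf.two]
    rcases hr with hr | hr
    · rw [Units.val_mul, hr.eq, ← mul_kronecker_mul, one_mul, e]
    · rw [Units.val_mul, hr.eq, ← mul_kronecker_mul, one_mul, neg_mul_neg, e]
  refine ⟨g * g, M.mul_mem hg hg, ⟨M.mul_mem hg hg, fun a => ?_, fun y hy => ?_⟩, hR⟩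
  · rw [hR, kron_apply, one_mulVec, add_mulVec, one_mulVec,
      Cfsg.Agent.Lib.TensorOrthMax.Setup.eN_self hf h.vv hz, add_zero]
  · refine ⟨ctr (formVec f₂ z) y, ?_⟩
    rw [hR, kronecker_add, one_kronecker_one, add_mulVec, one_mulVec]
    congr 1
    funext ⟨i, d⟩
    have h1 := congrFun (Cfsg.Agent.Lib.TensorOrthMax.Setup.slice_one_kron
      (Cfsg.Agent.Lib.TensorOrthMax.Setup.eN f₂ v z) y i) d
    have h0 : f₂ (slice y i) v = 0 := by
      have := congrFun hy i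
      rwa [ctr_eq_dot, hf.dot] at this
    rw [Cfsg.Agent.Lib.TensorOrthMax.Setup.eN_mulVec hf, h0] at h1
    simpa [slice, tens, ctr_eq_dot, hf.dot] using h1

theorem crd_R {R : G} {z : V2} (hz : f₂ z v = 0)
    (hR : (R : Big) = (1 : A1) ⊗ₖ (1 + Cfsg.Agent.Lib.TensorOrthMax.Setup.eN f₂ v z)) (l : Fin 2) :
    crd f₂ v' t l R = -(f₂ z (t l)) • (1 : A1) := by
  refine Matrix.mulVec_injective (funext fun b => ?_)
  have hf := D.s2
  rw [D.crd_mulVec, hR, kron_apply, one_mulVec, D.ctr_ft, smul_mulVec, one_mulVec, add_mulVec, one_mulVec,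
    Cfsg.Agent.Lib.TensorOrthMax.Setup.eN_mulVec hf, h.v'v hf, hf.addL, hf.subL, hf.subL, hf.smulL, hf.smulL,
    hf.smulL, hf.comm (t l) v', h.tv', hf.comm (t l) v, h.tv]
  congr 1
  ring

/-- Conjugating by a half-turn. -/
theorem tr_J {x j : G} {u : V1} {s : F} (hx : Tr f₂ M v x) (hj : j ∈ M) (hju : JEl f₁ j u s) :
    Tr f₂ M v (j * x * j) ∧ ∀ l, crd f₂ v' t l (j * x * j) = hu f₁ u * crd f₂ v' t l x * hu f₁ u := by
  have hs : s * s = 1 := by rcases hju.2.1 with rfl | rfl <;> ring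
  have hja : ∀ a w, (j : Big) *ᵥ tens a w = tens (s • (hu f₁ u *ᵥ a)) w := fun a w => by
    rw [hju.2.2, kron_apply, smul_mulVec, one_mulVec, tens_smul_right, tens_smul_left]
  have hhh : ∀ a, hu f₁ u *ᵥ (hu f₁ u *ᵥ a) = a := fun a => by
    rw [mulVec_mulVec, hu_mul_self D.s1 hju.1, one_mulVec]
  have hjj : ∀ y, (j : Big) *ᵥ ((j : Big) *ᵥ y) = y := fun y => by
    rw [← gl_mul_mulVec, D.J_mul_self hju, Units.val_one, one_mulVec]
  have hctr : ∀ φ y, ctr φ ((j : Big) *ᵥ y) = s • (hu f₁ u *ᵥ ctr φ y) := fun φ y => by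
    conv_lhs => rw [D.expand h y]
    conv_rhs => rw [D.expand h y]
    simp only [mulVec_add, ctr_add, hja, ctr_tens, mulVec_smul, smul_add, smul_smul]
    module
  refine ⟨⟨M.mul_mem (M.mul_mem hj hx.mem) hj, fun a => ?_, fun y hy => ?_⟩, fun l => ?_⟩
  · rw [gl_mul_mulVec, gl_mul_mulVec, hja, hx.fix, hja, mulVec_smul, hhh, smul_smul, hs, one_smul]
  · obtain ⟨a, ha⟩ := hx.shift ((j : Big) *ᵥ y) (by rw [hctr, hy, mulVec_zero, smul_zero])
    exact ⟨_, by rw [gl_mul_mulVec, gl_mul_mulVec, ha, mulVec_add, hjj, hja]⟩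
  · refine Matrix.mulVec_injective (funext fun b => ?_)
    rw [D.crd_mulVec, gl_mul_mulVec, gl_mul_mulVec, hja, hctr, tens_smul_left, mulVec_smul, ctr_smul,
      ← D.crd_mulVec, ← mulVec_mulVec, ← mulVec_mulVec, mulVec_smul, smul_smul, hs, one_smul]

omit h in
theorem frame_pick {A : A1} (hA : ∀ c : F, A ≠ c • 1) :
    ∃ e : Fin 3 → V1, Frame f₁ e ∧ f₁ (A *ᵥ e 0) (e 1) ≠ 0 := by
  have hf := D.s1
  obtain ⟨u, hu0, hu1⟩ : ∃ u, f₁ u u ≠ 0 ∧ ∀ c : F, A *ᵥ u ≠ c • u := by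
    by_contra hc
    push Not at hc
    obtain ⟨e, he⟩ := exists_frame hf
    choose lam hlam using fun i => hc (e i) (he.ne i)
    have heq : ∀ i j, lam i = lam j := fun i j => by
      rcases eq_or_ne i j with rfl | hij
      · rfl
      obtain ⟨s, hs, hs2⟩ := exists_sq_ne D.q5 (-(f₁ (e i) (e i) / f₁ (e j) (e j)))
      have hw : f₁ (e i + s • e j) (e i + s • e j) ≠ 0 := fun e0 => hs2 (by
        rw [hf.expand, he.orth i j hij] at e0
        field_simp [he.ne j]
        linear_combination e0)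
      obtain ⟨μ, hμ⟩ := hc _ hw
      rw [mulVec_add, mulVec_smul, hlam, hlam] at hμ
      have h1 := congrArg (fun w => f₁ w (e i)) hμ
      have h2 := congrArg (fun w => f₁ w (e j)) hμ
      simp only [hf.addL, hf.smulL, he.orth i j hij, he.orth j i hij.symm, mul_zero, add_zero, zero_add] at h1 h2
      have e1 : lam i = μ := mul_right_cancel₀ (he.ne i) h1
      have e2 : lam j = μ := mul_right_cancel₀ (mul_ne_zero hs (he.ne j)) (by linear_combination h2)
      rw [e1, e2]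
    exact hA (lam 0) (he.mat_ext hf fun i => by rw [hlam, heq i 0, smul_mulVec, one_mulVec])
  obtain ⟨e, he, hex⟩ := exists_extend hf (e := fun _ : Fin 1 => u)
    ⟨fun i j h => absurd (Subsingleton.elim i j) h, fun _ => hu0⟩ (by omega : 1 ≤ 3)
  have h0 : e 0 = u := hex 0
  by_cases h1 : f₁ (A *ᵥ e 0) (e 1) = 0
  · refine ⟨e ∘ Equiv.swap 1 2, ⟨fun i j hij => he.orth _ _ fun e' => hij ((Equiv.swap 1 2).injective e'),
      fun i => he.ne _⟩, fun h2 => hu1 (f₁ (A *ᵥ u) u / f₁ u u) (he.ext hf fun i => ?_)⟩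
    simp only [Function.comp_apply, Equiv.swap_apply_left,
      Equiv.swap_apply_of_ne_of_ne (show (0 : Fin 3) ≠ 1 by decide) (show (0 : Fin 3) ≠ 2 by decide)] at h2
    rw [h0] at h1 h2
    rw [hf.smulL]
    fin_cases i
    · simp [h0, div_mul_cancel₀ _ hu0]
    · simp [h1, h0 ▸ he.orth 0 1 (by decide)]
    · simp [h2, h0 ▸ he.orth 0 2 (by decide)]
  · exact ⟨e, he, h1⟩

/-- An element of the radical outside the stabiliser gives a non-trivial central one. -/
theorem exists_cen {x : G} (hx : Tr f₂ M v x) (hk : x ∉ Cfsg.Geo.kroneckerSubgroup 3 4 F) :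
    ∃ S, S ≠ 0 ∧ Cen f₂ M v S := by
  have hf := D.s1
  by_cases hsc : ∀ l, ∃ c : F, crd f₂ v' t l x = c • 1
  · choose c hc using hsc
    set z := (c 0 / f₂ (t 0) (t 0)) • t 0 + (c 1 / f₂ (t 1) (t 1)) • t 1 with hz
    have hzv : f₂ z v = 0 := by simp [hz, D.s2.addL, D.s2.smulL, h.tv]
    have hzt : ∀ l, f₂ z (t l) = c l := fun l => by
      fin_cases l <;>
        simp [hz, D.s2.addL, D.s2.smulL, h.torth, h.t10 D.s2, div_mul_cancel₀, h.tne]
    obtain ⟨R, hRM, hRT, hR⟩ := D.exists_R h hzv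
    have hC : ∀ l, crd f₂ v' t l (x * R) = 0 := fun l => by
      rw [D.crd_mul h hx hRT, hc, D.crd_R h hzv hR, hzt, ← add_smul, add_neg_cancel, zero_smul]
    refine ⟨_, fun h0 => hk ?_, D.cen_of h (D.tr_mul hx hRT) hC⟩
    have hone : x * R = 1 := gl_ext fun y => by
      rw [D.central h (D.tr_mul hx hRT) hC, h0, zero_mulVec, tens_zero_left, add_zero, Units.val_one, one_mulVec]
    rw [eq_inv_of_mul_eq_one_left hone]
    exact inv_mem (mem_kron hR)
  push Not at hsc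
  obtain ⟨l0, hl0⟩ := hsc
  by_cases hsa : ∃ l b c, f₁ b (crd f₂ v' t l x *ᵥ c) ≠ f₁ (crd f₂ v' t l x *ᵥ b) c
  · obtain ⟨l, b, c, hbc⟩ := hsa
    obtain ⟨R, hRM, hRT, hR⟩ := D.exists_R h (h.tv l)
    obtain ⟨S, hS, hSbc⟩ := D.cen_comm h hx hRT
    refine ⟨S, fun e => hbc ?_, hS⟩
    have h1 := hSbc b c
    simp only [e, zero_mulVec, hf.zeroL, pr, D.crd_R h (h.tv l) hR, smul_mulVec, one_mulVec, hf.smulL,
      hf.smulR] at h1
    rw [Finset.sum_eq_single l (fun m _ hm => by rw [h.orth_t D.s2 (Ne.symm hm)]; ring)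
      (fun h => absurd (Finset.mem_univ l) h), Finset.sum_eq_single l
      (fun m _ hm => by rw [h.orth_t D.s2 (Ne.symm hm)]; ring)
      (fun h => absurd (Finset.mem_univ l) h)] at h1
    field_simp [h.tne l] at h1
    linear_combination -h1
  push Not at hsa
  obtain ⟨e, he, hm0⟩ := D.frame_pick hl0
  set m : Fin 2 → F := fun l => f₁ (crd f₂ v' t l x *ᵥ e 0) (e 1) with hm
  obtain ⟨j0, hj0, s0, hJ0⟩ := D.exists_J (he.ne 0)
  obtain ⟨j2, hj2, s2, hJ2⟩ := D.exists_J (he.ne 2)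
  obtain ⟨hx0, hC0⟩ := D.tr_J h hx hj0 hJ0
  have hx1 := D.tr_mul hx (D.tr_inv hx0)
  set x1 : G := x * (j0 * x * j0)⁻¹
  obtain ⟨hx12, hC2⟩ := D.tr_J h hx1 hj2 hJ2
  have hx2 := D.tr_mul hx1 hx12
  set x2 : G := x1 * (j2 * x1 * j2)
  have hsym : ∀ l b c, f₁ (crd f₂ v' t l x *ᵥ b) c = f₁ (crd f₂ v' t l x *ᵥ c) b := fun l b c => by
    rw [← hsa, hf.comm]
  have hent : ∀ l i k (η η' : Fin 3 → F), (∀ p, hu f₁ (e 0) *ᵥ e p = η p • e p) →
      (∀ p, hu f₁ (e 2) *ᵥ e p = η' p • e p) → f₁ (crd f₂ v' t l x2 *ᵥ e i) (e k) =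
        (1 - η i * η k) * (1 + η' i * η' k) * f₁ (crd f₂ v' t l x *ᵥ e i) (e k) := by
    intro l i k η η' hη hη'
    have hiso : ∀ {u : V1}, f₁ u u ≠ 0 → ∀ p q, f₁ (hu f₁ u *ᵥ p) q = f₁ p (hu f₁ u *ᵥ q) :=
      fun {u} hu0 p q => by
        rw [← hu_iso hf hu0 p (hu f₁ u *ᵥ q), mulVec_mulVec q, hu_mul_self hf hu0, one_mulVec]
    have h1 : ∀ p q, f₁ (crd f₂ v' t l x1 *ᵥ e p) (e q) =
        (1 - η p * η q) * f₁ (crd f₂ v' t l x *ᵥ e p) (e q) := fun p q => by
      rw [D.crd_mul h hx (D.tr_inv hx0), D.crd_inv h hx0, hC0, add_mulVec, neg_mulVec, hf.addL, hf.negL,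
        ← mulVec_mulVec, ← mulVec_mulVec, hη, mulVec_smul, mulVec_smul, hf.smulL, hiso (he.ne 0), hη, hf.smulR]
      ring
    rw [D.crd_mul h hx1 hx12, hC2, add_mulVec, hf.addL, ← mulVec_mulVec, ← mulVec_mulVec, hη', mulVec_smul,
      mulVec_smul, hf.smulL, hiso (he.ne 2), hη', hf.smulR, h1]
    ring
  have hη0 : ∀ p, hu f₁ (e 0) *ᵥ e p = (![1, -1, -1] : Fin 3 → F) p • e p := fun p => by
    fin_cases p
    · simp [hu_self hf (he.ne 0)]
    · simp [hu_perp hf (he.ne 0) (he.orth 1 0 (by decide))]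
    · simp [hu_perp hf (he.ne 0) (he.orth 2 0 (by decide))]
  have hη2 : ∀ p, hu f₁ (e 2) *ᵥ e p = (![-1, -1, 1] : Fin 3 → F) p • e p := fun p => by
    fin_cases p
    · simp [hu_perp hf (he.ne 2) (he.orth 0 2 (by decide))]
    · simp [hu_perp hf (he.ne 2) (he.orth 1 2 (by decide))]
    · simp [hu_self hf (he.ne 2)]
  have hval : ∀ l, crd f₂ v' t l x2 *ᵥ e 2 = 0 ∧
      crd f₂ v' t l x2 *ᵥ e 0 = (4 * m l / f₁ (e 1) (e 1)) • e 1 := fun l => by
    constructor <;> refine he.ext hf fun k => ?_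
    · rw [hent l 2 k _ _ hη0 hη2, hf.zeroL]
      fin_cases k <;> simp
    · rw [hent l 0 k _ _ hη0 hη2, hf.smulL]
      fin_cases k
      · simp [he.orth 1 0 (by decide)]
      · simp [hm]
        field_simp [he.ne 1]
        ring
      · simp [he.orth 1 2 (by decide)]
  obtain ⟨s, hs, hs2'⟩ := exists_sq_ne D.q5 (-(f₁ (e 0) (e 0) / f₁ (e 2) (e 2)))
  set u := e 0 + s • e 2 with hu'
  have hu0 : f₁ u u ≠ 0 := fun e0 => hs2' (by
    rw [hu', hf.expand, he.orth 0 2 (by decide)] at e0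
    field_simp [he.ne 2]
    linear_combination e0)
  obtain ⟨j, hj, sj, hJ⟩ := D.exists_J hu0
  obtain ⟨hy, hCy⟩ := D.tr_J h hx2 hj hJ
  set α := 2 / f₁ u u * (s * f₁ (e 2) (e 2)) with hα
  have hα0 : α ≠ 0 := mul_ne_zero (div_ne_zero hf.two hu0) (mul_ne_zero hs (he.ne 2))
  have hhe2 : hu f₁ u *ᵥ e 2 = α • e 0 + (α * s - 1) • e 2 := by
    rw [hu_mulVec hf hu0, show f₁ (e 2) u = s * f₁ (e 2) (e 2) by
      rw [hu', hf.addR, hf.smulR, he.orth 2 0 (by decide), zero_add], hu', hα]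
    module
  have hhe1 : hu f₁ u *ᵥ e 1 = -e 1 := hu_perp hf hu0 (by
    rw [hu', hf.addR, hf.smulR, he.orth 1 0 (by decide), he.orth 1 2 (by decide)]; ring)
  obtain ⟨S, hS, hSbc⟩ := D.cen_comm h hx2 hy
  refine ⟨S, fun e0 => ?_, hS⟩
  have h1 := hSbc (e 2) (e 0)
  have hy2 : ∀ l, crd f₂ v' t l (j * x2 * j) *ᵥ e 2 = -((α * (4 * m l / f₁ (e 1) (e 1))) • e 1) := fun l => by
    rw [hCy, ← mulVec_mulVec, ← mulVec_mulVec, hhe2, mulVec_add, mulVec_smul, mulVec_smul, (hval l).1,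
      (hval l).2, smul_zero, add_zero, smul_smul, mulVec_smul, hhe1, smul_neg]
  simp only [e0, zero_mulVec, hf.zeroL, pr, hy2, (hval _).1, (hval _).2, hf.negL, hf.smulL, hf.smulR,
    mul_zero, Finset.sum_const_zero, zero_sub] at h1
  have hsum : ∑ l, (m l / f₂ (t l) (t l)) * (m l / f₂ (t l) (t l)) * f₂ (t l) (t l) = 0 := by
    have h4 : α * (4 * 4) / f₁ (e 1) (e 1) ≠ 0 :=
      div_ne_zero (mul_ne_zero hα0 (mul_ne_zero D.four D.four)) (he.ne 1)
    refine (mul_eq_zero.1 ?_).resolve_left h4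
    rw [Fin.sum_univ_two] at h1 ⊢
    have := h.tne 0
    have := h.tne 1
    have := he.ne 1
    field_simp at h1 ⊢
    linear_combination -h1
  have := congrFun (h.aniso _ hsum) l0
  exact hm0 ((div_eq_zero_iff.1 this).resolve_right (h.tne l0))

/-- A non-trivial central element gives all of them. -/
theorem cen_biv {S : A1} (hS : Cen f₂ M v S) (hS0 : S ≠ 0) (p q : V1) : Cen f₂ M v (biv f₁ p q) := by
  have hf := D.s1
  obtain ⟨e, he⟩ := exists_frame hf
  let P : Fin 3 → Fin 3 → Prop := fun i k => Cen f₂ M v (biv f₁ (e i) (e k))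
  have hP : ∀ i k, P i k → P k i := fun i k hp => by
    show Cen f₂ M v _
    rw [biv_swap hf]
    exact D.cen_neg h.vv hp
  have hJ : ∀ {u : V1}, f₁ u u ≠ 0 → ∀ {T : A1}, Cen f₂ M v T → Cen f₂ M v (hu f₁ u * T * hu f₁ u) :=
    fun {u} hu0 {T} hT => by
      obtain ⟨j, hj, s, hjs⟩ := D.exists_J hu0
      have := D.cen_conj hT hj (Data.JEl.rot D hjs) (c := s) (v₂ := v) (by rw [smul_mulVec, one_mulVec])
        (a' := hu f₁ u) (hu_mul_self hf hu0)
      rwa [show s * s = 1 by rcases hjs.2.1 with rfl | rfl <;> ring, one_smul] at this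
  obtain ⟨i, k, l, hik, hil, hkl, hcases, hP0⟩ :
      ∃ i k l, i ≠ k ∧ i ≠ l ∧ k ≠ l ∧ (∀ r, r = i ∨ r = k ∨ r = l) ∧ P i k := by
    obtain ⟨i, k, hik⟩ : ∃ i k, f₁ (S *ᵥ e i) (e k) ≠ 0 := by
      by_contra hc
      push Not at hc
      exact hS0 (he.mat_ext hf fun i => he.ext hf fun k => by rw [hc, zero_mulVec, hf.zeroL])
    have hne : i ≠ k := fun e0 => hik (by
      subst e0
      have := D.cen_skew h hS (e i) (e i)
      exact (mul_eq_zero.1 (show (2 : F) * f₁ (S *ᵥ e i) (e i) = 0 by linear_combination this)).resolve_left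
        hf.two)
    obtain ⟨l, hli, hlk, hcases⟩ := exists_third i k hne
    refine ⟨i, k, l, hne, hli.symm, hlk.symm, hcases, ?_⟩
    have hT := D.cen_add h.vv hS (hJ (he.ne l) hS)
    set T := S + hu f₁ (e l) * S * hu f₁ (e l) with hTdef
    have hη : ∀ r, hu f₁ (e l) *ᵥ e r = (if r = l then 1 else -1 : F) • e r := fun r => by
      rcases eq_or_ne r l with rfl | hr
      · rw [hu_self hf (he.ne r), if_pos rfl, one_smul]
      · rw [hu_perp hf (he.ne l) (he.orth r l hr), if_neg hr, neg_one_smul]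
    have hTe : ∀ r r', f₁ (T *ᵥ e r) (e r') =
        (1 + (if r = l then 1 else -1) * (if r' = l then 1 else -1)) * f₁ (S *ᵥ e r) (e r') := fun r r' => by
      have e1 : f₁ (hu f₁ (e l) *ᵥ (S *ᵥ e r)) (e r') = f₁ (S *ᵥ e r) (hu f₁ (e l) *ᵥ e r') := by
        rw [← hu_iso hf (he.ne l) (S *ᵥ e r) (hu f₁ (e l) *ᵥ e r'), mulVec_mulVec (e r'),
          hu_mul_self hf (he.ne l), one_mulVec]
      rw [hTdef, add_mulVec, hf.addL, ← mulVec_mulVec, ← mulVec_mulVec, hη, mulVec_smul, mulVec_smul,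
        hf.smulL, e1, hη, hf.smulR]
      ring
    set β := -(2 * f₁ (S *ᵥ e i) (e k)) / (f₁ (e i) (e i) * f₁ (e k) (e k)) with hβ
    have hTβ : T = β • biv f₁ (e i) (e k) := by
      refine he.mat_ext hf fun r => he.ext hf fun r' => ?_
      rw [hTe, smul_mulVec, biv_mulVec hf, hf.smulL, hf.subL, hf.smulL, hf.smulL]
      have hsk := D.cen_skew h hS
      have hdiag : ∀ r, f₁ (S *ᵥ e r) (e r) = 0 := fun r =>
        (mul_eq_zero.1 (show (2 : F) * f₁ (S *ᵥ e r) (e r) = 0 by linear_combination hsk (e r) (e r))).resolve_left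
          hf.two
      have := he.ne i
      have := he.ne k
      rcases hcases r with rfl | rfl | rfl <;> rcases hcases r' with rfl | rfl | rfl <;>
        simp [hne, hne.symm, hli, hli.symm, hlk, hlk.symm, hdiag, he.orth, hβ] <;>
        (try rw [hsk (e r) (e r')]) <;> field_simp <;> ring
    have hβ0 : β ≠ 0 := div_ne_zero (neg_ne_zero.2 (mul_ne_zero hf.two hik))
      (mul_ne_zero (he.ne i) (he.ne k))
    have := D.cen_smul h hT β⁻¹
    rwa [hTβ, inv_smul_smul₀ hβ0] at this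
  have step : ∀ {i k l : Fin 3}, i ≠ k → i ≠ l → k ≠ l → P i k → P l k := fun {i k l} hik hil hkl hp => by
    obtain ⟨s, hs, hs2⟩ := exists_sq_ne D.q5 (-(f₁ (e i) (e i) / f₁ (e l) (e l)))
    set u := e i + s • e l with hu'
    have hu0 : f₁ u u ≠ 0 := fun e0 => hs2 (by
      rw [hu', hf.expand, he.orth i l hil] at e0
      field_simp [he.ne l]
      linear_combination e0)
    set α := 2 / f₁ u u * f₁ (e i) (e i) with hα
    have hei : hu f₁ u *ᵥ e i = (α - 1) • e i + (α * s) • e l := by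
      rw [hu_mulVec hf hu0, show f₁ (e i) u = f₁ (e i) (e i) by
        rw [hu', hf.addR, hf.smulR, he.orth i l hil, mul_zero, add_zero], hu', hα]
      module
    have hek : hu f₁ u *ᵥ e k = -e k := hu_perp hf hu0 (by
      rw [hu', hf.addR, hf.smulR, he.orth k i hik.symm, he.orth k l hkl]; ring)
    have h1 := hJ hu0 hp
    rw [biv_conj hf (hu_iso hf hu0) (hu_mul_self hf hu0), hei, hek, biv_add_left hf, biv_smul_left hf,
      biv_smul_left hf] at h1
    have hneg : ∀ r, biv f₁ (e r) (-e k) = -biv f₁ (e r) (e k) := fun r => by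
      rw [biv_swap hf (-e k), ← neg_one_smul F (e k), biv_smul_left hf, biv_swap hf (e r)]
      module
    rw [hneg, hneg] at h1
    have h2 := D.cen_smul h (D.cen_add h.vv h1 (D.cen_smul h hp (α - 1))) (-(α * s))⁻¹
    have hαs : α * s ≠ 0 := mul_ne_zero (mul_ne_zero (div_ne_zero hf.two hu0) (he.ne i)) hs
    show Cen f₂ M v _
    convert h2 using 1
    have hα0 : α ≠ 0 := left_ne_zero_of_mul hαs
    rw [smul_add, smul_add]
    match_scalars <;> field_simp
    all_goals ring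
  have hlk' : P l k := step hik hil hkl hP0
  have hli' : P l i := step hik.symm hkl hil (hP i k hP0)
  have hall : ∀ r r', Cen f₂ M v (biv f₁ (e r) (e r')) := fun r r' => by
    rcases hcases r with rfl | rfl | rfl <;> rcases hcases r' with rfl | rfl | rfl <;>
      first
      | (rw [biv_self hf]; exact D.cen_zero)
      | exact hP0
      | exact hP _ _ hP0
      | exact hlk'
      | exact hP _ _ hlk'
      | exact hli'
      | exact hP _ _ hli'
  let W : Submodule F A1 :=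
    { carrier := {T | Cen f₂ M v T}
      zero_mem' := D.cen_zero
      add_mem' := fun a b => D.cen_add h.vv a b
      smul_mem' := fun c _ a => D.cen_smul h a c }
  let L : V1 → V1 →ₗ[F] A1 := fun q =>
    { toFun := fun p => biv f₁ p q
      map_add' := fun a b => biv_add_left hf a b q
      map_smul' := fun c a => biv_smul_left hf c a q }
  have hsub : ∀ q, (∀ i, L q (e i) ∈ W) → ∀ p, L q p ∈ W := fun q hq p => by
    rw [← he.sum_coord hf p, map_sum]
    exact W.sum_mem fun i _ => by rw [map_smul]; exact W.smul_mem _ (hq i)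
  refine hsub q (fun i => ?_) p
  show biv f₁ (e i) q ∈ W
  rw [biv_swap hf]
  exact W.neg_mem (hsub (e i) (fun r => hall r i) q)

end Data

variable (D : Data f₁ f₂ Q M)
include D

/-- A radical outside the stabiliser gives every root element. -/
theorem Data.roots (hNR : ¬ NR f₂ M) {v : V2} (hv : v ≠ 0) (hvv : f₂ v v = 0) (p q : V1) :
    sieg Q (tens p v) (tens q v) ∈ M := by
  simp only [NR] at hNR
  push Not at hNR
  obtain ⟨w, hw, hww, x, hx, hxk⟩ := hNR
  obtain ⟨w', t, hb⟩ := exists_hb D.s2 D.minus hw hww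
  obtain ⟨S, hS0, hS⟩ := D.exists_cen hb hx hxk
  have hcw : ∀ p q, Cen f₂ M w (biv f₁ p q) := D.cen_biv hb hS hS0
  have hcv : ∀ p q, Cen f₂ M v (biv f₁ p q) := by
    intro p q
    by_cases hwv : f₂ w v = 0
    · obtain ⟨c, rfl⟩ := Submodule.mem_span_singleton.1 (D.minus w v hw hww hvv (by rwa [D.s2.comm]))
      have hc : c ≠ 0 := fun e => hv (by rw [e, zero_smul])
      have := D.cen_conj (hcw ((c * c)⁻¹ • p) q) M.one_mem D.rot_one (c := c⁻¹) (v₂ := c • w)
        (by rw [one_mulVec, inv_smul_smul₀ hc]) (a' := 1) (one_mul 1)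
      rw [one_mul, mul_one, biv_smul_left D.s1, smul_smul] at this
      have h2 := D.cen_conj (hcw p q) M.one_mem D.rot_one (c := c⁻¹) (v₂ := c • w)
        (by rw [one_mulVec, inv_smul_smul₀ hc]) (a' := 1) (one_mul 1)
      obtain ⟨v', t', hb'⟩ := exists_hb D.s2 D.minus hv hvv
      have h3 := D.cen_smul hb' h2 (c * c)
      rwa [one_mul, mul_one, smul_smul, show c * c * (c⁻¹ * c⁻¹) = 1 by field_simp, one_smul] at h3
    have hf := D.s2
    have hp2 : Pair f₂ (w + v) (w - v) := by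
      refine ⟨?_, ?_, ?_⟩
      · rw [hf.addL, hf.addR, hf.addR, hww, hvv, hf.comm w v]
        rw [show (0 : F) + f₂ w v + (f₂ w v + 0) = 2 * f₂ w v by ring]; exact mul_ne_zero hf.two hwv
      · rw [hf.subL, hf.subR, hf.subR, hww, hvv, hf.comm w v]
        rw [show (0 : F) - f₂ w v - (f₂ w v - 0) = -(2 * f₂ w v) by ring]
        exact neg_ne_zero.2 (mul_ne_zero hf.two hwv)
      · rw [hf.addL, hf.subR, hf.subR, hww, hvv, hf.comm w v]; ring
    obtain ⟨e, he, hex⟩ := exists_extend hf (e := ![w + v, w - v])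
      ⟨fun i j h => by
        fin_cases i <;> fin_cases j <;> first | exact absurd rfl h | exact hp2.orth |
          exact (hf.comm _ _).trans hp2.orth,
       fun i => by fin_cases i <;> [exact hp2.ne; exact hp2.ne']⟩ (by omega : 2 ≤ 4)
    have r0 : f₂ (e 2) (w + v) = 0 := by rw [← show e 0 = w + v from hex 0]; exact he.orth 2 0 (by decide)
    have r1 : f₂ (e 2) (w - v) = 0 := by rw [← show e 1 = w - v from hex 1]; exact he.orth 2 1 (by decide)
    rw [hf.addR] at r0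
    rw [hf.subR] at r1
    have hrw : f₂ w (e 2) = 0 := by
      rw [hf.comm]
      exact (mul_eq_zero.1 (show (2 : F) * f₂ (e 2) w = 0 by linear_combination r0 + r1)).resolve_left hf.two
    set b := refl f₂ (w - v) * refl f₂ (e 2) with hbdef
    have hbw : b *ᵥ w = v := by
      rw [hbdef, ← mulVec_mulVec, refl_fix hf hrw, refl_mulVec hf,
        show f₂ (w - v) (w - v) = -(2 * f₂ w v) by
          simp only [hf.subL, hf.subR, hww, hvv, hf.comm w v]; ring,
        show f₂ w (w - v) = -f₂ w v by simp only [hf.subR, hww]; ring]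
      have := hf.two
      match_scalars <;> field_simp <;> ring
    have hbd : b.det = 1 := by rw [hbdef, det_mul, det_refl hf hp2.ne', det_refl hf (he.ne 2)]; ring
    obtain ⟨g, hg, hr | hr⟩ := D.exists_rot (a := (1 : A1)) (fun x y => by rw [one_mulVec, one_mulVec])
      ((iso_refl hf hp2.ne').mul (iso_refl hf (he.ne 2))) det_one hbd
    · have := D.cen_conj (hcw p q) hg hr (c := 1) (v₂ := v) (by rw [hbw, one_smul]) (a' := 1) (one_mul 1)
      rwa [one_mul, one_mul, mul_one, one_smul] at this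
    · have := D.cen_conj (hcw p q) hg hr (c := -1) (v₂ := v) (by rw [neg_mulVec, hbw, neg_one_smul])
        (a' := 1) (one_mul 1)
      rwa [one_mul, neg_mul_neg, one_mul, mul_one, one_smul] at this
  obtain ⟨g, hg, hgz⟩ := hcv q p
  have hQ : ∀ u : V1, Q (tens u v) = 0 := fun u => by
    have h1 := D.tensB u v u v
    rw [B_self D.form, hvv, mul_zero] at h1
    exact (mul_eq_zero.1 h1).resolve_left D.two
  have : sieg Q (tens p v) (tens q v) = g := gl_ext fun z => by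
    rw [sieg_mulVec D.form (hQ p) (by rw [D.tensB, hvv, mul_zero]), hgz, D.B_left, D.B_left, hQ q,
      biv_mulVec D.s1, tens_sub_left, tens_smul_left, tens_smul_left]
    module
  rw [this]
  exact hg

end Cfsg.Agent.Lib.OmegaTwelve.ThreeFour
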